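import Cfsg.Agent.H577.CABasic
import Cfsg.Agent.Solvable.UniqueOrderP

/-!
# Minimal non-CA groups: abelian normal subgroups are central
-/

set_option autoImplicit false

namespace Cfsg.Agent.H577

open Subgroup

universe u

variable {G : Type u} [Group G]

theorem commute_conj_iff {g x y : G} : Commute (g * x * g⁻¹) y ↔ Commute x (g⁻¹ * y * g) := by
  constructor
  · intro h
    have h1 : g * x * g⁻¹ * y = y * (g * x * g⁻¹) := h
    change x * (g⁻¹ * y * g) = g⁻¹ * y * g * x
    calc x * (g⁻¹ * y * g) = g⁻¹ * (g * x * g⁻¹ * y) * g := by group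
      _ = g⁻¹ * y * g * x := by rw [h1]; group
  · intro h
    have h1 : x * (g⁻¹ * y * g) = g⁻¹ * y * g * x := h
    change g * x * g⁻¹ * y = y * (g * x * g⁻¹)
    calc g * x * g⁻¹ * y = g * (x * (g⁻¹ * y * g)) * g⁻¹ := by group
      _ = y * (g * x * g⁻¹) := by rw [h1]; group

/-- A maximal normal-type argument: adjoining one element to a proper centralizer. -/
theorem centralizer_comm_of_abelian [Finite G] (FT : FTh.{u}) (hm : MinCA G) (hns : ¬ Group.IsSolvable G)
    (D : Subgroup G) [hDn : D.Normal] (hDc : ∀ a ∈ D, ∀ b ∈ D, Commute a b) (hnc : ¬ D ≤ center G) :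
    ∀ a ∈ centralizer (D : Set G), ∀ b ∈ centralizer (D : Set G), Commute a b := by
  by_contra hcon
  push Not at hcon
  obtain ⟨a, ha, b, hb, hab⟩ := hcon
  obtain ⟨d, hd, hdc⟩ := SetLike.not_le_iff_exists.1 hnc
  set C := centralizer (D : Set G) with hC
  have hmd : ∀ {x e : G}, x ∈ C → e ∈ D → Commute x e := fun {x e} hx he =>
    (mem_centralizer_iff.1 hx e he).symm
  have hCtop : C ≠ ⊤ := by
    intro h
    apply hdc
    rw [mem_center_iff]
    intro g
    exact hmd (h ▸ mem_top g) hd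
  set M := centralizer ({d} : Set G) with hM
  have hMtop : M ≠ ⊤ := by
    intro h
    apply hdc
    rw [mem_center_iff]
    intro g
    have h1 : g ∈ M := by rw [h]; exact mem_top g
    exact mem_centralizer_singleton_iff.1 h1
  have hDM : ∀ e ∈ D, e ∈ M := fun e he => mem_centralizer_singleton_iff.2 (hDc e he d hd)
  have hMC : M = C := by
    apply le_antisymm
    · intro y hy
      rw [hC, mem_centralizer_iff]
      intro e he
      exact (hm.fact hMtop (hDM e he) (mem_centralizer_singleton_iff.2 (hmd ha hd))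
        (mem_centralizer_singleton_iff.2 (hmd hb hd)) (hmd ha he) (hmd hb he) hab hy).symm
    · intro y hy
      exact mem_centralizer_singleton_iff.2 (hmd hy hd)
  have hdC : d ∈ C := by rw [← hMC]; exact hDM d hd
  -- `C` is a maximal subgroup
  have hmax : ∀ H : Subgroup G, C ≤ H → H ≠ ⊤ → H ≤ C := by
    intro H hCH hH y hy
    rw [← hMC, hM, mem_centralizer_singleton_iff]
    exact hm.fact hH (hCH hdC) (hCH ha) (hCH hb) (hmd ha hd) (hmd hb hd) hab hy
  have hCn : C.Normal := by rw [hC]; infer_instance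
  -- hence `C` is not solvable
  have hCns : ¬ Group.IsSolvable C := by
    intro hCs
    obtain ⟨g, hg⟩ : ∃ g, g ∉ C := by
      by_contra h
      push Not at h
      exact hCtop (eq_top_iff.2 fun x _ => h x)
    have h1 : C ⊔ zpowers g = ⊤ := by
      by_contra h
      exact hg (hmax _ le_sup_left h ((le_sup_right : zpowers g ≤ C ⊔ zpowers g) (mem_zpowers g)))
    have h2 := solvable_sup C (zpowers g) hCs (solvable_of_comm fun a b => by
      obtain ⟨i, hi⟩ := mem_zpowers_iff.1 a.2
      obtain ⟨j, hj⟩ := mem_zpowers_iff.1 b.2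
      apply Subtype.ext
      change (a : G) * b = b * a
      rw [← hi, ← hj]
      exact (Commute.refl g).zpow_zpow i j)
    rw [h1] at h2
    exact hns (solvable_top_iff.1 h2)
  apply hCns
  obtain ⟨Q⟩ : Nonempty (Sylow 2 C) := Sylow.nonempty
  by_cases hQn : (Q : Subgroup C).Normal
  · exact solvable_of_sylow_le FT (Q : Subgroup C) (solvable_of_isPGroup Q.isPGroup') Q le_rfl
  set Q' := (Q : Subgroup C).map C.subtype with hQ'
  set N := normalizer (Q' : Set G) with hN
  have hfr : N ⊔ C = ⊤ := Sylow.normalizer_sup_eq_top Q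
  have hNtop : N ≠ ⊤ := by
    intro h
    apply hQn
    refine ⟨fun x hx g => ?_⟩
    have h1 : (g : G) ∈ N := h ▸ mem_top _
    have h2 : (x : G) ∈ Q' := ⟨x, hx, rfl⟩
    obtain ⟨z, hz, hzx⟩ := (mem_normalizer_iff.1 h1 _).1 h2
    have h3 : g * x * g⁻¹ = z := Subtype.ext hzx.symm
    rw [h3]
    exact hz
  obtain ⟨g, hgN, hgC⟩ : ∃ g ∈ N, g ∉ C := by
    by_contra h
    push Not at h
    have : N ≤ C := h
    rw [sup_eq_right.2 this] at hfr
    exact hCtop hfr
  have hdN : d ∈ N := by
    rw [hN, mem_normalizer_iff]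
    intro x
    constructor
    · rintro ⟨z, hz, rfl⟩
      have : d * (z : G) * d⁻¹ = z := by
        rw [← (hmd z.2 hd).eq]; group
      change d * (z : G) * d⁻¹ ∈ Q'
      rw [this]
      exact ⟨z, hz, rfl⟩
    · rintro ⟨z, hz, hzx⟩
      have h1 : x = z := by
        have h2 : x = d⁻¹ * (z : G) * d := by
          change (z : G) = _ at hzx
          rw [hzx]; group
        rw [h2, mul_assoc, (hmd z.2 hd).eq]; group
      rw [h1]
      exact ⟨z, hz, rfl⟩
  have hgd : ¬ Commute g d := fun h => hgC (by rw [← hMC]; exact mem_centralizer_singleton_iff.2 h)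
  -- `N_C(Q)` is abelian
  have hab' : ∀ x ∈ N, x ∈ C → ∀ y ∈ N, y ∈ C → Commute x y := fun x hx hxC y hy hyC =>
    hm N hNtop d hdN g hgN x hx y hy (hmd hxC hd) (hmd hyC hd) hgd
  apply solvable_of_normalizer_le FT Q
  intro x hx
  rw [mem_centralizer_iff]
  have hxN : (x : G) ∈ N := by
    rw [hN, mem_normalizer_iff]
    intro y
    constructor
    · rintro ⟨z, hz, rfl⟩
      exact ⟨x * z * x⁻¹, (mem_normalizer_iff.1 hx z).1 hz, rfl⟩
    · rintro ⟨z, hz, hzy⟩
      refine ⟨x⁻¹ * z * x, ?_, ?_⟩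
      · refine (mem_normalizer_iff.1 hx _).2 ?_
        rw [show x * (x⁻¹ * z * x) * x⁻¹ = z by group]
        exact hz
      · change (x : G)⁻¹ * z * x = y
        change (z : G) = _ at hzy
        rw [hzy]; group
  intro q hq
  apply Subtype.ext
  have hqN : (q : G) ∈ N := le_normalizer ⟨q, hq, rfl⟩
  exact hab' q hqN q.2 x hxN x.2

/-- **A2.** -/
theorem commute_of_fixed [Finite G] (hm : MinCA G) (D : Subgroup G)
    (hDc : ∀ a ∈ D, ∀ b ∈ D, Commute a b) {H : Subgroup G} (hH : H ≠ ⊤) (hDH : D ≤ H) {g : G}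
    (hg : g ∈ H) (hgC : g ∉ centralizer (D : Set G)) {d : G} (hd : d ∈ D) (hdg : Commute d g)
    {y : G} (hy : y ∈ H) : Commute y d := by
  rw [mem_centralizer_iff] at hgC
  push Not at hgC
  obtain ⟨e, he, hne⟩ := hgC
  exact hm.fact hH (hDH hd) hg (hDH he) hdg.symm (hDc e he d hd) (fun h => hne h.symm) hy

/-- **A3.** An element inducing an involution on `D` centralizes only central elements. -/
theorem mem_center_of_fixed [Finite G] (FT : FTh.{u}) (hm : MinCA G) (hns : ¬ Group.IsSolvable G)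
    (D : Subgroup G) [hDn : D.Normal] (hDc : ∀ a ∈ D, ∀ b ∈ D, Commute a b) (hnc : ¬ D ≤ center G)
    {t : G} (ht : t ∉ centralizer (D : Set G)) (ht2 : t * t ∈ centralizer (D : Set G)) {d : G}
    (hd : d ∈ D) (hdt : Commute d t) : d ∈ center G := by
  have hC := centralizer_comm_of_abelian FT hm hns D hDc hnc
  set C := centralizer (D : Set G) with hCdef
  have hCn : C.Normal := by rw [hCdef]; infer_instance
  have hDC : D ≤ C := fun x hx => mem_centralizer_iff.2 fun y hy => hDc y hy x hx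
  have hCs : Group.IsSolvable C := solvable_sub_of_comm hC
  -- the fixed points do not depend on the involution
  have key : ∀ s : G, s ∉ C → s * s ∈ C → ∀ d ∈ D, Commute d t → Commute d s := by
    intro s hs hs2 d hd hdt
    have h1 : Group.IsSolvable (C ⊔ closure {t, s} : Subgroup G) := by
      apply solvable_of_map C hCs
      have h2 : (C ⊔ closure {t, s}).map (QuotientGroup.mk' C) =
          closure {QuotientGroup.mk' C t, QuotientGroup.mk' C s} := by
        rw [Subgroup.map_sup]
        have : C.map (QuotientGroup.mk' C) = ⊥ := by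
          rw [Subgroup.map_eq_bot_iff, QuotientGroup.ker_mk']
        rw [this, bot_sup_eq, MonoidHom.map_closure, Set.image_pair]
      rw [h2]
      apply solvable_dihedral
      · rw [← map_mul]
        exact (QuotientGroup.eq_one_iff _).2 ht2
      · rw [← map_mul]
        exact (QuotientGroup.eq_one_iff _).2 hs2
    have h2 := ne_top_of_solvable hns h1
    have h3 : closure {t, s} ≤ C ⊔ closure {t, s} := le_sup_right
    exact (commute_of_fixed hm D hDc h2 (hDC.trans le_sup_left) (h3 (subset_closure (by simp))) ht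
      hd hdt (h3 (subset_closure (by simp)))).symm
  -- so they form a normal subgroup
  let D₁ : Subgroup G := D ⊓ centralizer ({t} : Set G)
  have hD₁ : D₁.Normal := by
    refine ⟨fun x hx g => ?_⟩
    obtain ⟨hx1, hx2⟩ := hx
    refine ⟨hDn.conj_mem x hx1 g, mem_centralizer_singleton_iff.2 ?_⟩
    apply commute_conj_iff.2
    apply key _ _ _ x hx1 (mem_centralizer_singleton_iff.1 hx2)
    · intro h
      apply ht
      have := hCn.conj_mem _ h g
      rwa [show g * (g⁻¹ * t * g) * g⁻¹ = t by group] at this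
    · have := hCn.conj_mem _ ht2 g⁻¹
      rwa [show g⁻¹ * (t * t) * g⁻¹⁻¹ = g⁻¹ * t * g * (g⁻¹ * t * g) by group] at this
  by_contra hdc
  have h1 := centralizer_comm_of_abelian FT hm hns D₁ (fun a ha b hb => hDc a ha.1 b hb.1)
    (fun h => hdc (h ⟨hd, mem_centralizer_singleton_iff.2 hdt⟩))
  apply ht
  rw [hCdef, mem_centralizer_iff]
  intro e he
  refine h1 e ?_ t ?_
  · rw [mem_centralizer_iff]
    intro y hy
    exact hDc y hy.1 e he
  · rw [mem_centralizer_iff]
    intro y hy
    exact mem_centralizer_singleton_iff.1 hy.2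

/-- such an element inverts `D` modulo the centre. -/
theorem mul_conj_mem_center [Finite G] (FT : FTh.{u}) (hm : MinCA G) (hns : ¬ Group.IsSolvable G)
    (D : Subgroup G) [hDn : D.Normal] (hDc : ∀ a ∈ D, ∀ b ∈ D, Commute a b) (hnc : ¬ D ≤ center G)
    {t : G} (ht : t ∉ centralizer (D : Set G)) (ht2 : t * t ∈ centralizer (D : Set G)) {d : G}
    (hd : d ∈ D) : t * d * t⁻¹ * d ∈ center G := by
  have hd' : t * d * t⁻¹ ∈ D := hDn.conj_mem d hd t
  apply mem_center_of_fixed FT hm hns D hDc hnc ht ht2 (mul_mem hd' hd)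
  have h1 : t * t * d = d * (t * t) := (mem_centralizer_iff.1 ht2 d hd).symm
  have h2 : t * (t * d * t⁻¹ * d) * t⁻¹ = t * d * t⁻¹ * d := by
    calc t * (t * d * t⁻¹ * d) * t⁻¹ = (t * t * d) * (t⁻¹ * t⁻¹) * (t * d * t⁻¹) := by group
      _ = d * (t * d * t⁻¹) := by rw [h1]; group
      _ = t * d * t⁻¹ * d := hDc d hd _ hd'
  change t * d * t⁻¹ * d * t = t * (t * d * t⁻¹ * d)
  calc t * d * t⁻¹ * d * t = (t * (t * d * t⁻¹ * d) * t⁻¹) * t := by rw [h2]
    _ = t * (t * d * t⁻¹ * d) := by group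

/-- **The final argument.** -/
theorem false_of_rank_one [Finite G] (FT : FTh.{u}) (hm : MinCA G) (hns : ¬ Group.IsSolvable G)
    (P C : Subgroup G) [hPn : P.Normal] [hCn : C.Normal] (hP : Group.IsSolvable P)
    (hC : Group.IsSolvable C) (S : Sylow 2 G)
    (hSC : ∀ s ∈ (S : Subgroup G), s ∈ C → s ∈ center G)
    (hP' : ∀ s ∈ (S : Subgroup G), s ∉ C → ∃ x ∈ P, ¬ Commute x s)
    (h2 : ∀ s ∈ (S : Subgroup G), ∀ t ∈ (S : Subgroup G), s * s ∈ C → t * t ∈ C →
      (s * t) * (s * t) ∈ C → s ∈ C ∨ t ∈ C ∨ s * t ∈ C) : False := by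
  apply hns
  set f := QuotientGroup.mk' C with hf
  have hker : ∀ x : G, f x = 1 ↔ x ∈ C := fun x => QuotientGroup.eq_one_iff x
  set T := (S : Subgroup G).map f with hT
  have hTp : IsPGroup 2 T := S.isPGroup'.map f
  by_cases hST : T = ⊥
  · apply solvable_of_sylow_le FT C hC S
    intro x hx
    rw [← hker]
    have : f x ∈ T := ⟨x, hx, rfl⟩
    rw [hST] at this
    exact (mem_bot.1 this)
  -- a central involution of the image
  have hTnt : Nontrivial T := (nontrivial_iff_ne_bot T).2 hST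
  have hcn : Nontrivial (center T) := hTp.center_nontrivial
  obtain ⟨u₀, hu₀⟩ : ∃ u : center T, orderOf u = 2 := by
    have hcp : IsPGroup 2 (center T) := hTp.to_subgroup _
    have : 2 ∣ Nat.card (center T) := by
      obtain ⟨n, hn⟩ := IsPGroup.iff_card.1 hcp
      rw [hn]
      apply dvd_pow_self
      rintro rfl
      rw [pow_zero] at hn
      have := Finite.one_lt_card (α := center T)
      omega
    exact exists_prime_orderOf_dvd_card' 2 this
  obtain ⟨t, ht, htu⟩ : ∃ t ∈ (S : Subgroup G), f t = ((u₀ : T) : G ⧸ C) := (u₀ : T).2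
  have htC : t ∉ C := by
    intro h
    rw [← hker, htu] at h
    have h1 : u₀ = 1 := Subtype.ext (Subtype.ext h)
    rw [h1, orderOf_one] at hu₀
    omega
  have ht2 : t * t ∈ C := by
    rw [← hker, map_mul, htu]
    have h1 : u₀ * u₀ = 1 := by
      rw [← pow_two, ← hu₀]
      exact pow_orderOf_eq_one u₀
    have h2 : ((u₀ : T) : G ⧸ C) * ((u₀ : T) : G ⧸ C) = (((u₀ * u₀ : center T) : T) : G ⧸ C) := rfl
    rw [h2, h1]
    rfl
  have htz : ∀ s ∈ (S : Subgroup G), f s * f t = f t * f s := by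
    intro s hs
    have h1 := mem_center_iff.1 u₀.2 ⟨f s, ⟨s, hs, rfl⟩⟩
    have h3 : f s * ((u₀ : T) : G ⧸ C) = ((u₀ : T) : G ⧸ C) * f s := congrArg (fun z : T => (z : G ⧸ C)) h1
    rw [htu]
    exact h3
  -- all of `S` commutes with `t`
  have hcomm : ∀ s ∈ (S : Subgroup G), Commute s t := by
    intro s hs
    by_cases hsC : s ∈ C
    · exact ((mem_center_iff.1 (hSC s hs hsC)) t).symm
    -- a power of `s` is an involution mod `C`
    obtain ⟨k, hk1, hk2⟩ : ∃ k : ℕ, s ^ k ∉ C ∧ (s ^ k) * (s ^ k) ∈ C := by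
      obtain ⟨n, hn⟩ := S.isPGroup' ⟨s, hs⟩
      have hn' : s ^ 2 ^ n = 1 := congrArg Subtype.val hn
      have hex : ∃ m : ℕ, s ^ 2 ^ m ∈ C := ⟨n, by rw [hn']; exact one_mem _⟩
      classical
      set m := Nat.find hex with hmdef
      have hm1 : s ^ 2 ^ m ∈ C := Nat.find_spec hex
      have hm0 : m ≠ 0 := by
        intro h
        rw [h, pow_zero, pow_one] at hm1
        exact hsC hm1
      refine ⟨2 ^ (m - 1), Nat.find_min hex (by omega), ?_⟩
      rw [← pow_add, ← two_mul, ← pow_succ', show m - 1 + 1 = m by omega]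
      exact hm1
    have hsk : s ^ k ∈ (S : Subgroup G) := pow_mem hs k
    have h3 : (s ^ k * t) * (s ^ k * t) ∈ C := by
      rw [← hker]
      have h4 : f (s ^ k) * f t = f t * f (s ^ k) := htz _ hsk
      have h5 : f (s ^ k) * f (s ^ k) = 1 := by rw [← map_mul, hker]; exact hk2
      have h6 : f t * f t = 1 := by rw [← map_mul, hker]; exact ht2
      rw [map_mul, map_mul]
      calc f (s ^ k) * f t * (f (s ^ k) * f t) = f (s ^ k) * (f t * f (s ^ k)) * f t := by group
        _ = (f (s ^ k) * f (s ^ k)) * (f t * f t) := by rw [← h4]; group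
        _ = 1 := by rw [h5, h6, one_mul]
    rcases h2 _ hsk t ht hk2 ht2 h3 with h | h | h
    · exact absurd h hk1
    · exact absurd h htC
    · have h7 := hSC _ (mul_mem hsk ht) h
      have h8 : Commute s (s ^ k * t) := mem_center_iff.1 h7 s
      have h9 : Commute s (s ^ k) := (Commute.refl s).pow_right k
      have h10 : Commute s ((s ^ k)⁻¹ * (s ^ k * t)) := h9.inv_right.mul_right h8
      rwa [inv_mul_cancel_left] at h10
  -- hence `S` is abelian
  have hHs : Group.IsSolvable (P ⊔ (S : Subgroup G) : Subgroup G) :=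
    solvable_sup P _ hP (solvable_of_isPGroup S.isPGroup')
  have hH := ne_top_of_solvable hns hHs
  obtain ⟨x, hxP, hxt⟩ := hP' t ht htC
  have hSab : ∀ a ∈ (S : Subgroup G), ∀ b ∈ (S : Subgroup G), Commute a b := by
    intro a ha b hb
    have hle : (S : Subgroup G) ≤ P ⊔ (S : Subgroup G) := le_sup_right
    have hle' : P ≤ P ⊔ (S : Subgroup G) := le_sup_left
    exact hm _ hH t (hle ht) x (hle' hxP) a (hle ha) b (hle hb) (hcomm a ha) (hcomm b hb) hxt
  apply solvable_of_cyclic_map FT C hC S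
  -- the image is cyclic
  have hTab : IsMulCommutative (⊤ : Subgroup T) := by
    refine ⟨⟨?_⟩⟩
    rintro ⟨⟨_, a, ha, rfl⟩, _⟩ ⟨⟨_, b, hb, rfl⟩, _⟩
    apply Subtype.ext
    apply Subtype.ext
    exact (hSab a ha b hb).map f
  have huniq : Cfsg.Agent.Solvable.UniqueOrderP.UniqueP 2 T := by
    rw [Cfsg.Agent.Solvable.UniqueOrderP.uniqueP_def]
    rintro ⟨_, a, ha, rfl⟩ ⟨_, b, hb, rfl⟩ hx1 hx2 hy2
    have hfa : f a * f a = 1 := by
      have := congrArg (fun z : T => (z : G ⧸ C)) hx2
      rwa [← pow_two]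
    have hfb : f b * f b = 1 := by
      have := congrArg (fun z : T => (z : G ⧸ C)) hy2
      rwa [← pow_two]
    have haC : a ∉ C := by
      intro h
      rw [← hker] at h
      exact hx1 (Subtype.ext h)
    have ha2 : a * a ∈ C := by rw [← hker, map_mul]; exact hfa
    have hb2 : b * b ∈ C := by rw [← hker, map_mul]; exact hfb
    have hab2 : (a * b) * (a * b) ∈ C := by
      have : (a * b) * (a * b) = (a * a) * (b * b) := by
        calc a * b * (a * b) = a * (b * a) * b := by group
          _ = a * (a * b) * b := by rw [(hSab a ha b hb).eq]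
          _ = (a * a) * (b * b) := by group
      rw [this]
      exact mul_mem ha2 hb2
    rcases h2 a ha b hb ha2 hb2 hab2 with h | h | h
    · exact absurd h haC
    · rw [← hker] at h
      have h1 : (⟨f b, ⟨b, hb, rfl⟩⟩ : T) = 1 := Subtype.ext h
      rw [h1]
      exact one_mem _
    · rw [← hker, map_mul] at h
      have h1 : f b = (f a)⁻¹ := (inv_eq_of_mul_eq_one_right h).symm
      have h3 : (⟨f b, ⟨b, hb, rfl⟩⟩ : T) = (⟨f a, ⟨a, ha, rfl⟩⟩ : T)⁻¹ := Subtype.ext h1
      rw [h3]
      exact inv_mem (mem_zpowers _)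
  obtain ⟨a, ha⟩ := Cfsg.Agent.Solvable.UniqueOrderP.exists_eq_zpowers_of_comm 2 hTp huniq ⊤ hTab
  exact ⟨⟨a, fun x => by
    have : x ∈ (⊤ : Subgroup T) := mem_top x
    rw [ha] at this
    exact this⟩⟩

end Cfsg.Agent.H577
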