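import Cfsg.Agent.H577.CASyl
import Cfsg.Agent.Lib.DihedralRecog
import Cfsg.Agent.Transfer.ThompsonTransfer

/-!
# Minimal non-CA groups: the Sylow 2-subgroups of `L / Z(L)`
-/

set_option autoImplicit false

namespace Cfsg.Agent.H577

open Subgroup Cfsg

universe u

variable {G : Type u} [Group G]

/-- the centre of the component -/
theorem coe_mem_center_iff {L : Subgroup G} (hcL : centralizer (L : Set G) = center G) {x : L} :
    x ∈ center L ↔ (x : G) ∈ center G := by
  constructor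
  · intro hx
    rw [← hcL, mem_centralizer_iff]
    intro y hy
    exact congrArg Subtype.val (mem_center_iff.1 hx ⟨y, hy⟩)
  · intro hx
    rw [mem_center_iff]
    intro y
    exact Subtype.ext (mem_center_iff.1 hx y)

/-- A 2-subgroup of `H` is conjugate in `H` into a given Sylow 2-subgroup contained in `H`. -/
theorem exists_conj_le_sylow {T : Type*} [Group T] [Finite T] {p : ℕ} [Fact p.Prime] {H : Subgroup T}
    (P : Sylow p T) (hP : (P : Subgroup T) ≤ H) {R : Subgroup T} (hR : IsPGroup p R) (hRH : R ≤ H) :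
    ∃ h ∈ H, ∀ x ∈ R, h * x * h⁻¹ ∈ (P : Subgroup T) := by
  have hR' : IsPGroup p (R.subgroupOf H) := hR.comap_subtype
  obtain ⟨Q, hQ⟩ := hR'.exists_le_sylow
  obtain ⟨h, hh⟩ := MulAction.exists_smul_eq H Q (P.subtype hP)
  refine ⟨h, h.2, fun x hx => ?_⟩
  have h1 : (⟨x, hRH hx⟩ : H) ∈ Q := hQ hx
  have h2 : h * ⟨x, hRH hx⟩ * h⁻¹ ∈ (P.subtype hP : Subgroup H) := by
    rw [← hh, Sylow.smul_def]
    exact ⟨_, h1, rfl⟩
  exact h2

/-- commutators of lifts are the same for congruent lifts -/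
theorem commute_congr_mul_center {x y u v : G} (hu : u ∈ center G) (hv : v ∈ center G) :
    Commute (x * u) (y * v) ↔ Commute x y := by
  have hu' : ∀ w, Commute u w := fun w => (mem_center_iff.1 hu w).symm
  have hv' : ∀ w, Commute v w := fun w => (mem_center_iff.1 hv w).symm
  constructor
  · intro h
    have h1 : Commute (x * u * u⁻¹) (y * v) := h.mul_left (hu' _).inv_left
    rw [mul_inv_cancel_right] at h1
    have h2 : Commute x (y * v * v⁻¹) := h1.mul_right (hv' _).symm.inv_right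
    rwa [mul_inv_cancel_right] at h2
  · intro h
    exact (h.mul_right (hv' _).symm).mul_left (hu' _)

theorem commute_congr_mk {L : Subgroup G} (hcL : centralizer (L : Set G) = center G) {x y x' y' : L}
    (hx : QuotientGroup.mk' (center L) x = QuotientGroup.mk' (center L) x')
    (hy : QuotientGroup.mk' (center L) y = QuotientGroup.mk' (center L) y') :
    Commute (x : G) (y : G) ↔ Commute (x' : G) (y' : G) := by
  rw [QuotientGroup.mk'_apply, QuotientGroup.mk'_apply, QuotientGroup.eq] at hx hy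
  have h1 := (coe_mem_center_iff hcL).1 hx
  have h2 := (coe_mem_center_iff hcL).1 hy
  have h3 : (x' : G) = x * ((x⁻¹ * x' : L) : G) := by push_cast; group
  have h4 : (y' : G) = y * ((y⁻¹ * y' : L) : G) := by push_cast; group
  rw [h3, h4]
  exact (commute_congr_mul_center h1 h2).symm

/-- `NC`: lifts of distinct commuting involutions of `Q/Z` do not commute. -/
def NC (L : Subgroup G) (Q : Subgroup L) : Prop :=
  ∀ u ∈ Q, ∀ v ∈ Q, QuotientGroup.mk' (center L) u ≠ 1 → QuotientGroup.mk' (center L) v ≠ 1 →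
    QuotientGroup.mk' (center L) u ≠ QuotientGroup.mk' (center L) v →
    QuotientGroup.mk' (center L) (u * u) = 1 → QuotientGroup.mk' (center L) (v * v) = 1 →
    ¬ Commute (u : G) (v : G)

/-- **D.** -/
theorem sylow_quot_cases [Finite G] (L : Subgroup G) (hL : IsQuasisimple L)
    (hcL : centralizer (L : Set G) = center G) (Q : Sylow 2 L) (S : Subgroup G)
    (hQS : (Q : Subgroup L).map L.subtype ≤ S) {z : G} (hz : SylStr G S z) :
    (∀ a ∈ (Q : Subgroup L).map (QuotientGroup.mk' (center L)),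
      ∀ b ∈ (Q : Subgroup L).map (QuotientGroup.mk' (center L)), a * b = b * a) ∨
    ((∃ n : ℕ, 2 ≤ n ∧
      Nonempty ((Q : Subgroup L).map (QuotientGroup.mk' (center L)) ≃* DihedralGroup n)) ∧
      NC L (Q : Subgroup L)) := by
  set q := QuotientGroup.mk' (center L) with hq
  have hker : ∀ x : L, q x = 1 ↔ x ∈ center L := fun x => QuotientGroup.eq_one_iff x
  have hker' : ∀ x : L, q x = 1 ↔ (x : G) ∈ center G := fun x =>
    (hker x).trans (coe_mem_center_iff hcL)
  have hqs : Function.Surjective q := QuotientGroup.mk'_surjective _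
  have hQS' : ∀ x ∈ (Q : Subgroup L), (x : G) ∈ S := fun x hx => hQS ⟨x, hx, rfl⟩
  have hzc : ∀ {z : G}, z ∈ center G → ∀ g, g * z = z * g := fun {z} hz g => mem_center_iff.1 hz g
  -- if all squares are central, then the quotient is abelian
  have hexp : (∀ x ∈ (Q : Subgroup L), ((x * x : L) : G) ∈ center G) →
      ∀ a ∈ (Q : Subgroup L).map q, ∀ b ∈ (Q : Subgroup L).map q, a * b = b * a := by
    intro hsq
    rintro _ ⟨a, ha, rfl⟩ _ ⟨b, hb, rfl⟩
    have h1 : q a * q a = 1 := by rw [← map_mul, hker']; exact hsq a ha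
    have h2 : q b * q b = 1 := by rw [← map_mul, hker']; exact hsq b hb
    have h3 : q a * q b * (q a * q b) = 1 := by
      rw [← map_mul, ← map_mul, hker']; exact hsq _ (mul_mem ha hb)
    calc q a * q b = q a * q b * (q b * q b) * (q a * q a) * (q a * q b * (q a * q b))⁻¹ := by
          rw [h1, h2, h3]; group
      _ = q b * q a := by
        have h4 : (q a * q b * (q a * q b))⁻¹ = (q b)⁻¹ * (q a)⁻¹ * (q b)⁻¹ * (q a)⁻¹ := by group
        have h5 : (q a)⁻¹ = q a := inv_eq_of_mul_eq_one_left h1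
        have h6 : (q b)⁻¹ = q b := inv_eq_of_mul_eq_one_left h2
        have h7 : q a * q b = q b * q a := by
          calc q a * q b = (q a * q b * (q a * q b)) * ((q b)⁻¹ * (q a)⁻¹) := by group
            _ = q b * q a := by rw [h3, one_mul, h5, h6]
        rw [h1, h2, h3, h7]; group
  by_cases h0 : ∀ y ∈ (Q : Subgroup L), Commute (y : G) z
  · left
    rintro _ ⟨a, ha, rfl⟩ _ ⟨b, hb, rfl⟩
    have h1 := hz.abel _ (hQS' a ha) (h0 a ha) _ (hQS' b hb) (h0 b hb)
    have h2 : a * b = b * a := Subtype.ext h1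
    rw [← map_mul, ← map_mul, h2]
  push Not at h0
  obtain ⟨y₀, hy₀, hy₀z⟩ := h0
  by_cases h1 : ∃ y ∈ (Q : Subgroup L), ∃ y' ∈ (Q : Subgroup L), ¬ Commute (y : G) z ∧
      ¬ Commute (y' : G) z ∧ ¬ Commute ((y * y' : L) : G) z
  · left
    obtain ⟨y, hy, y', hy', hyz, hyz', hyy⟩ := h1
    apply hexp
    intro x hx
    by_cases hxz : Commute (x : G) z
    · have hinv : ∀ w ∈ S, ¬ Commute w z → w * x * w⁻¹ * x ∈ center G := fun w hw hwz =>
        hz.inv_out w hw hwz x (hQS' x hx) hxz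
      have h2 := hinv _ (hQS' y' hy') hyz'
      have h3 := hinv _ (hQS' _ (mul_mem hy hy')) hyy
      have hx' : Commute ((y' : G) * x * (y' : G)⁻¹) z := by
        have h4 : (y' : G) * x * (y' : G)⁻¹ = ((y' : G) * x * (y' : G)⁻¹ * x) * (x : G)⁻¹ := by group
        rw [h4]
        exact (show Commute _ z from (mem_center_iff.1 h2 z).symm).mul_left hxz.inv_left
      have hxS : (y' : G) * x * (y' : G)⁻¹ ∈ S :=
        hQS' (y' * x * y'⁻¹) (mul_mem (mul_mem hy' hx) (inv_mem hy'))
      have h5 := hz.inv_out y (hQS' y hy) hyz _ hxS hx'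
      exact sq_mem_center_of_inv h2 h5 h3
    · exact hz.sq_out x (hQS' x hx) hxz
  push Not at h1
  by_cases h3 : ∀ a ∈ (Q : Subgroup L), Commute (a : G) z → ((a * a : L) : G) ∈ center G
  · left
    apply hexp
    intro x hx
    by_cases hxz : Commute (x : G) z
    · exact h3 x hx hxz
    · exact hz.sq_out x (hQS' x hx) hxz
  push Not at h3
  obtain ⟨a₀, ha₀, ha₀z, ha₀c⟩ := h3
  right
  -- the subgroup `A`
  let A : Subgroup L :=
    { carrier := {a | a ∈ (Q : Subgroup L) ∧ Commute (a : G) z}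
      one_mem' := ⟨one_mem _, Commute.one_left z⟩
      mul_mem' := fun {a b} ha hb => ⟨mul_mem ha.1 hb.1, by push_cast; exact ha.2.mul_left hb.2⟩
      inv_mem' := fun {a} ha => ⟨inv_mem ha.1, by push_cast; exact ha.2.inv_left⟩ }
  have hAQ : A ≤ Q := fun x hx => hx.1
  have hmemA : ∀ b ∈ (Q : Subgroup L), q b ∈ A.map q → Commute (b : G) z := by
    rintro b hb ⟨a, ha, hab⟩
    have h4 : q (a⁻¹ * b) = 1 := by rw [map_mul, map_inv, hab, inv_mul_cancel]
    rw [hker'] at h4
    have h5 : (b : G) = a * ((a⁻¹ * b : L) : G) := by push_cast; group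
    rw [h5]
    exact ha.2.mul_left (mem_center_iff.1 h4 z).symm
  have hy₀A : q y₀ ∉ A.map q := fun h => hy₀z (hmemA y₀ hy₀ h)
  have hy₀2 : q y₀ * q y₀ = 1 := by
    rw [← map_mul, hker']
    exact hz.sq_out y₀ (hQS' y₀ hy₀) hy₀z
  set P := Q.mapSurjective hqs with hP
  have hPeq : (P : Subgroup (L ⧸ center L)) = (Q : Subgroup L).map q := rfl
  have hAP : A.map q ≤ (P : Subgroup (L ⧸ center L)) := map_mono hAQ
  have hrel : (A.map q).relIndex (P : Subgroup (L ⧸ center L)) = 2 := by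
    change ((A.map q).subgroupOf (P : Subgroup (L ⧸ center L))).index = 2
    rw [index_eq_two_iff_exists_notMem_and]
    refine ⟨⟨q y₀, ⟨y₀, hy₀, rfl⟩⟩, hy₀A, ?_⟩
    rintro ⟨_, b, hb, rfl⟩
    by_cases hbz : Commute (b : G) z
    · right
      exact ⟨b, ⟨hb, hbz⟩, rfl⟩
    · left
      have h4 := h1 b hb y₀ hy₀ hbz hy₀z
      exact ⟨b * y₀, ⟨mul_mem hb hy₀, h4⟩, map_mul q b y₀⟩
  -- Thompson transfer
  have hsim : IsSimpleGroup (L ⧸ center L) := hL.2
  have hTns : ¬ Group.IsSolvable (L ⧸ center L) := by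
    intro h
    have h4 : Group.IsSolvable (center L) := solvable_of_comm fun a b =>
      Subtype.ext (mem_center_iff.1 b.2 a)
    exact Cfsg.Agent.SignalizersComponents.ComponentExists.not_isSolvable_of_isQuasisimple hL
      (solvable_of_quot (center L) h4 h)
  obtain ⟨g₀, hg₀⟩ : ∃ g, g * q y₀ * g⁻¹ ∈ A.map q := by
    rcases Transfer.ThompsonTransfer.thompson_transfer P (A.map q) hAP hrel (q y₀)
      (by rw [pow_two]; exact hy₀2) with ⟨M, hM, hMi, hyM⟩ | h
    · exfalso
      rcases hM.eq_bot_or_eq_top with h | h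
      · rw [h, index_bot] at hMi
        apply hTns
        apply solvable_of_comm
        have : Fact (Nat.Prime 2) := ⟨Nat.prime_two⟩
        have hc : IsCyclic (L ⧸ center L) := isCyclic_of_prime_card (p := 2) hMi
        intro a b
        exact hc.commGroup.mul_comm a b
      · exact hyM (h ▸ mem_top _)
    · exact h
  obtain ⟨ω, hω, hωeq⟩ := hg₀
  -- the key: involutions of `A / Z`
  have hω1 : q ω ≠ 1 := by
    intro h
    rw [h] at hωeq
    have : q y₀ = 1 := by
      calc q y₀ = g₀⁻¹ * (g₀ * q y₀ * g₀⁻¹) * g₀ := by group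
        _ = 1 := by rw [← hωeq]; group
    rw [hker'] at this
    exact hy₀z (mem_center_iff.1 this z).symm
  have hω2 : q ω * q ω = 1 := by
    rw [hωeq]
    calc g₀ * q y₀ * g₀⁻¹ * (g₀ * q y₀ * g₀⁻¹) = g₀ * (q y₀ * q y₀) * g₀⁻¹ := by group
      _ = 1 := by rw [hy₀2]; group
  have hωcent : ∀ b ∈ (Q : Subgroup L), q b * q ω = q ω * q b := by
    intro b hb
    by_cases hbz : Commute (b : G) z
    · have h4 := hz.abel _ (hQS' b hb) hbz _ (hQS' ω hω.1) hω.2
      have h5 : b * ω = ω * b := Subtype.ext h4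
      rw [← map_mul, ← map_mul, h5]
    · have h4 := hz.inv_out _ (hQS' b hb) hbz _ (hQS' ω hω.1) hω.2
      have h5 : q (b * ω * b⁻¹ * ω) = 1 := by rw [hker']; exact h4
      simp only [map_mul, map_inv] at h5
      have h6 : (q ω)⁻¹ = q ω := inv_eq_of_mul_eq_one_left hω2
      have h7 : q b * q ω * (q b)⁻¹ = q ω := (eq_inv_of_mul_eq_one_left h5).trans h6
      calc q b * q ω = (q b * q ω * (q b)⁻¹) * q b := by group
        _ = q ω * q b := by rw [h7]
  have hkey : ∀ e ∈ A, ((e * e : L) : G) ∈ center G → q e ≠ 1 → q e = q ω := by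
    intro e he hee he1
    -- the 2-group generated by `y₀, e, ω`
    set E : Subgroup (L ⧸ center L) := closure {q y₀, q e, q ω} with hE
    have hEP : E ≤ (P : Subgroup (L ⧸ center L)) := by
      rw [hE, closure_le]
      rintro x (rfl | rfl | hx)
      · exact ⟨y₀, hy₀, rfl⟩
      · exact ⟨e, he.1, rfl⟩
      · rw [Set.mem_singleton_iff] at hx
        rw [hx]
        exact ⟨ω, hω.1, rfl⟩
    have hE2 : IsPGroup 2 E := P.isPGroup'.to_le hEP
    have hecomm : q e * q y₀ = q y₀ * q e := by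
      have h4 := hz.inv_out _ (hQS' y₀ hy₀) hy₀z _ (hQS' e he.1) he.2
      have h5 : q (y₀ * e * y₀⁻¹ * e) = 1 := by rw [hker']; exact h4
      simp only [map_mul, map_inv] at h5
      have h8 : q e * q e = 1 := by rw [← map_mul, hker']; exact hee
      have h6 : (q e)⁻¹ = q e := inv_eq_of_mul_eq_one_left h8
      have h7 : q y₀ * q e * (q y₀)⁻¹ = q e := (eq_inv_of_mul_eq_one_left h5).trans h6
      calc q e * q y₀ = (q y₀ * q e * (q y₀)⁻¹) * q y₀ := by rw [h7]
        _ = q y₀ * q e := by group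
    have hEcomm : ∀ x ∈ E, Commute x (q y₀) := by
      intro x hx
      have h4 : E ≤ centralizer ({q y₀} : Set (L ⧸ center L)) := by
        rw [hE, closure_le]
        rintro x (rfl | rfl | hx)
        · exact mem_centralizer_singleton_iff.2 rfl
        · exact mem_centralizer_singleton_iff.2 hecomm
        · rw [Set.mem_singleton_iff] at hx
          rw [hx]
          exact mem_centralizer_singleton_iff.2 (hωcent y₀ hy₀).symm
      exact mem_centralizer_singleton_iff.1 (h4 hx)
    have hPω : (P : Subgroup (L ⧸ center L)) ≤ centralizer ({q ω} : Set (L ⧸ center L)) := by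
      rintro _ ⟨b, hb, rfl⟩
      exact mem_centralizer_singleton_iff.2 (hωcent b hb)
    obtain ⟨h, hh, hhE⟩ := exists_conj_le_sylow P hPω (R := E.map (MulAut.conj g₀).toMonoidHom)
      (hE2.map _) (by
        rintro _ ⟨x, hx, rfl⟩
        rw [mem_centralizer_singleton_iff]
        change g₀ * x * g₀⁻¹ * q ω = q ω * (g₀ * x * g₀⁻¹)
        have h4 : x * q y₀ = q y₀ * x := hEcomm x hx
        rw [hωeq]
        calc g₀ * x * g₀⁻¹ * (g₀ * q y₀ * g₀⁻¹) = g₀ * (x * q y₀) * g₀⁻¹ := by group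
          _ = g₀ * q y₀ * g₀⁻¹ * (g₀ * x * g₀⁻¹) := by rw [h4]; group)
    rw [mem_centralizer_singleton_iff] at hh
    obtain ⟨γ, hγ⟩ := hqs (h * g₀)
    -- lifts of the conjugates of `e` and `ω`
    have hlift : ∀ x : L, q x ∈ E → ∃ x₁ ∈ (Q : Subgroup L), q x₁ = q (γ * x * γ⁻¹) := by
      intro x hx
      obtain ⟨x₁, hx₁, hx₁e⟩ := hhE _ ⟨q x, hx, rfl⟩
      refine ⟨x₁, hx₁, ?_⟩
      rw [hx₁e, map_mul, map_mul, map_inv, hγ]
      change h * (g₀ * q x * g₀⁻¹) * h⁻¹ = h * g₀ * q x * (h * g₀)⁻¹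
      group
    have hωγ : q ω = q (γ * y₀ * γ⁻¹) := by
      rw [map_mul, map_mul, map_inv, hγ]
      calc q ω = h * q ω * h⁻¹ := by rw [hh]; group
        _ = h * g₀ * q y₀ * (h * g₀)⁻¹ := by rw [hωeq]; group
    obtain ⟨e₁, he₁, he₁e⟩ := hlift e (subset_closure (by simp))
    obtain ⟨ω₁, hω₁, hω₁e⟩ := hlift ω (subset_closure (by simp))
    have hconj : ∀ x : L, Commute ((γ * x * γ⁻¹ : L) : G) ((γ * y₀ * γ⁻¹ : L) : G) ↔
        Commute (x : G) (y₀ : G) := by
      intro x
      push_cast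
      rw [commute_conj_iff]
      have : (γ : G)⁻¹ * (γ * y₀ * (γ : G)⁻¹) * γ = y₀ := by group
      rw [this]
    have hnote : ¬ Commute (e₁ : G) ω := by
      rw [commute_congr_mk hcL he₁e hωγ, hconj]
      intro hc
      apply he1
      rw [hker']
      exact hz.fix_out _ (hQS' y₀ hy₀) hy₀z _ (hQS' e he.1) he.2 hc
    have hnotω : ¬ Commute (ω₁ : G) ω := by
      rw [commute_congr_mk hcL hω₁e hωγ, hconj]
      intro hc
      apply hω1
      rw [hker']
      exact hz.fix_out _ (hQS' y₀ hy₀) hy₀z _ (hQS' ω hω.1) hω.2 hc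
    have he₁A : ¬ Commute (e₁ : G) z := fun hc =>
      hnote (hz.abel _ (hQS' e₁ he₁) hc _ (hQS' ω hω.1) hω.2)
    have hω₁A : ¬ Commute (ω₁ : G) z := fun hc =>
      hnotω (hz.abel _ (hQS' ω₁ hω₁) hc _ (hQS' ω hω.1) hω.2)
    have h4 := h1 e₁ he₁ ω₁ hω₁ he₁A hω₁A
    have h5 : Commute ((e₁ * ω₁ : L) : G) ω :=
      hz.abel _ (hQS' _ (mul_mem he₁ hω₁)) h4 _ (hQS' ω hω.1) hω.2
    have h6 : q (e₁ * ω₁) = q (γ * (e * ω) * γ⁻¹) := by
      rw [map_mul, he₁e, hω₁e, ← map_mul]
      congr 1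
      group
    rw [commute_congr_mk hcL h6 hωγ, hconj] at h5
    have h7 : Commute ((e * ω : L) : G) z := by push_cast; exact he.2.mul_left hω.2
    have h8 := hz.fix_out _ (hQS' y₀ hy₀) hy₀z _ (hQS' _ (mul_mem he.1 hω.1)) h7 h5
    rw [← hker', map_mul] at h8
    have h9 : q e = (q ω)⁻¹ := eq_inv_of_mul_eq_one_left h8
    rw [h9]
    exact inv_eq_of_mul_eq_one_left hω2
  refine ⟨?_, ?_⟩
  · -- `A / Z` is cyclic
    have hA2 : IsPGroup 2 (A.map q) := P.isPGroup'.to_le hAP
    have huniq : Cfsg.Agent.Solvable.UniqueOrderP.UniqueP 2 (A.map q) := by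
      rw [Cfsg.Agent.Solvable.UniqueOrderP.uniqueP_def]
      have key : ∀ x : A.map q, x ^ 2 = 1 → x ≠ 1 → (x : L ⧸ center L) = q ω := by
        rintro ⟨_, a, ha, rfl⟩ hx hx1
        have h4 : q a * q a = 1 := by
          have := congrArg (fun z : A.map q => (z : L ⧸ center L)) hx
          rwa [pow_two] at this
        apply hkey a ha
        · rw [← hker', map_mul]; exact h4
        · exact fun h => hx1 (Subtype.ext h)
      intro x y hx1 hx2 hy2
      by_cases hy1 : y = 1
      · rw [hy1]; exact one_mem _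
      · have h4 : y = x := Subtype.ext ((key y hy2 hy1).trans (key x hx2 hx1).symm)
        rw [h4]
        exact mem_zpowers x
    have hAab : IsMulCommutative (⊤ : Subgroup (A.map q)) := by
      refine ⟨⟨?_⟩⟩
      rintro ⟨⟨_, a, ha, rfl⟩, _⟩ ⟨⟨_, b, hb, rfl⟩, _⟩
      apply Subtype.ext
      apply Subtype.ext
      have h4 := hz.abel _ (hQS' a ha.1) ha.2 _ (hQS' b hb.1) hb.2
      have h5 : a * b = b * a := Subtype.ext h4
      change q a * q b = q b * q a
      rw [← map_mul, ← map_mul, h5]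
    obtain ⟨⟨_, r, hr, rfl⟩, hrtop⟩ :=
      Cfsg.Agent.Solvable.UniqueOrderP.exists_eq_zpowers_of_comm 2 hA2 huniq ⊤ hAab
    have hgen : A.map q = zpowers (q r) := by
      apply le_antisymm
      · intro x hx
        have h4 : (⟨x, hx⟩ : A.map q) ∈ (⊤ : Subgroup (A.map q)) := mem_top _
        rw [hrtop] at h4
        obtain ⟨k, hk⟩ := mem_zpowers_iff.1 h4
        refine mem_zpowers_iff.2 ⟨k, ?_⟩
        have := congrArg (fun z : A.map q => (z : L ⧸ center L)) hk
        exact this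
      · rw [zpowers_le]
        exact ⟨r, hr, rfl⟩
    set n := orderOf (q r) with hn
    have hcardA : Nat.card (A.map q) = n := by rw [hgen, Nat.card_zpowers]
    have hn2 : 2 ≤ n := by
      by_contra hcon
      have hpos : 0 < n := orderOf_pos _
      have h4 : n = 1 := by omega
      have h5 : q r = 1 := orderOf_eq_one_iff.1 h4
      have h6 : q a₀ ∈ A.map q := ⟨a₀, ⟨ha₀, ha₀z⟩, rfl⟩
      rw [hgen, h5, zpowers_one_eq_bot, mem_bot, hker'] at h6
      apply ha₀c
      push_cast
      exact mul_mem h6 h6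
    refine ⟨n, hn2, ?_⟩
    apply Cfsg.Agent.Lib.DihedralRecog.subgroup_dihedral_of_generators (by omega)
      ((Q : Subgroup L).map q) (q r) (q y₀) ⟨r, hr.1, rfl⟩ ⟨y₀, hy₀, rfl⟩ rfl hy₀2
    · have h4 := hz.inv_out _ (hQS' y₀ hy₀) hy₀z _ (hQS' r hr.1) hr.2
      have h5 : q (y₀ * r * y₀⁻¹ * r) = 1 := by rw [hker']; exact h4
      simp only [map_mul, map_inv] at h5
      exact eq_inv_of_mul_eq_one_left h5
    · rw [← hgen]; exact hy₀A
    · have h4 := relIndex_mul_relIndex ⊥ (A.map q) (P : Subgroup (L ⧸ center L)) bot_le hAP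
      rw [relIndex_bot_left, relIndex_bot_left, hrel, hcardA] at h4
      rw [← hPeq, ← h4, mul_comm]
  · -- `NC`
    intro u hu v hv hu1 hv1 huv hu2 hv2 hc
    by_cases huz : Commute (u : G) z
    · have h4 := hkey u ⟨hu, huz⟩ ((hker' _).1 hu2) hu1
      by_cases hvz : Commute (v : G) z
      · have h5 := hkey v ⟨hv, hvz⟩ ((hker' _).1 hv2) hv1
        exact huv (h4.trans h5.symm)
      · apply hu1
        rw [hker']
        exact hz.fix_out _ (hQS' v hv) hvz _ (hQS' u hu) huz hc
    · by_cases hvz : Commute (v : G) z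
      · apply hv1
        rw [hker']
        exact hz.fix_out _ (hQS' u hu) huz _ (hQS' v hv) hvz hc.symm
      · have h4 := h1 u hu v hv huz hvz
        have h5 : Commute ((u * v : L) : G) v := by
          push_cast
          exact hc.mul_left (Commute.refl _)
        have h6 := hz.fix_out _ (hQS' v hv) hvz _ (hQS' _ (mul_mem hu hv)) h4 h5
        rw [← hker', map_mul] at h6
        apply huv
        have h7 : q u = (q v)⁻¹ := eq_inv_of_mul_eq_one_left h6
        rw [h7]
        rw [map_mul] at hv2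
        exact inv_eq_of_mul_eq_one_left hv2

end Cfsg.Agent.H577
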