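import Cfsg.Agent.H577.CAMat
import Cfsg.Agent.H577.CADih
import Cfsg.Agent.StdL2.Cover
import Cfsg.Agent.OddCyclic.T1Socle

/-!
# Minimal non-CA groups: the centre of the component
-/

set_option autoImplicit false
set_option linter.unusedSectionVars false

namespace Cfsg.Agent.H577

open Matrix Subgroup
open Cfsg.Agent.ClassicalGeometry.AutPSL.Root (pr pr_surjective)
open Psl2

theorem central_psl {F : Type*} [Field F] [Fintype F] (h4 : 4 ≤ Fintype.card F) {x : P2 F}
    (hx : ∀ y, Commute x y) : x = 1 := by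
  have hs := TwoFusion.SLTwoFacts.isSimpleGroup_psl (F := F) h4
  have hi := conj_injective (exists_noncomm (F := F) h4)
  apply hi
  rw [map_one]
  apply MulEquiv.ext
  intro y
  rw [MulAut.conj_apply, (hx y).eq, mul_inv_cancel_right]
  rfl

section

variable {F : Type*} [Field F] [Fintype F] {A : Type*} [Group A] [Finite A]

theorem cover_even_of_odd {a : ℕ} (ha : 2 ≤ a) (hF : Fintype.card F = 2 ^ a) (hp : commutator A = ⊤)
    (f : A →* P2 F) (hf : Function.Surjective f) (hk : f.ker = center A)
    (hodd : Odd (Nat.card (center A))) : center A = ⊥ := by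
  have : Fact (Nat.Prime 2) := ⟨Nat.prime_two⟩
  have : CharP F 2 := charP_of_card_eq_prime_pow hF
  obtain ⟨g⟩ := WeakTI.PslTwo.nonempty_equiv (F := F)
  have hinv : ∀ x ∈ center A, x * x = 1 → x = 1 := by
    intro x hx hxx
    by_contra hne
    have h1 : orderOf (⟨x, hx⟩ : center A) = 2 := by
      apply orderOf_eq_prime
      · rw [pow_two]; exact Subtype.ext hxx
      · exact fun h => hne (congrArg Subtype.val h)
    have h2 : 2 ∣ Nat.card (center A) := h1 ▸ orderOf_dvd_natCard _
    exact (Nat.not_even_iff_odd.2 hodd) (even_iff_two_dvd.2 h2)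
  rcases StdL2.Cover.main hp ha hF (g.symm.toMonoidHom.comp f) (g.symm.surjective.comp hf) (by
    rw [← hk]
    ext x
    simp only [MonoidHom.mem_ker]
    change g.symm (f x) = 1 ↔ _
    exact map_eq_one_iff g.symm g.symm.injective) (by
    intro x hx y _ hxx _ hx1
    exact absurd (hinv x hx hxx) hx1) with h | ⟨-, z, hz1, hz2, hz, -⟩
  · exact h
  · exact absurd (hinv z ((hz z).2 (Or.inr rfl)) hz2) hz1

theorem cover_even {a : ℕ} (ha : 3 ≤ a) (hF : Fintype.card F = 2 ^ a) (hp : commutator A = ⊤)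
    (f : A →* P2 F) (hf : Function.Surjective f) (hk : f.ker = center A) : center A = ⊥ := by
  have : Fact (Nat.Prime 2) := ⟨Nat.prime_two⟩
  have : CharP F 2 := charP_of_card_eq_prime_pow hF
  have h8 : 8 ≤ Fintype.card F := by
    rw [hF]
    calc 8 = 2 ^ 3 := by norm_num
      _ ≤ 2 ^ a := Nat.pow_le_pow_right (by norm_num) ha
  by_cases hodd : Odd (Nat.card (center A))
  · exact cover_even_of_odd (by omega) hF hp f hf hk hodd
  exfalso
  have h2 : 2 ∣ Nat.card (center A) := even_iff_two_dvd.1 (Nat.not_odd_iff_even.1 hodd)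
  obtain ⟨z, hz⟩ := exists_prime_orderOf_dvd_card' 2 h2
  let C := center A
  -- subgroups of the centre containing all squares
  let S : Set (Subgroup A) := {M | M ≤ center A ∧ (∀ z ∈ center A, z * z ∈ M) ∧ ¬ center A ≤ M}
  have hne : S.Nonempty := by
    let sq : center A →* center A :=
      { toFun := fun x => x * x
        map_one' := mul_one 1
        map_mul' := fun x y => by
          have h : y * x = x * y := Subtype.ext (mem_center_iff.1 x.2 y)
          calc x * y * (x * y) = x * (y * x) * y := by group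
            _ = x * x * (y * y) := by rw [h]; group }
    refine ⟨sq.range.map (center A).subtype, ?_, ?_, ?_⟩
    · rintro _ ⟨y, -, rfl⟩
      exact y.2
    · intro y hy
      exact ⟨⟨y, hy⟩ * ⟨y, hy⟩, ⟨⟨y, hy⟩, rfl⟩, rfl⟩
    · intro hle
      have hs : Function.Surjective sq := by
        intro y
        obtain ⟨w, hw, hwy⟩ := hle y.2
        obtain ⟨v, hv⟩ := hw
        exact ⟨v, Subtype.ext (by rw [hv]; exact hwy)⟩
      have hi := Finite.injective_iff_surjective.2 hs
      have h1 : sq z = sq 1 := by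
        rw [map_one]
        change z * z = 1
        rw [← pow_two, ← hz, pow_orderOf_eq_one]
      rw [hi h1, orderOf_one] at hz
      omega
  obtain ⟨M, hM⟩ := (Set.toFinite S).exists_maximal hne
  obtain ⟨hMc, hMsq, hMlt⟩ := hM.prop
  have hMmax : ∀ x ∈ center A, x ∉ M → center A ≤ M ⊔ zpowers x := by
    intro x hx hxM
    by_contra hcon
    have h1 : M ⊔ zpowers x ∈ S :=
      ⟨sup_le hMc (zpowers_le.2 hx), fun w hw => (le_sup_left : M ≤ _) (hMsq w hw), hcon⟩
    exact hxM (hM.le_of_ge h1 le_sup_left ((le_sup_right : zpowers x ≤ _) (mem_zpowers x)))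
  have hMn : M.Normal := ⟨fun n hn g => by
    have h1 := mem_center_iff.1 (hMc hn) g
    rw [h1, mul_inv_cancel_right]; exact hn⟩
  have hMk : M ≤ f.ker := by rw [hk]; exact hMc
  let f' : A ⧸ M →* P2 F := QuotientGroup.lift M f hMk
  have hf'e : ∀ x : A, f' (QuotientGroup.mk' M x) = f x := fun x => rfl
  have hf' : Function.Surjective f' := by
    intro y
    obtain ⟨x, rfl⟩ := hf y
    exact ⟨QuotientGroup.mk' M x, rfl⟩
  have hk1 : ∀ x : A, QuotientGroup.mk' M x ∈ center (A ⧸ M) ↔ x ∈ center A := by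
    intro x
    constructor
    · intro hx
      rw [← hk, MonoidHom.mem_ker]
      apply central_psl (by omega)
      intro y
      obtain ⟨w, rfl⟩ := hf y
      have h1 : QuotientGroup.mk' M w * QuotientGroup.mk' M x = QuotientGroup.mk' M x *
        QuotientGroup.mk' M w := mem_center_iff.1 hx _
      have h2 := congrArg f' h1
      rw [map_mul, map_mul, hf'e, hf'e] at h2
      exact h2.symm
    · intro hx
      rw [mem_center_iff]
      intro y
      obtain ⟨w, rfl⟩ := QuotientGroup.mk'_surjective _ y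
      rw [← map_mul, mem_center_iff.1 hx w, map_mul]
  have hk' : f'.ker = center (A ⧸ M) := by
    ext x
    obtain ⟨x, rfl⟩ := QuotientGroup.mk'_surjective _ x
    rw [hk1, MonoidHom.mem_ker, hf'e, ← hk, MonoidHom.mem_ker]
  have hp' : commutator (A ⧸ M) = ⊤ := by
    have h1 : (commutator A).map (QuotientGroup.mk' M) = ⊤ := by
      rw [hp, ← MonoidHom.range_eq_map, MonoidHom.range_eq_top.2 (QuotientGroup.mk'_surjective M)]
    rw [eq_top_iff, ← h1, _root_.commutator_def, _root_.commutator_def, map_commutator]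
    exact commutator_mono le_top le_top
  obtain ⟨g⟩ := WeakTI.PslTwo.nonempty_equiv (F := F)
  rcases StdL2.Cover.main hp' (by omega : 2 ≤ a) hF (g.symm.toMonoidHom.comp f') (g.symm.surjective.comp hf') (by
    rw [← hk']
    ext x
    simp only [MonoidHom.mem_ker]
    change g.symm (f' x) = 1 ↔ _
    exact map_eq_one_iff g.symm g.symm.injective) (by
    intro x hx y hy _ _ hx1 hy1
    obtain ⟨x, rfl⟩ := QuotientGroup.mk'_surjective _ x
    obtain ⟨y, rfl⟩ := QuotientGroup.mk'_surjective _ y
    rw [hk1] at hx hy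
    have hxM : x ∉ M := fun h => hx1 ((QuotientGroup.eq_one_iff x).2 h)
    have hyM : y ∉ M := fun h => hy1 ((QuotientGroup.eq_one_iff y).2 h)
    have h1 := hMmax x hx hxM hy
    obtain ⟨m, hm, w, ⟨k, rfl⟩, hmw⟩ := mem_sup_of_normal_left.1 h1
    change m * x ^ k = y at hmw
    have hxx : ∀ j : ℤ, x ^ (2 * j) ∈ M := by
      intro j
      rw [_root_.zpow_mul]
      apply zpow_mem
      have := hMsq x hx
      rwa [← pow_two, ← zpow_natCast] at this
    rcases Int.even_or_odd' k with ⟨j, rfl | rfl⟩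
    · exfalso
      apply hyM
      rw [← hmw]
      exact mul_mem hm (hxx j)
    · rw [QuotientGroup.mk'_apply, QuotientGroup.mk'_apply, eq_comm, QuotientGroup.eq]
      have h2 : y⁻¹ * x = (x ^ (2 * j))⁻¹ * m⁻¹ := by
        rw [← hmw, _root_.zpow_add, zpow_one]
        have h3 : m * (x ^ (2 * j) * x) = x * (m * x ^ (2 * j)) := by
          have h4 := mem_center_iff.1 (mul_mem (hMc hm) (zpow_mem hx (2 * j))) x
          rw [h4, mul_assoc]
        rw [h3]
        group
      rw [h2]
      exact mul_mem (inv_mem (hxx j)) (inv_mem hm)) with h | ⟨h, -⟩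
  · apply hMlt
    intro x hx
    have h1 := (hk1 x).2 hx
    rw [h, Subgroup.mem_bot] at h1
    exact (QuotientGroup.eq_one_iff x).1 h1
  · omega

end

/-- abelian Sylow 2-subgroups of a perfect group: the centre has odd order -/
theorem odd_center_of_abelian {A : Type*} [Group A] [Finite A] (hp : commutator A = ⊤) (P : Sylow 2 A)
    (hP : ∀ a ∈ (P : Subgroup A), ∀ b ∈ (P : Subgroup A), Commute a b) : Odd (Nat.card (center A)) := by
  have : Fact (Nat.Prime 2) := ⟨Nat.prime_two⟩
  by_contra hodd
  have h2 : 2 ∣ Nat.card (center A) := even_iff_two_dvd.1 (Nat.not_odd_iff_even.1 hodd)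
  obtain ⟨z, hz⟩ := exists_prime_orderOf_dvd_card' 2 h2
  have hzz : (z : A) ^ 2 = 1 := by
    have := pow_orderOf_eq_one z
    rw [hz] at this
    exact congrArg Subtype.val this
  have hz1 : (z : A) ≠ 1 := by
    intro h
    have : z = 1 := Subtype.ext h
    rw [this, orderOf_one] at hz
    omega
  have hzP : (z : A) ∈ (P : Subgroup A) := by
    have h1 : IsPGroup 2 (zpowers (z : A)) := by
      rw [IsPGroup.iff_card]
      exact ⟨1, by rw [Nat.card_zpowers, pow_one, Subgroup.orderOf_coe, hz]⟩
    obtain ⟨h, -, hh⟩ := exists_conj_le_sylow P (H := ⊤) le_top h1 le_top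
    have h3 := hh _ (mem_zpowers _)
    rwa [mem_center_iff.1 z.2 h, mul_inv_cancel_right] at h3
  have hPi : Odd (P : Subgroup A).index := by
    rw [← Nat.not_even_iff_odd, even_iff_two_dvd]
    exact P.not_dvd_index
  have h3 := StdL2.Cover.mem_commutator_of_central (P : Subgroup A) hPi z hzP
    (fun g => (mem_center_iff.1 z.2 g).symm) (n := 1) (by rw [pow_one]; exact hzz) (by rw [hp]; exact mem_top _)
  have h4 : commutator (P : Subgroup A) = ⊥ := by
    rw [_root_.commutator_def, eq_bot_iff, commutator_le]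
    intro a _ b _
    rw [Subgroup.mem_bot, commutatorElement_eq_one_iff_mul_comm]
    exact Subtype.ext (hP a a.2 b b.2)
  rw [h4, Subgroup.mem_bot] at h3
  exact hz1 (congrArg Subtype.val h3)

/-- **(i)** Abelian Sylow 2-subgroups: the component is simple. -/
theorem center_eq_bot_of_abelian {F : Type*} [Field F] [Fintype F] {A : Type*} [Group A] [Finite A]
    (hF : (∃ a, 2 ≤ a ∧ Fintype.card F = 2 ^ a) ∨ (Odd (Fintype.card F) ∧ 3 < Fintype.card F ∧ Fintype.card F ≠ 9))
    (hp : commutator A = ⊤) (P : Sylow 2 A)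
    (hP : ∀ a ∈ (P : Subgroup A), ∀ b ∈ (P : Subgroup A), Commute a b)
    (f : A →* P2 F) (hf : Function.Surjective f) (hk : f.ker = center A) : center A = ⊥ := by
  have hodd := odd_center_of_abelian hp P hP
  rcases hF with ⟨a, ha, hF⟩ | ⟨ho, h3, h9⟩
  · exact cover_even_of_odd ha hF hp f hf hk hodd
  · rw [← hk] at hodd ⊢
    exact Lib.PSL2Mult.ker_eq_bot ho h3 h9 hf hk.le hp hodd

theorem char_not_dvd {F : Type*} [Field F] [Fintype F] {A : Type*} [Group A] [Finite A]
    (ho : Odd (Fintype.card F)) (h3 : 3 < Fintype.card F) (h9 : Fintype.card F ≠ 9)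
    (hp : commutator A = ⊤) (f : A →* P2 F) (hf : Function.Surjective f) (hk : f.ker = center A)
    {c : ℕ} (hc : c.Prime) [CharP F c] : ¬ c ∣ Nat.card (center A) := by
  have : Fact c.Prime := ⟨hc⟩
  rw [← hk]
  refine Lib.PSL2Mult.not_dvd_ker ho h3 h9 hf hk.le hp (p := c) ?_
  rintro rfl
  exact two_ne_zero_of_odd ho (by exact_mod_cast CharP.cast_eq_zero F 2)

/-- `PSL(2, 4) ≅ PSL(2, 5)` -/
theorem equiv_four_five {F K : Type*} [Field F] [Fintype F] [Field K] [Fintype K]
    (hF : Fintype.card F = 4) (hK : Fintype.card K = 5) : Nonempty (P2 F ≃* P2 K) := by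
  have c1 : Nat.card (Matrix.ProjectiveSpecialLinearGroup (Fin 2) F) = 60 := by
    rw [ClassicalGeometry.PSL2Basic.card_PSL2_even F (by rw [hF]; decide), hF]
    norm_num
  have c2 : Nat.card (Matrix.ProjectiveSpecialLinearGroup (Fin 2) K) = 60 := by
    have h := ClassicalGeometry.PSL2Basic.card_PSL2_odd K (by rw [hK]; decide)
    rw [hK] at h
    omega
  obtain ⟨f⟩ := OddCyclic.T1Socle.equiv_alternating (F' := F) (by rw [hF]; norm_num) c1
  obtain ⟨g⟩ := OddCyclic.T1Socle.equiv_alternating (F' := K) (by rw [hK]; norm_num) c2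
  exact ⟨f.trans g.symm⟩

end Cfsg.Agent.H577
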