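import Cfsg.Agent.H577.FewRadTwo
import Cfsg.Agent.QTComp.Basic
import Cfsg.Agent.SolvableStructure.HallConverse

/-!
# The structure of a nonsolvable `Few` group modulo its solvable radical
-/

set_option autoImplicit false

namespace Cfsg.Agent.H577

open Subgroup Cfsg
open Cfsg.Agent.SignalizersComponents.ComponentExists
open Cfsg.Agent.SignalizersComponents.Components
open Cfsg.Agent.QTComp.Basic

/-- three primes divide the order of a nonsolvable group -/
theorem exists_three_primes (T : Type*) [Group T] [Finite T] (h : ¬ Group.IsSolvable T) :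
    ∃ p q r : ℕ, p.Prime ∧ q.Prime ∧ r.Prime ∧ p ≠ q ∧ p ≠ r ∧ q ≠ r ∧
      p ∣ Nat.card T ∧ q ∣ Nat.card T ∧ r ∣ Nat.card T := by
  have h1 : 2 < (Nat.card T).primeFactors.card := by
    by_contra hcon
    push Not at hcon
    exact h (SolvableStructure.HallConverse.isSolvable_of_no_three_primes hcon)
  obtain ⟨p, hp, q, hq, r, hr, hpq, hpr, hqr⟩ := Finset.two_lt_card.1 h1
  exact ⟨p, q, r, Nat.prime_of_mem_primeFactors hp, Nat.prime_of_mem_primeFactors hq,
    Nat.prime_of_mem_primeFactors hr, hpq, hpr, hqr, Nat.dvd_of_mem_primeFactors hp,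
    Nat.dvd_of_mem_primeFactors hq, Nat.dvd_of_mem_primeFactors hr⟩

/-- two primes different from a given number -/
theorem exists_two_primes_ne (T : Type*) [Group T] [Finite T] (h : ¬ Group.IsSolvable T) (s : ℕ) :
    ∃ a b : ℕ, a.Prime ∧ b.Prime ∧ a ≠ b ∧ a ≠ s ∧ b ≠ s ∧ a ∣ Nat.card T ∧ b ∣ Nat.card T := by
  obtain ⟨p, q, r, hp, hq, hr, hpq, hpr, hqr, h1, h2, h3⟩ := exists_three_primes T h
  by_cases ha : p = s
  · exact ⟨q, r, hq, hr, hqr, fun h => hpq (ha.trans h.symm), fun h => hpr (ha.trans h.symm), h2, h3⟩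
  · by_cases hb : q = s
    · exact ⟨p, r, hp, hr, hpr, ha, fun h => hqr (hb.trans h.symm), h1, h3⟩
    · exact ⟨p, q, hp, hq, hpq, ha, hb, h1, h2⟩

/-- In a `Few` group, the centralizer of a nonsolvable subgroup is trivial. -/
theorem centralizer_eq_bot_of_few {X : Type*} [Group X] [Finite X] (hX : Few X) (K : Subgroup X)
    (hK : ¬ Group.IsSolvable K) : centralizer (K : Set X) = ⊥ := by
  by_contra hne
  have hnt : Nontrivial (centralizer (K : Set X)) := (nontrivial_iff_ne_bot _).2 hne
  obtain ⟨s, hs, hsd⟩ := Nat.exists_prime_and_dvd (n := Nat.card (centralizer (K : Set X)))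
    (Finite.one_lt_card).ne'
  have hsf := Fact.mk hs
  obtain ⟨u, hu⟩ := exists_prime_orderOf_dvd_card' (G := centralizer (K : Set X)) s hsd
  have hu' : orderOf (u : X) = s := by rw [Subgroup.orderOf_coe, hu]
  obtain ⟨a, b, ha, hb, hab, has, hbs, hda, hdb⟩ := exists_two_primes_ne K hK s
  have haf := Fact.mk ha
  have hbf := Fact.mk hb
  obtain ⟨x, hx⟩ := exists_prime_orderOf_dvd_card' (G := K) a hda
  obtain ⟨y, hy⟩ := exists_prime_orderOf_dvd_card' (G := K) b hdb
  have hc : ∀ z : K, Commute (u : X) (z : X) := by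
    intro z
    have := u.2
    rw [mem_centralizer_iff] at this
    exact (this z z.2).symm
  refine false_of_commute hX hs ha hb hab ⟨u, hu'⟩ ?_ ?_
  · have := ord_mul (hc x) (by
      rw [hu', Subgroup.orderOf_coe, hx]; exact (Nat.coprime_primes hs ha).2 has.symm)
    rwa [hu', Subgroup.orderOf_coe, hx] at this
  · have := ord_mul (hc y) (by
      rw [hu', Subgroup.orderOf_coe, hy]; exact (Nat.coprime_primes hs hb).2 hbs.symm)
    rwa [hu', Subgroup.orderOf_coe, hy] at this

/-- **Reduction**: modulo the solvable radical, a nonsolvable `Few` group has a normal simple subgroup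
with trivial centralizer. -/
theorem exists_top {G : Type*} [Group G] [Finite G] (hG : Few G) (hns : ¬ Group.IsSolvable G) :
    ∃ (R : Subgroup G) (_ : R.Normal) (T : Subgroup (G ⧸ R)), Group.IsSolvable R ∧ T.Normal ∧
      IsSimpleGroup T ∧ (∃ a b : T, a * b ≠ b * a) ∧ centralizer (T : Set (G ⧸ R)) = ⊥ := by
  obtain ⟨R, hR⟩ := exists_isRad G
  have hRn := hR.normal
  have hX : Few (G ⧸ R) := hG.quotient R
  have hXns : ¬ Group.IsSolvable (G ⧸ R) := by
    intro h
    exact hns ((Group.isSolvable_iff_subgroup_quotient R).2 ⟨hR.solv, h⟩)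
  have hfit : fittingSubgroup (G ⧸ R) = ⊥ := by
    rw [eq_bot_iff]
    refine sSup_le ?_
    rintro N ⟨hN, hnil⟩
    have h1 : Group.IsSolvable N := inferInstance
    rw [hR.eq_bot_of_subnormal hN.isSubnormal h1]
  obtain ⟨K, hK, -⟩ := exists_isComponent_le (G := G ⧸ R) (C := ⊤) IsSubnormal.top (by
      intro h
      exact hXns (Group.isSolvable_of_surjective (f := (⊤ : Subgroup (G ⧸ R)).subtype) (by
        intro x; exact ⟨⟨x, mem_top x⟩, rfl⟩))) (by
      rw [hfit]
      intro x _
      rw [mem_centralizer_iff]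
      intro y hy
      rw [SetLike.mem_coe, mem_bot] at hy
      rw [hy]; simp)
  have hKns := not_isSolvable_of_isQuasisimple hK.2
  have hcK : center K = ⊥ := by
    have h1 : ((center K).map K.subtype).IsSubnormal :=
      (inferInstance : (center K).Normal).isSubnormal.trans' hK.1
    have h2 : Group.IsSolvable ((center K).map K.subtype) := by
      have h3 : Group.IsSolvable (center K) := Group.isSolvable_of_comm fun a b =>
        Subtype.ext (mem_center_iff.1 b.2 a)
      exact isSolvable_map h3 _
    have h3 := hR.eq_bot_of_subnormal h1 h2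
    rwa [map_eq_bot_iff_of_injective _ K.subtype_injective] at h3
  have hKs : IsSimpleGroup K := by
    have e : K ⧸ center K ≃* K := (QuotientGroup.quotientMulEquivOfEq hcK).trans QuotientGroup.quotientBot
    have := hK.2.2
    exact e.symm.isSimpleGroup
  have hcent := centralizer_eq_bot_of_few hX K hKns
  refine ⟨R, hRn, K, hR.solv, ?_, hKs, ?_, hcent⟩
  · -- `K` is normal
    refine ⟨fun n hn g => ?_⟩
    by_contra hcon
    have hK' : IsComponent (K.map (MulAut.conj g).toMonoidHom) := by
      exact isComponent_conj g hK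
    have hne : K.map (MulAut.conj g).toMonoidHom ≠ K := by
      intro h
      apply hcon
      rw [← h]
      exact ⟨n, hn, rfl⟩
    have h1 := component_le_centralizer_of_ne hK' hK hne
    rw [hcent, le_bot_iff] at h1
    exact component_ne_bot hK' h1
  · by_contra hcon
    push Not at hcon
    exact hKns (Group.isSolvable_of_comm hcon)

end Cfsg.Agent.H577
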