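import Cfsg.Agent.H577.FewRadMain

/-!
# When `O₂(G)` is trivial
-/

set_option autoImplicit false

namespace Cfsg.Agent.H577

open Subgroup Cfsg
open scoped IsMulCommutative

/-- `T` has an element of order `2 r`, or a Frobenius subgroup with complement of order 3 or 4 (and odd kernel). -/
def NotEven (T : Type*) [Group T] : Prop :=
  (∃ r : ℕ, r.Prime ∧ r ≠ 2 ∧ Ord T (2 * r)) ∨
    ∃ (E : Subgroup T) (c : T) (l : ℕ), (l = 3 ∨ l = 4) ∧ orderOf c = l ∧ E ≠ ⊥ ∧ Odd (Nat.card E) ∧
      (∀ e ∈ E, c * e * c⁻¹ ∈ E) ∧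
      ∀ i : ℕ, 0 < i → i < l → ∀ e ∈ E, c ^ i * e * (c ^ i)⁻¹ = e → e = 1

section

variable {G T : Type*} [Group G] [Group T]

/-- the action of the quotient on an abelian kernel -/
noncomputable def actT (f : G →* T) (hf : Function.Surjective f) [IsMulCommutative f.ker] : T →* MulAut f.ker :=
  (QuotientGroup.lift f.ker (MulAut.conjNormal : G →* MulAut f.ker) (by
    intro x hx
    ext v
    have h := congrArg Subtype.val (mul_comm (⟨x, hx⟩ : f.ker) v)
    simp only [Subgroup.coe_mul] at h
    rw [MulAut.conjNormal_apply, h]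
    simp)).comp (QuotientGroup.quotientKerEquivOfSurjective f hf).symm.toMonoidHom

theorem actT_apply (f : G →* T) (hf : Function.Surjective f) [IsMulCommutative f.ker] (x : G) :
    actT f hf (f x) = MulAut.conjNormal x := by
  have h : (QuotientGroup.quotientKerEquivOfSurjective f hf).symm (f x) = QuotientGroup.mk x := by
    rw [MulEquiv.symm_apply_eq]
    rfl
  unfold actT
  rw [MonoidHom.comp_apply]
  have h2 : (QuotientGroup.quotientKerEquivOfSurjective f hf).symm.toMonoidHom (f x) =
      (QuotientGroup.mk x : G ⧸ f.ker) := h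
  rw [h2]
  rfl

variable [Finite G]

theorem false_of_abelian_kernel (hT : TopFactor T) (hNE : NotEven T) (hG : Few G) (f : G →* T)
    (hf : Function.Surjective f) [IsMulCommutative f.ker] (hne : f.ker ≠ ⊥) (h2 : ∀ x ∈ f.ker, x ^ 2 = 1) :
    False := by
  classical
  have hTs := hT.simple
  have hTf : Finite T := Finite.of_surjective f hf
  have h2' : Fact (Nat.Prime 2) := ⟨Nat.prime_two⟩
  obtain ⟨l₁, l₂, hl₁, hl₂, h12, h22, hnel, hd₁, hd₂⟩ := hT.odd
  -- the action is faithful
  have hinj : ∀ t : T, actT f hf t = 1 → t = 1 := by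
    rcases hTs.eq_bot_or_eq_top_of_normal (actT f hf).ker inferInstance with h | h
    · intro t ht
      have : t ∈ (actT f hf).ker := ht
      rw [h, Subgroup.mem_bot] at this
      exact this
    · exfalso
      obtain ⟨u, hu1⟩ := Subgroup.ne_bot_iff_exists_ne_one.1 hne
      have huo : orderOf (u : G) = 2 := by
        refine orderOf_eq_prime (h2 _ u.2) ?_
        intro h
        exact hu1 (Subtype.ext h)
      refine false_of_centralizer hG f ⊤ (Subgroup.map_top_of_surjective f hf) hT.two hl₁ hl₂ h12 h22 hnel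
        hd₁ hd₂ Nat.prime_two (u : G) huo ?_
      intro x _
      have h1 : f x ∈ (actT f hf).ker := by rw [h]; exact Subgroup.mem_top _
      rw [MonoidHom.mem_ker, actT_apply] at h1
      have h3 := congrArg (fun φ : MulAut f.ker => ((φ u : f.ker) : G)) h1
      simp only [MulAut.conjNormal_apply] at h3
      have h5 : x * (u : G) * x⁻¹ = u := h3
      rw [mul_inv_eq_iff_eq_mul] at h5
      exact h5
  have hord : ∀ x : G, orderOf (QuotientGroup.mk' f.ker x) = orderOf (f x) := by
    intro x
    have h1 : QuotientGroup.quotientKerEquivOfSurjective f hf (QuotientGroup.mk' f.ker x) = f x := rfl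
    rw [← h1]
    exact (orderOf_injective (QuotientGroup.quotientKerEquivOfSurjective f hf).toMonoidHom
      (QuotientGroup.quotientKerEquivOfSurjective f hf).injective _).symm
  -- an element of order four
  have h4 : Ord G 4 := by
    obtain ⟨t, ht⟩ := exists_prime_orderOf_dvd_card' (G := T) 2 hT.two
    obtain ⟨x, rfl⟩ := hf t
    have hx1 : f x ≠ 1 := by
      intro h
      rw [h, orderOf_one] at ht
      exact absurd ht (by norm_num)
    have h1 : actT f hf (f x) ≠ 1 := fun h => hx1 (hinj _ h)
    rw [actT_apply] at h1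
    obtain ⟨v, hv⟩ : ∃ v : f.ker, MulAut.conjNormal x v ≠ v := by
      by_contra hcon
      push Not at hcon
      exact h1 (MulEquiv.ext hcon)
    refine ord_mul_of_norm Nat.prime_two h2 x (l := 2) (by rw [hord, ht]) v ?_
    rw [Finset.prod_range_succ, Finset.prod_range_one, pow_zero, pow_one, map_one]
    intro h
    apply hv
    have h3 : v * v = 1 := by
      rw [← pow_two]
      exact Subtype.ext (by simpa using h2 v v.2)
    have h5 : v * MulAut.conjNormal x v = v * v := by rw [h3]; exact h
    exact mul_left_cancel h5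
  rcases hNE with ⟨r, hr, hr2, hor⟩ | ⟨E, c, l, hl, hcl, hE1, hEodd, hcE, hsemi⟩
  · have h2r : Ord G (2 * r) := hor.of_surjective f hf
    refine hG.false Nat.prime_two (h4.dvd (by norm_num : 2 ∣ 4)) h4 h2r (by norm_num) ?_ ?_ (by norm_num)
      (by norm_num) (dvd_mul_right _ _)
    · intro h; apply hr2; omega
    · intro h; have := hr.one_lt; omega
  · have hl0 : 0 < l := by rcases hl with rfl | rfl <;> norm_num
    obtain ⟨v, hv⟩ := exists_norm_ne_one (actT f hf) E (by
      intro v hv
      have h1 : v ^ 2 = 1 := Subtype.ext (by simpa using h2 v v.2)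
      have h3 : (orderOf v) ∣ 1 := by
        have h5 : Nat.Coprime (Nat.card E) 2 := (Nat.coprime_two_right).2 hEodd
        rw [← h5]
        exact Nat.dvd_gcd (orderOf_dvd_of_pow_eq_one hv) (orderOf_dvd_of_pow_eq_one h1)
      exact orderOf_eq_one_iff.1 (Nat.dvd_one.1 h3)) c hl0 hcE hsemi (by
      obtain ⟨e, he1⟩ := Subgroup.ne_bot_iff_exists_ne_one.1 hE1
      refine ⟨e, e.2, ?_⟩
      by_contra hcon
      push Not at hcon
      apply he1
      exact Subtype.ext (hinj _ (MulEquiv.ext hcon)))
    obtain ⟨x, rfl⟩ := hf c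
    have hv' : ∏ i ∈ Finset.range l, MulAut.conjNormal (x ^ i) v ≠ (1 : f.ker) := by
      have h1 : ∏ i ∈ Finset.range l, MulAut.conjNormal (x ^ i) v =
          ∏ i ∈ Finset.range l, actT f hf ((f x) ^ i) v := by
        refine Finset.prod_congr rfl fun i _ => ?_
        rw [← map_pow, actT_apply]
      rw [h1]
      exact hv
    have h6 : Ord G (l * 2) := ord_mul_of_norm Nat.prime_two h2 x (by rw [hord, hcl]) v hv'
    refine hG.false Nat.prime_two (h4.dvd (by norm_num : 2 ∣ 4)) h4 h6 (by norm_num) ?_ ?_ (by norm_num)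
      (by norm_num) (dvd_mul_left _ _)
    · rcases hl with rfl | rfl <;> norm_num
    · rcases hl with rfl | rfl <;> norm_num

/-- **The kernel is trivial** if `T` is not of even type. -/
theorem ker_eq_bot_of_notEven (hT : TopFactor T) (hNE : NotEven T) (hG : Few G) (f : G →* T)
    (hf : Function.Surjective f) (hsolv : Group.IsSolvable f.ker) : f.ker = ⊥ := by
  classical
  by_contra hne
  have h2 : IsPGroup 2 f.ker := by
    rw [ker_eq_pCore hT hG f hf hsolv]
    exact Cfsg.Agent.Lib.Cores.pCore_isPGroup 2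
  -- a maximal normal subgroup below the kernel
  obtain ⟨K, hKmax⟩ : ∃ K : Subgroup G, Maximal (fun N : Subgroup G => N.Normal ∧ N < f.ker) K := by
    have hfin : {N : Subgroup G | N.Normal ∧ N < f.ker}.Finite := Set.toFinite _
    exact hfin.exists_maximal ⟨⊥, inferInstance, bot_lt_iff_ne_bot.2 hne⟩
  have hKn : K.Normal := hKmax.prop.1
  have hKlt : K < f.ker := hKmax.prop.2
  let f' : G ⧸ K →* T := QuotientGroup.lift K f (fun x hx => hKlt.le hx)
  have hf' : Function.Surjective f' := by
    intro y
    obtain ⟨x, rfl⟩ := hf y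
    exact ⟨QuotientGroup.mk x, rfl⟩
  have hker : f'.ker = f.ker.map (QuotientGroup.mk' K) := by
    ext x
    obtain ⟨g, rfl⟩ := QuotientGroup.mk'_surjective _ x
    constructor
    · intro hx
      exact ⟨g, hx, rfl⟩
    · rintro ⟨y, hy, hyx⟩
      rw [← hyx]
      exact hy
  have hne' : f'.ker ≠ ⊥ := by
    intro h
    apply hKlt.not_ge
    intro x hx
    have h3 : QuotientGroup.mk' K x ∈ f'.ker := hx
    rw [h, Subgroup.mem_bot, ← MonoidHom.mem_ker, QuotientGroup.ker_mk'] at h3
    exact h3
  have hsolv' : Group.IsSolvable f'.ker := by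
    rw [hker]
    exact Group.isSolvable_of_surjective (f := (QuotientGroup.mk' K).subgroupMap f.ker)
      ((QuotientGroup.mk' K).subgroupMap_surjective f.ker)
  have h2' : IsPGroup 2 f'.ker := by
    rw [hker]; exact h2.map _
  obtain ⟨s, V, hs, hVn, hV1, hVk, hVc, hVe⟩ := exists_normal_elem f'.ker hne' hsolv'
  -- `V` is the whole kernel
  have hVeq : V = f'.ker := by
    by_contra hcon
    have hlt : V < f'.ker := lt_of_le_of_ne hVk hcon
    have h1 : (V.comap (QuotientGroup.mk' K)).Normal := inferInstance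
    have h3 : V.comap (QuotientGroup.mk' K) < f.ker := by
      refine lt_of_le_of_ne ?_ ?_
      · intro x hx
        exact hVk hx
      · intro h
        apply hcon
        rw [hker, ← h, Subgroup.map_comap_eq_self_of_surjective (QuotientGroup.mk'_surjective K)]
    have h5 : K ≤ V.comap (QuotientGroup.mk' K) := by
      intro x hx
      show QuotientGroup.mk' K x ∈ V
      have : QuotientGroup.mk' K x = 1 := by
        rw [← MonoidHom.mem_ker, QuotientGroup.ker_mk']; exact hx
      rw [this]; exact V.one_mem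
    have h6 := hKmax.le_of_ge ⟨h1, h3⟩ h5
    apply hV1
    rw [eq_bot_iff]
    intro y hy
    obtain ⟨x, rfl⟩ := QuotientGroup.mk'_surjective K y
    rw [Subgroup.mem_bot, ← MonoidHom.mem_ker, QuotientGroup.ker_mk']
    exact h6 hy
  have hs2 : s = 2 := by
    obtain ⟨u, hu1⟩ := Subgroup.ne_bot_iff_exists_ne_one.1 hV1
    have hsf := Fact.mk hs
    have huo : orderOf (u : G ⧸ K) = s := by
      refine orderOf_eq_prime (hVe _ u.2) ?_
      intro h
      exact hu1 (Subtype.ext h)
    obtain ⟨n, hn⟩ := h2' ⟨u, hVk u.2⟩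
    have h1 : (u : G ⧸ K) ^ 2 ^ n = 1 := congrArg Subtype.val hn
    have h3 := orderOf_dvd_of_pow_eq_one h1
    rw [huo] at h3
    exact (Nat.prime_dvd_prime_iff_eq hs Nat.prime_two).1 (hs.dvd_of_dvd_pow h3)
  subst hs2
  subst hVeq
  exact false_of_abelian_kernel hT hNE (hG.quotient K) f' hf' hne' hVe

end

end Cfsg.Agent.H577
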