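import Cfsg.Agent.H577.Psl2
import Cfsg.Agent.H577.FewTwo
import Cfsg.Agent.H577.FewTop
import Cfsg.Agent.TwoFusion.SLTwoFacts

/-!
# `TopFactor` and `NotEven` for the groups `PSL(2, F)`
-/

set_option autoImplicit false
set_option linter.unusedSectionVars false

namespace Cfsg.Agent.H577

open Matrix Subgroup
open Cfsg.Agent.ClassicalGeometry.AutPSL.Root (pr pr_surjective)
open Psl2

/-- the alternative to elements of order four -/
def AltV (T : Type*) [Group T] : Prop :=
  ∃ (S : Sylow 2 T) (l : ℕ) (c : T), l.Prime ∧ l ≠ 2 ∧ orderOf c = l ∧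
    (∀ e ∈ S, c * e * c⁻¹ ∈ S) ∧ ∀ e ∈ S, c * e * c⁻¹ = e → e = 1

theorem AltV.congr {T T' : Type*} [Group T] [Group T'] [Finite T] [Finite T'] (h : AltV T) (e : T ≃* T') :
    AltV T' := by
  obtain ⟨S, l, c, hl, hl2, hc, h1, h2⟩ := h
  have hS : ∃ S' : Sylow 2 T', (S' : Subgroup T') = (S : Subgroup T).map e.toMonoidHom := by
    have hf := Fact.mk Nat.prime_two
    obtain ⟨Q, hQ⟩ := (S.2.map e.toMonoidHom).exists_le_sylow
    refine ⟨Q, ?_⟩
    symm
    apply Subgroup.eq_of_le_of_card_ge hQ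
    rw [Sylow.card_eq_multiplicity, Subgroup.card_map_of_injective e.injective, Sylow.card_eq_multiplicity,
      Nat.card_congr e.toEquiv]
  obtain ⟨S', hS'⟩ := hS
  have hmem : ∀ y : T', y ∈ S' ↔ e.symm y ∈ S := by
    intro y
    rw [← SetLike.mem_coe, ← Sylow.coe_coe, SetLike.mem_coe, hS']
    constructor
    · rintro ⟨x, hx, rfl⟩
      simpa using hx
    · intro hy
      exact ⟨e.symm y, hy, by simp⟩
  refine ⟨S', l, e c, hl, hl2, ?_, ?_, ?_⟩
  · rw [← hc]
    exact orderOf_injective e.toMonoidHom e.injective c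
  · intro y hy
    rw [hmem] at hy ⊢
    simpa using h1 _ hy
  · intro y hy h
    rw [hmem] at hy
    have h3 := h2 _ hy (by
      apply e.injective
      simpa using h)
    simpa using h3

theorem TopFactor.congr {T T' : Type*} [Group T] [Group T'] [Finite T] (h : TopFactor T) (e : T ≃* T') :
    TopFactor T' := by
  have hT' : Finite T' := Finite.of_equiv T e.toEquiv
  have hs := h.simple
  have hcard : Nat.card T' = Nat.card T := Nat.card_congr e.symm.toEquiv
  refine ⟨e.symm.isSimpleGroup, ?_, ?_, ?_, ?_⟩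
  · obtain ⟨a, b, hab⟩ := h.nonab
    refine ⟨e a, e b, ?_⟩
    rw [← map_mul, ← map_mul]
    exact fun h => hab (e.injective h)
  · rw [hcard]; exact h.two
  · rw [hcard]; exact h.odd
  · rcases h.alt with h1 | h1
    · exact Or.inl (h1.of_equiv e)
    · exact Or.inr (AltV.congr h1 e)

theorem NotEven.congr {T T' : Type*} [Group T] [Group T'] (h : NotEven T) (e : T ≃* T') : NotEven T' := by
  rcases h with ⟨r, h1, h2, h3⟩ | ⟨E, c, l, hl, hc, hE, hodd, h1, h2⟩
  · exact Or.inl ⟨r, h1, h2, h3.of_equiv e⟩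
  · right
    refine ⟨E.map e.toMonoidHom, e c, l, hl, ?_, ?_, ?_, ?_, ?_⟩
    · rw [← hc]
      exact orderOf_injective e.toMonoidHom e.injective c
    · intro h
      exact hE ((Subgroup.map_eq_bot_iff_of_injective _ e.injective).1 h)
    · rw [Subgroup.card_map_of_injective e.injective]
      exact hodd
    · rintro _ ⟨x, hx, rfl⟩
      refine ⟨c * x * c⁻¹, h1 x hx, ?_⟩
      simp
    · rintro i hi0 hil _ ⟨x, hx, rfl⟩ h
      have h3 := h2 i hi0 hil x hx (by
        apply e.injective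
        simpa using h)
      rw [h3]
      simp

/-- Constructor for `TopFactor`. -/
theorem TopFactor.mk' {T : Type*} [Group T] [Finite T] (hs : IsSimpleGroup T) (hn : ∃ a b : T, a * b ≠ b * a)
    (h2 : 2 ∣ Nat.card T) (halt : Ord T 4 ∨ AltV T) : TopFactor T := by
  refine ⟨hs, hn, h2, ?_, halt⟩
  have hns : ¬ Group.IsSolvable T := by
    intro h
    obtain ⟨a, b, hab⟩ := hn
    exact hab (IsSimpleGroup.comm_iff_isSolvable.2 h a b)
  obtain ⟨a, b, ha, hb, hab, ha2, hb2, hda, hdb⟩ := exists_two_primes_ne T hns 2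
  exact ⟨a, b, ha, hb, ha2, hb2, hab, hda, hdb⟩

variable {F : Type*} [Field F] [Fintype F]

/-- the unipotent subgroup -/
def upp (F : Type*) [Field F] : Subgroup (P2 F) := ((pr : SL2 F →* P2 F).comp uu).range

theorem mem_upp {y : P2 F} : y ∈ upp F ↔ ∃ x : F, pr (uu (Multiplicative.ofAdd x)) = y := by
  constructor
  · rintro ⟨x, rfl⟩
    exact ⟨x.toAdd, rfl⟩
  · rintro ⟨x, rfl⟩
    exact ⟨Multiplicative.ofAdd x, rfl⟩

theorem card_upp : Nat.card (upp F) = Fintype.card F := by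
  have hinj : Function.Injective ((pr : SL2 F →* P2 F).comp uu) := by
    rw [injective_iff_map_eq_one]
    intro x hx
    exact pr_uu_eq_one.1 hx
  have h1 := Nat.card_congr (MonoidHom.ofInjective hinj).toEquiv
  have h2 : Nat.card (Multiplicative F) = Fintype.card F := by
    rw [← Nat.card_eq_fintype_card (α := F)]
    rfl
  rw [← h2, h1]
  rfl

theorem conj_mem_upp (a : Fˣ) {y : P2 F} (hy : y ∈ upp F) : pr (dg a) * y * (pr (dg a))⁻¹ ∈ upp F := by
  rw [mem_upp] at hy ⊢
  obtain ⟨x, rfl⟩ := hy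
  refine ⟨(a : F) ^ 2 * x, ?_⟩
  rw [← map_inv, ← map_mul, ← map_mul, dg_conj_uu]

theorem eq_one_of_conj (a : Fˣ) (ha : a ^ 2 ≠ 1) {y : P2 F} (hy : y ∈ upp F)
    (h : pr (dg a) * y * (pr (dg a))⁻¹ = y) : y = 1 := by
  rw [mem_upp] at hy
  obtain ⟨x, rfl⟩ := hy
  rw [← map_inv, ← map_mul, ← map_mul, dg_conj_uu] at h
  have h1 : pr (uu (Multiplicative.ofAdd ((a : F) ^ 2 * x - x))) = (1 : P2 F) := by
    rw [sub_eq_add_neg, ofAdd_add, ofAdd_neg, map_mul, map_mul, map_inv, map_inv, h, mul_inv_cancel]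
  rw [pr_uu_eq_one] at h1
  have h2 : (a : F) ^ 2 * x - x = 0 := h1
  have h3 : ((a : F) ^ 2 - 1) * x = 0 := by linear_combination h2
  rcases mul_eq_zero.1 h3 with h4 | h4
  · exfalso
    apply ha
    apply Units.ext
    rw [Units.val_pow_eq_pow_val, Units.val_one]
    linear_combination h4
  · rw [h4]
    simp

/-- Characteristic two. -/
theorem altV_even (hev : Even (Fintype.card F)) (h4 : 4 ≤ Fintype.card F) : AltV (P2 F) := by
  classical
  have hcard := SmallSimple.PSLTwoPart.card_psl_two_even hev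
  obtain ⟨k, _, n, hp, hn⟩ := FiniteField.card' (K := F)
  have hp2 : k = 2 := by
    rw [hn] at hev
    exact (Nat.Prime.even_iff hp).1 ((Nat.even_pow.1 hev).1)
  subst hp2
  have hS : IsPGroup 2 (upp F) := IsPGroup.of_card (n := (n : ℕ)) (by rw [card_upp, hn])
  have hf := Fact.mk Nat.prime_two
  have hind : ¬ 2 ∣ (upp F).index := by
    have h1 := (upp F).card_mul_index
    rw [card_upp, hcard] at h1
    have h2 : (upp F).index = Fintype.card F ^ 2 - 1 := Nat.eq_of_mul_eq_mul_left (by omega) h1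
    rw [h2]
    have h3 : Even (Fintype.card F ^ 2) := hev.pow_of_ne_zero (by norm_num)
    have h5 : 1 ≤ Fintype.card F ^ 2 := Nat.one_le_pow _ _ (by omega)
    obtain ⟨m, hm⟩ := h3
    omega
  obtain ⟨g, hg⟩ := IsCyclic.exists_generator (α := Fˣ)
  have h1 : orderOf g = Fintype.card F - 1 := by
    rw [orderOf_eq_card_of_forall_mem_zpowers hg, Nat.card_eq_fintype_card, Fintype.card_units]
  obtain ⟨l, hl, hld⟩ := Nat.exists_prime_and_dvd (n := Fintype.card F - 1) (by omega)
  have hl2 : l ≠ 2 := by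
    rintro rfl
    obtain ⟨m, hm⟩ := hev
    omega
  set a : Fˣ := g ^ (orderOf g / l) with ha
  have hoa : orderOf a = l := orderOf_pow_orderOf_div (by rw [h1]; omega) (by rw [h1]; exact hld)
  have ha2 : a ^ 2 ≠ 1 := by
    intro h
    have := orderOf_dvd_of_pow_eq_one h
    rw [hoa] at this
    exact hl2 ((Nat.prime_dvd_prime_iff_eq hl Nat.prime_two).1 this)
  refine ⟨hS.toSylow hind, l, pr (dg a), hl, hl2, ?_, ?_, ?_⟩
  · rw [orderOf_pr_dg, orderOf_pow, hoa, (Nat.coprime_primes hl Nat.prime_two).2 hl2, Nat.div_one]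
  · intro e he
    exact conj_mem_upp a he
  · intro e he h
    exact eq_one_of_conj a ha2 he h

theorem two_dvd_card (h4 : 4 ≤ Fintype.card F) : 2 ∣ Nat.card (P2 F) := by
  rcases Nat.even_or_odd (Fintype.card F) with h | h
  · rw [SmallSimple.PSLTwoPart.card_psl_two_even h]
    exact h.two_dvd.mul_right _
  · have h1 := SmallSimple.PSLTwoPart.card_psl_two_odd h
    obtain ⟨k, hk⟩ := h
    obtain ⟨m, hm⟩ : ∃ m, k * (k + 1) = 2 * m := (Nat.even_mul_succ_self k).two_dvd
    have h2 : Fintype.card F ^ 2 - 1 = 4 * (k * (k + 1)) := by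
      rw [hk, Nat.sub_eq_iff_eq_add (Nat.one_le_pow _ _ (by omega))]
      ring
    rw [h2, hm] at h1
    refine ⟨2 * Fintype.card F * m, ?_⟩
    have : 2 * Nat.card (P2 F) = 2 * (2 * (2 * Fintype.card F * m)) := by
      rw [h1]; ring
    omega

theorem exists_noncomm (h4 : 4 ≤ Fintype.card F) : ∃ a b : P2 F, a * b ≠ b * a := by
  classical
  obtain ⟨g, hg⟩ := IsCyclic.exists_generator (α := Fˣ)
  have h1 : orderOf g = Fintype.card F - 1 := by
    rw [orderOf_eq_card_of_forall_mem_zpowers hg, Nat.card_eq_fintype_card, Fintype.card_units]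
  have h2 : g ^ 2 ≠ 1 := by
    intro h
    have := Nat.le_of_dvd (by norm_num) (orderOf_dvd_of_pow_eq_one h)
    omega
  refine ⟨pr (dg g), pr (uu (Multiplicative.ofAdd 1)), ?_⟩
  intro h
  have h3 := eq_one_of_conj g h2 (y := pr (uu (Multiplicative.ofAdd 1))) (mem_upp.2 ⟨1, rfl⟩) (by
    rw [h, mul_inv_cancel_right])
  rw [pr_uu_eq_one] at h3
  exact one_ne_zero (α := F) h3

end Cfsg.Agent.H577
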