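import Cfsg.Agent.H577.CAElim
import Cfsg.Agent.H577.PslTop
import Cfsg.Agent.TwoFusion.SLTwoFacts
import Cfsg.Agent.Lib.Cores
import Cfsg.Agent.S0483
import Cfsg.Agent.Walter.Main
import Cfsg.Agent.Walter.StepAll

/-!
# Minimal non-CA groups: the simple group `L / Z(L)`
-/

set_option autoImplicit false

namespace Cfsg.Agent.H577

open Subgroup Cfsg

universe u

variable {G : Type u} [Group G]

theorem NC.extend [Finite G] {L : Subgroup G} (hcL : centralizer (L : Set G) = center G)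
    {Q : Sylow 2 L} (hnc : NC L (Q : Subgroup L)) {u v : L}
    (hu : QuotientGroup.mk' (center L) u ≠ 1) (hv : QuotientGroup.mk' (center L) v ≠ 1)
    (huv : QuotientGroup.mk' (center L) u ≠ QuotientGroup.mk' (center L) v)
    (hu2 : QuotientGroup.mk' (center L) u * QuotientGroup.mk' (center L) u = 1)
    (hv2 : QuotientGroup.mk' (center L) v * QuotientGroup.mk' (center L) v = 1)
    (hc : Commute (QuotientGroup.mk' (center L) u) (QuotientGroup.mk' (center L) v)) :
    ¬ Commute (u : G) (v : G) := by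
  have : Fact (Nat.Prime 2) := ⟨Nat.prime_two⟩
  set q := QuotientGroup.mk' (center L) with hq
  have hqs : Function.Surjective q := QuotientGroup.mk'_surjective _
  -- the four-group
  have hz2 : ∀ x : L ⧸ center L, x * x = 1 → IsPGroup 2 (zpowers x) := by
    intro x hx
    rw [IsPGroup.iff_card]
    have h4 : Nat.card (zpowers x) ∣ 2 ^ 1 := by
      rw [Nat.card_zpowers]
      apply orderOf_dvd_of_pow_eq_one
      rw [pow_one, pow_two, hx]
    obtain ⟨k, -, hk⟩ := (Nat.dvd_prime_pow Nat.prime_two).1 h4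
    exact ⟨k, hk⟩
  have hnorm : zpowers (q u) ≤ normalizer (zpowers (q v) : Set (L ⧸ center L)) := by
    rw [zpowers_le, mem_normalizer_iff]
    intro x
    constructor
    · rintro ⟨k, rfl⟩
      refine ⟨k, ?_⟩
      change q v ^ k = q u * q v ^ k * (q u)⁻¹
      rw [(hc.zpow_right k).eq, mul_inv_cancel_right]
    · rintro ⟨k, hk⟩
      refine ⟨k, ?_⟩
      change q v ^ k = q u * x * (q u)⁻¹ at hk
      change q v ^ k = x
      have h1 : x = (q u)⁻¹ * (q v ^ k) * q u := by rw [hk]; group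
      rw [h1, (hc.inv_left.zpow_right k).eq, inv_mul_cancel_right]
  have hE2 : IsPGroup 2 (zpowers (q u) ⊔ zpowers (q v) : Subgroup (L ⧸ center L)) :=
    (hz2 _ hu2).to_sup_of_normal_right' (hz2 _ hv2) hnorm
  obtain ⟨h, -, hh⟩ := exists_conj_le_sylow (Q.mapSurjective hqs) (H := ⊤) le_top hE2 le_top
  obtain ⟨γ, rfl⟩ := hqs h
  have hlift : ∀ x : L, q x ∈ (zpowers (q u) ⊔ zpowers (q v) : Subgroup (L ⧸ center L)) →
      ∃ x₁ ∈ (Q : Subgroup L), q x₁ = q (γ * x * γ⁻¹) := by
    intro x hx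
    obtain ⟨x₁, hx₁, hx₁e⟩ := hh _ hx
    exact ⟨x₁, hx₁, by rw [hx₁e, map_mul, map_mul, map_inv]⟩
  obtain ⟨u₁, hu₁, hu₁e⟩ := hlift u ((le_sup_left : zpowers (q u) ≤ _) (mem_zpowers _))
  obtain ⟨v₁, hv₁, hv₁e⟩ := hlift v ((le_sup_right : zpowers (q v) ≤ _) (mem_zpowers _))
  have hconj1 : ∀ x : L, q x ≠ 1 → q (γ * x * γ⁻¹) ≠ 1 := by
    intro x hx h
    apply hx
    rw [map_mul, map_mul, map_inv] at h
    calc q x = (q γ)⁻¹ * (q γ * q x * (q γ)⁻¹) * q γ := by group
      _ = 1 := by rw [h]; group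
  have hconj2 : ∀ x : L, q x * q x = 1 → q (γ * x * γ⁻¹) * q (γ * x * γ⁻¹) = 1 := by
    intro x hx
    rw [map_mul, map_mul, map_inv]
    calc q γ * q x * (q γ)⁻¹ * (q γ * q x * (q γ)⁻¹) = q γ * (q x * q x) * (q γ)⁻¹ := by group
      _ = 1 := by rw [hx]; group
  have h1 := hnc u₁ hu₁ v₁ hv₁ (by rw [← hq, hu₁e]; exact hconj1 u hu)
    (by rw [← hq, hv₁e]; exact hconj1 v hv) (by
      rw [← hq, hu₁e, hv₁e]
      intro h
      apply huv
      rw [map_mul, map_mul, map_inv, map_mul, map_mul, map_inv] at h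
      exact mul_left_cancel (mul_right_cancel h))
    (by rw [← hq, map_mul, hu₁e]; exact hconj2 u hu2)
    (by rw [← hq, map_mul, hv₁e]; exact hconj2 v hv2)
  intro h
  apply h1
  rw [commute_congr_mk hcL hu₁e hv₁e]
  push_cast
  rw [commute_conj_iff]
  have : (γ : G)⁻¹ * (γ * v * (γ : G)⁻¹) * γ = v := by group
  rw [this]
  exact h

/-- an element of odd order centralizing a four-group and inverted by some element -/
theorem false_of_four_group [Finite G] (hm : MinCA G) {L : Subgroup G}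
    (hL : IsQuasisimple L) (hcL : centralizer (L : Set G) = center G)
    {Q : Sylow 2 L} (hnc : NC L (Q : Subgroup L)) {c u v y : L ⧸ center L} (hco : Odd (orderOf c))
    (hc1 : c ≠ 1) (hcu : Commute c u) (hcv : Commute c v) (huv : Commute u v) (hu1 : u ≠ 1)
    (hv1 : v ≠ 1) (hne : u ≠ v) (hu2 : u * u = 1) (hv2 : v * v = 1) (hy : y * c * y⁻¹ = c⁻¹) :
    False := by
  set q := QuotientGroup.mk' (center L) with hq
  have hker : ∀ x : L, q x = 1 ↔ x ∈ center L := fun x => QuotientGroup.eq_one_iff x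
  have hqs : Function.Surjective q := QuotientGroup.mk'_surjective _
  have hsim : IsSimpleGroup (L ⧸ center L) := hL.2
  have hTns : ¬ Group.IsSolvable (L ⧸ center L) := by
    intro h
    have h4 : Group.IsSolvable (center L) := solvable_of_comm fun a b =>
      Subtype.ext (mem_center_iff.1 b.2 a)
    exact Cfsg.Agent.SignalizersComponents.ComponentExists.not_isSolvable_of_isQuasisimple hL
      (solvable_of_quot (center L) h4 h)
  obtain ⟨c₁, rfl⟩ := hqs c
  obtain ⟨u₁, rfl⟩ := hqs u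
  obtain ⟨v₁, rfl⟩ := hqs v
  obtain ⟨y₁, rfl⟩ := hqs y
  have hcm : c₁ ^ orderOf (q c₁) ∈ center L := by
    rw [← hker, map_pow]; exact pow_orderOf_eq_one _
  have huc : Commute u₁ c₁ := by
    refine commute_lift hco (by rw [← hker, map_mul]; exact hu2) hcm ?_
    rw [← hker, map_mul, map_mul, map_mul, map_inv, map_inv, ← hcu.eq]; group
  have hvc : Commute v₁ c₁ := by
    refine commute_lift hco (by rw [← hker, map_mul]; exact hv2) hcm ?_
    rw [← hker, map_mul, map_mul, map_mul, map_inv, map_inv, ← hcv.eq]; group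
  have huv₁ : ¬ Commute u₁ v₁ := fun h =>
    hnc.extend hcL hu1 hv1 hne hu2 hv2 huv (congrArg Subtype.val h)
  -- the normalizer of `⟨c⟩`
  have hNtop : normalizer (zpowers (q c₁) : Set (L ⧸ center L)) ≠ ⊤ := by
    intro h
    have hn : (zpowers (q c₁)).Normal := normalizer_eq_top_iff.1 h
    rcases hn.eq_bot_or_eq_top with h1 | h1
    · rw [zpowers_eq_bot] at h1
      exact hc1 h1
    · apply hTns
      apply solvable_of_comm
      intro a b
      have ha : a ∈ zpowers (q c₁) := h1 ▸ mem_top a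
      have hb : b ∈ zpowers (q c₁) := h1 ▸ mem_top b
      obtain ⟨i, rfl⟩ := mem_zpowers_iff.1 ha
      obtain ⟨j, rfl⟩ := mem_zpowers_iff.1 hb
      exact (Commute.refl _).zpow_zpow i j
  have hmem : ∀ g : L ⧸ center L, (g * q c₁ * g⁻¹ = q c₁ ∨ g * q c₁ * g⁻¹ = (q c₁)⁻¹) →
      g ∈ normalizer (zpowers (q c₁) : Set (L ⧸ center L)) := by
    intro g hg
    have hle : (zpowers (q c₁)).map (MulAut.conj g).toMonoidHom ≤ zpowers (q c₁) := by
      rw [MonoidHom.map_zpowers, zpowers_le]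
      change g * q c₁ * g⁻¹ ∈ _
      rcases hg with hg | hg
      · rw [hg]; exact mem_zpowers _
      · rw [hg]; exact inv_mem (mem_zpowers _)
    have heq : (zpowers (q c₁)).map (MulAut.conj g).toMonoidHom = zpowers (q c₁) := by
      apply Subgroup.eq_of_le_of_card_ge hle
      rw [card_map_of_injective (MulAut.conj g).injective]
    rw [mem_normalizer_iff]
    intro x
    refine ⟨fun hx => hle ⟨x, hx, rfl⟩, fun hx => ?_⟩
    have hx' : g * x * g⁻¹ ∈ (zpowers (q c₁)).map (MulAut.conj g).toMonoidHom := by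
      rw [heq]; exact hx
    obtain ⟨w, hw, hwx⟩ := hx'
    have : w = x := (MulAut.conj g).injective hwx
    rwa [← this]
  have h1 := elim hm L _ hNtop (x := c₁) (a := u₁) (b := v₁) (y := y₁)
    (hmem _ (Or.inl (by rw [← hq]; group))) (hmem _ (Or.inl (by rw [← hq, ← hcu.eq]; group)))
    (hmem _ (Or.inl (by rw [← hq, ← hcv.eq]; group))) (hmem _ (Or.inr hy)) huc hvc huv₁
  have h2 := (h1.map q).eq
  rw [h2] at hy
  have h3 : q c₁ = (q c₁)⁻¹ := by
    calc q c₁ = q c₁ * q y₁ * (q y₁)⁻¹ := by group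
      _ = (q c₁)⁻¹ := hy
  have h4 : q c₁ ^ 2 = 1 := by
    rw [pow_two]
    nth_rewrite 2 [h3]
    group
  have h5 := orderOf_dvd_of_pow_eq_one h4
  apply hc1
  rw [← orderOf_eq_one_iff]
  rcases (Nat.dvd_prime Nat.prime_two).1 h5 with h6 | h6
  · exact h6
  · rw [h6] at hco
    exact absurd hco (by decide)

theorem swap_mul_swap_mem {a b c d : Fin 7} (hab : a ≠ b) (hcd : c ≠ d) :
    Equiv.swap a b * Equiv.swap c d ∈ alternatingGroup (Fin 7) := by
  rw [Equiv.Perm.mem_alternatingGroup, Equiv.Perm.sign_mul, Equiv.Perm.sign_swap hab,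
    Equiv.Perm.sign_swap hcd]
  rfl

/-- `(0 1 2)` -/
def a7c : alternatingGroup (Fin 7) :=
  ⟨Equiv.swap 0 1 * Equiv.swap 1 2, swap_mul_swap_mem (by decide) (by decide)⟩

/-- `(3 4)(5 6)` -/
def a7u : alternatingGroup (Fin 7) :=
  ⟨Equiv.swap 3 4 * Equiv.swap 5 6, swap_mul_swap_mem (by decide) (by decide)⟩

/-- `(3 5)(4 6)` -/
def a7v : alternatingGroup (Fin 7) :=
  ⟨Equiv.swap 3 5 * Equiv.swap 4 6, swap_mul_swap_mem (by decide) (by decide)⟩

/-- `(0 1)(3 4)` -/
def a7y : alternatingGroup (Fin 7) :=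
  ⟨Equiv.swap 0 1 * Equiv.swap 3 4, swap_mul_swap_mem (by decide) (by decide)⟩

/-- **`A₇` is impossible.** -/
theorem false_of_a7 [Finite G] (hm : MinCA G) {L : Subgroup G}
    (hL : IsQuasisimple L) (hcL : centralizer (L : Set G) = center G)
    {Q : Sylow 2 L} (hnc : NC L (Q : Subgroup L))
    (e : alternatingGroup (Fin 7) ≃* L ⧸ center L) : False := by
  have hc3 : a7c ^ 3 = 1 := Subtype.ext (by decide)
  have hc1 : a7c ≠ 1 := by decide
  have hco : orderOf a7c = 3 := orderOf_eq_prime hc3 hc1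
  have hcu : a7c * a7u = a7u * a7c := Subtype.ext (by decide)
  have hcv : a7c * a7v = a7v * a7c := Subtype.ext (by decide)
  have huv : a7u * a7v = a7v * a7u := Subtype.ext (by decide)
  have hu1 : a7u ≠ 1 := by decide
  have hv1 : a7v ≠ 1 := by decide
  have hne : a7u ≠ a7v := by decide
  have hu2 : a7u * a7u = 1 := Subtype.ext (by decide)
  have hv2 : a7v * a7v = 1 := Subtype.ext (by decide)
  have hy : a7y * a7c * a7y⁻¹ = a7c⁻¹ := Subtype.ext (by decide)
  refine false_of_four_group hm hL hcL hnc (c := e a7c) (u := e a7u) (v := e a7v) (y := e a7y) ?_ ?_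
    ?_ ?_ ?_ ?_ ?_ ?_ ?_ ?_ ?_
  · rw [MulEquiv.orderOf_eq, hco]; decide
  · rwa [Ne, map_eq_one_iff e e.injective]
  · change e a7c * e a7u = e a7u * e a7c
    rw [← map_mul, ← map_mul, hcu]
  · change e a7c * e a7v = e a7v * e a7c
    rw [← map_mul, ← map_mul, hcv]
  · change e a7u * e a7v = e a7v * e a7u
    rw [← map_mul, ← map_mul, huv]
  · rwa [Ne, map_eq_one_iff e e.injective]
  · rwa [Ne, map_eq_one_iff e e.injective]
  · exact fun h => hne (e.injective h)
  · rw [← map_mul, hu2, map_one]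
  · rw [← map_mul, hv2, map_one]
  · rw [← map_mul, ← map_inv, ← map_mul, hy, map_inv]

theorem psl_not_solvable {F : Type*} [Field F] [Fintype F] (h4 : 4 ≤ Fintype.card F) :
    ¬ Group.IsSolvable (Matrix.ProjectiveSpecialLinearGroup (Fin 2) F) := by
  intro h
  have hs := TwoFusion.SLTwoFacts.isSimpleGroup_psl (F := F) h4
  obtain ⟨a, b, hab⟩ := exists_noncomm (F := F) h4
  exact hab (IsSimpleGroup.comm_iff_isSolvable.2 h a b)

/-- **The simple group `L / Z(L)`.** -/
theorem exists_psl [Finite G] (FT : FTh.{u}) (hm : MinCA G) (hns : ¬ Group.IsSolvable G)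
    (L : Subgroup G) (hL : IsQuasisimple L) (hcL : centralizer (L : Set G) = center G) :
    ∃ (F : Type) (_ : Field F) (_ : Fintype F),
      Nonempty (L ⧸ center L ≃* Matrix.ProjectiveSpecialLinearGroup (Fin 2) F) ∧
      ((∃ a : ℕ, 2 ≤ a ∧ Fintype.card F = 2 ^ a) ∨
        ((Fintype.card F % 8 = 3 ∨ Fintype.card F % 8 = 5) ∧ 5 ≤ Fintype.card F) ∨
        (Odd (Fintype.card F) ∧ 3 < Fintype.card F ∧ ∃ P : Sylow 2 G, ∃ a ∈ P, ∃ b ∈ P, ¬ Commute a b)) := by
  have : Fact (Nat.Prime 2) := ⟨Nat.prime_two⟩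
  set q := QuotientGroup.mk' (center L) with hq
  have hqs : Function.Surjective q := QuotientGroup.mk'_surjective _
  have hsim : IsSimpleGroup (L ⧸ center L) := hL.2
  have hTns : ¬ Group.IsSolvable (L ⧸ center L) := by
    intro h
    have h4 : Group.IsSolvable (center L) := solvable_of_comm fun a b =>
      Subtype.ext (mem_center_iff.1 b.2 a)
    exact Cfsg.Agent.SignalizersComponents.ComponentExists.not_isSolvable_of_isQuasisimple hL
      (solvable_of_quot (center L) h4 h)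
  have hna : ¬ IsMulCommutative (L ⧸ center L) := fun h =>
    hTns (solvable_of_comm fun a b => h.is_comm.comm a b)
  obtain ⟨Q⟩ : Nonempty (Sylow 2 L) := Sylow.nonempty
  set P := Q.mapSurjective hqs with hP
  by_cases hPab : ∀ a ∈ (P : Subgroup (L ⧸ center L)), ∀ b ∈ (P : Subgroup (L ⧸ center L)), a * b = b * a
  · -- Walter
    have hW := Cfsg.Agent.Walter.Main.wType_of_step Cfsg.Agent.Walter.StepAll.step (L ⧸ center L)
      hsim hna P hPab
    rcases Cfsg.Agent.Walter.Main.centralizer_of_wType hW with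
      ⟨a, ha, F, i1, i2, hF, he⟩ | ⟨F, i1, i2, h8, h5, he⟩ | ⟨F, i1, i2, h8, h5, ⟨t, ht⟩, hC⟩
    · exact ⟨F, i1, i2, he, Or.inl ⟨a, ha, hF⟩⟩
    · exact ⟨F, i1, i2, he, Or.inr (Or.inl ⟨h8, h5⟩)⟩
    · exfalso
      obtain ⟨e⟩ := hC t ht
      have ht2 : t * t = 1 := by rw [← pow_two, ← ht]; exact pow_orderOf_eq_one t
      have ht1 : t ≠ 1 := by
        rintro rfl
        rw [orderOf_one] at ht
        omega
      have h2 : IsPGroup 2 (zpowers t) := by
        rw [IsPGroup.iff_card]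
        exact ⟨1, by rw [Nat.card_zpowers, ht, pow_one]⟩
      obtain ⟨P', hP'⟩ := h2.exists_le_sylow
      obtain ⟨g, hg⟩ := MulAction.exists_smul_eq (L ⧸ center L) P P'
      have hP'ab : ∀ a ∈ (P' : Subgroup (L ⧸ center L)), ∀ b ∈ (P' : Subgroup (L ⧸ center L)),
          a * b = b * a := by
        rw [← hg, Sylow.smul_def]
        rintro _ ⟨a, ha, rfl⟩ _ ⟨b, hb, rfl⟩
        change (MulAut.conj g a) * (MulAut.conj g b) = (MulAut.conj g b) * (MulAut.conj g a)
        rw [← map_mul, ← map_mul, hPab a ha b hb]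
      refine false_of_centralizer_nonsolvable FT hm L hL P' hP'ab (hP' (mem_zpowers t)) ht1 ht2 ?_
      intro hs
      have h4 : Group.IsSolvable (Multiplicative (ZMod 2) ×
          Matrix.ProjectiveSpecialLinearGroup (Fin 2) F) :=
        Group.isSolvable_of_isSolvable_injective (f := e.symm.toMonoidHom) e.symm.injective
      have h6 : Group.IsSolvable (Matrix.ProjectiveSpecialLinearGroup (Fin 2) F) :=
        Group.isSolvable_of_surjective (f := MonoidHom.snd (Multiplicative (ZMod 2))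
          (Matrix.ProjectiveSpecialLinearGroup (Fin 2) F)) Prod.snd_surjective
      exact psl_not_solvable (F := F) (by omega) h6
  · have hPeq : (P : Subgroup (L ⧸ center L)) = (Q : Subgroup L).map q := rfl
    have h2 : IsPGroup 2 ((Q : Subgroup L).map L.subtype) := Q.isPGroup'.map _
    obtain ⟨S, hS⟩ := h2.exists_le_sylow
    push Not at hPab
    obtain ⟨_, ⟨a, ha, rfl⟩, _, ⟨b, hb, rfl⟩, hab⟩ := hPab
    have haS : (a : G) ∈ (S : Subgroup G) := hS ⟨a, ha, rfl⟩
    have hbS : (b : G) ∈ (S : Subgroup G) := hS ⟨b, hb, rfl⟩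
    have habS : ¬ Commute (a : G) b := by
      intro h
      apply hab
      have h3 : a * b = b * a := Subtype.ext h
      rw [← map_mul, ← map_mul, h3]
    obtain ⟨z, hz⟩ := exists_sylStr FT hm hns S haS hbS habS
    rcases sylow_quot_cases L hL hcL Q S hS hz with h | ⟨⟨n, hn, he⟩, hnc⟩
    · exact absurd (h _ ⟨a, ha, rfl⟩ _ ⟨b, hb, rfl⟩) hab
    · have hperf : Group.IsPerfect (L ⧸ center L) := by
        have := hL.1
        exact Group.IsPerfect.ofSurjective (f := q) hqs
      have hodd : Cfsg.oddCore (L ⧸ center L) = ⊥ := by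
        rcases (Cfsg.pPrimeCore_normal 2 (L ⧸ center L)).eq_bot_or_eq_top with h | h
        · exact h
        · exfalso
          apply hTns
          have h1 := Cfsg.Agent.Lib.Cores.pPrimeCore_coprime (G := L ⧸ center L) 2
          rw [h, Subgroup.card_top] at h1
          exact FT _ (Nat.coprime_two_right.1 h1)
      have e₀ : (L ⧸ center L) ⧸ Cfsg.oddCore (L ⧸ center L) ≃* L ⧸ center L :=
        (QuotientGroup.quotientMulEquivOfEq hodd).trans QuotientGroup.quotientBot
      rcases Cfsg.Agent.S0483.result P n hn he with ⟨F, i1, i2, ho, h3, ⟨e⟩⟩ | ⟨⟨e⟩⟩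
      · exact ⟨F, i1, i2, ⟨e₀.symm.trans e⟩, Or.inr (Or.inr ⟨ho, h3, S, a, haS, b, hbS, habS⟩)⟩
      · exact (false_of_a7 hm hL hcL hnc (e.symm.trans e₀)).elim

end Cfsg.Agent.H577
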