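import Cfsg.Agent.H577.CAAct
import Cfsg.Agent.H577.CATypes
import Cfsg.Agent.H577.CACover

/-!
# Minimal non-CA groups: abelian Sylow 2-subgroups
-/

set_option autoImplicit false
set_option linter.unusedSectionVars false

namespace Cfsg.Agent.H577

open Matrix Subgroup Cfsg
open Cfsg.Agent.ClassicalGeometry.AutPSL.Root (pr pr_surjective)
open Cfsg.Agent.ClassicalGeometry.AutPSL.Auto (cj fld lift itr coe_cj coe_fld_apply lift_pr)
open Cfsg.Agent.ClassicalGeometry.AutPSL.Main (cj_eq_one_of_scalar injective_aux surj_two surj_three)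
open Psl2

universe u

section

variable {G : Type*} [Group G] {L : Subgroup G} {F : Type*} [Field F] [Fintype F]

theorem Act.ker_p (A : Act G L F) : A.p.ker = center L := by
  ext x
  rw [MonoidHom.mem_ker, A.ker]

/-- **no field automorphisms** -/
theorem Act.no_fld [Finite G] (A : Act G L F) (hm : MinCA G) (h4 : 4 ≤ Fintype.card F)
    (hZ : ∀ c : ℕ, c.Prime → CharP F c → c ∣ Nat.card (center L) → Fintype.card F = 9)
    {σ : F ≃+* F} (hσ : lift (fld σ) ∈ A.Φ.range) : σ = 1 := by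
  by_contra h1
  obtain ⟨r, τ, hr, hτ, ⟨g, hg⟩, hcard⟩ := exists_prime_fld hσ h1
  obtain ⟨c, hchar, n, hc, hn⟩ := FiniteField.card' (K := F)
  by_cases hrc : r = c
  · by_cases hcL : c ∣ Nat.card (center L)
    · have h9 := hZ c hc hchar hcL
      have hc3 : c = 3 := by
        have h2 : c ∣ 9 := by
          rw [← h9, hn]
          exact dvd_pow_self _ n.pos.ne'
        have h3 : c ∣ 3 ^ 2 := by norm_num; exact h2
        exact (Nat.prime_dvd_prime_iff_eq hc Nat.prime_three).1 (hc.dvd_of_dvd_pow h3)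
      rw [Nat.card_eq_fintype_card, h9, hrc, hc3] at hcard
      set k := Nat.card {x : F // τ x = x}
      rcases (by omega : k ≤ 2 ∨ 3 ≤ k) with h | h
      · interval_cases k <;> omega
      · have : 3 ^ 3 ≤ k ^ 3 := Nat.pow_le_pow_left h 3
        omega
    · refine A.false_of_fld_center hm h4 c hc hcL hg ?_
      rintro rfl
      rw [orderOf_one] at hτ
      exact hr.one_lt.ne hτ
  · exact A.false_of_fld_ne hm h4 c hc hr hrc hg hτ

/-- `q` even: `G = L Z(G)` -/
theorem Act.mul_center_of_even [Finite G] (A : Act G L F) (hm : MinCA G) {a : ℕ} (ha : 2 ≤ a)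
    (hF : Fintype.card F = 2 ^ a) (hZ : center L = ⊥) (g : G) : ∃ l : L, (l : G)⁻¹ * g ∈ center G := by
  have hf : Fact (Nat.Prime 2) := ⟨Nat.prime_two⟩
  have : CharP F 2 := charP_of_card_eq_prime_pow hF
  have h4 : 4 ≤ Fintype.card F := by
    rw [hF]
    calc 4 = 2 ^ 2 := by norm_num
      _ ≤ 2 ^ a := Nat.pow_le_pow_right (by norm_num) ha
  obtain ⟨B, σ, hB⟩ := surj_two 2 (A.Φ g)
  obtain ⟨s, hs⟩ := FiniteField.isSquare_of_char_two (F := F) (ringChar.eq F 2)
    ((B : Matrix (Fin 2) (Fin 2) F).det)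
  rw [← pow_two] at hs
  have hmem : lift (cj B * fld σ) ∈ A.Φ.range := ⟨g, by rw [← hB]⟩
  have hσ1 : σ = 1 := by
    refine A.no_fld hm h4 ?_ (fld_mem_of_isSquare A.conj_mem hmem hs)
    intro c hc _ hd
    exfalso
    rw [hZ, Subgroup.card_bot] at hd
    exact hc.one_lt.ne' (Nat.dvd_one.1 hd)
  subst hσ1
  obtain ⟨x, hx⟩ := conj_of_det_sq hs
  obtain ⟨l, rfl⟩ := A.surj x
  refine ⟨l, ?_⟩
  rw [← A.kerΦ, map_mul, map_inv, A.Φ_coe, ← hx, hB, map_one, mul_one, inv_mul_cancel]

theorem Act.ca_psl (A : Act G L F) (hm : MinCA G) (hZ : center L = ⊥) (hL : L ≠ ⊤) : CA (P2 F) := by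
  have hinj : Function.Injective A.p := by
    rw [← MonoidHom.ker_eq_bot_iff, A.ker_p, hZ]
  let e : L ≃* P2 F := MulEquiv.ofBijective A.p ⟨hinj, A.surj⟩
  exact (hm.ca hL).of_injective e.symm.toMonoidHom e.symm.injective

/-- `q` even, `L ≠ G`: impossible -/
theorem Act.false_of_even [Finite G] (A : Act G L F) (hm : MinCA G) (hCA : ¬ CA G) {a : ℕ} (ha : 2 ≤ a)
    (hF : Fintype.card F = 2 ^ a) (hZ : center L = ⊥) (hL : L ≠ ⊤) : False := by
  apply hCA
  have hLc := hm.ca hL
  intro x y a b hax hbx hyx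
  have key : ∀ g : G, ∃ (l : L) (z : G), z ∈ center G ∧ g = l * z := by
    intro g
    obtain ⟨l, hl⟩ := A.mul_center_of_even hm ha hF hZ g
    exact ⟨l, _, hl, by group⟩
  obtain ⟨x, u, hu, rfl⟩ := key x
  obtain ⟨y, v, hv, rfl⟩ := key y
  obtain ⟨a, w, hw, rfl⟩ := key a
  obtain ⟨b, t, ht, rfl⟩ := key b
  rw [commute_congr_mul_center hw hu] at hax
  rw [commute_congr_mul_center ht hu] at hbx
  rw [commute_congr_mul_center hv hu] at hyx
  rw [commute_congr_mul_center hw ht]
  exact congrArg Subtype.val (hLc x y a b (Subtype.ext hax) (Subtype.ext hbx)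
    (fun h => hyx (congrArg Subtype.val h)))

end

/-- the conclusion for `PSL(2, F)` -/
def Good (F : Type*) [Fintype F] : Prop :=
  ((Fintype.card F).Prime ∧ 5 < Fintype.card F ∧ ¬ 16 ∣ Fintype.card F ^ 2 - 1) ∨
    (∃ p : ℕ, p.Prime ∧ p ≠ 2 ∧ (Fintype.card F = 3 ^ p ∨ Fintype.card F = 5 ^ p))

theorem ca_five {F : Type*} [Field F] [Fintype F] (hF : Fintype.card F = 5) : CA (P2 F) := by
  have hf : Fact (Nat.Prime 2) := ⟨Nat.prime_two⟩
  let _ := Fintype.ofFinite (GaloisField 2 2)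
  have hK : Fintype.card (GaloisField 2 2) = 4 := by
    rw [← Nat.card_eq_fintype_card, GaloisField.card 2 2 (by norm_num)]
    norm_num
  obtain ⟨e⟩ := equiv_four_five hK hF
  have h2 : (2 : GaloisField 2 2) = 0 := CharTwo.two_eq_zero
  exact (ca_of_even h2).of_injective e.symm.toMonoidHom e.symm.injective

theorem card_lt {F K : Type*} [Field F] [Fintype F] [Field K] [Fintype K] (hF : Odd (Fintype.card F))
    (hK : Odd (Fintype.card K)) (h : Fintype.card K < Fintype.card F) :
    Nat.card (Matrix.ProjectiveSpecialLinearGroup (Fin 2) K) <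
      Nat.card (Matrix.ProjectiveSpecialLinearGroup (Fin 2) F) := by
  have h1 := ClassicalGeometry.PSL2Basic.card_PSL2_odd F hF
  have h2 := ClassicalGeometry.PSL2Basic.card_PSL2_odd K hK
  have h3 : 1 < Fintype.card K := Fintype.one_lt_card
  have h4 : Fintype.card K ^ 2 - 1 < Fintype.card F ^ 2 - 1 := by
    have h5 : Fintype.card K ^ 2 < Fintype.card F ^ 2 := Nat.pow_lt_pow_left h (by norm_num)
    have h6 : 1 ≤ Fintype.card K ^ 2 := Nat.one_le_pow _ _ (by omega)
    omega
  have h5 : Fintype.card K * (Fintype.card K ^ 2 - 1) < Fintype.card F * (Fintype.card F ^ 2 - 1) :=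
    Nat.mul_lt_mul_of_lt_of_lt h h4
  omega

theorem good_of_equiv {G : Type*} [Group G] [Finite G] (hm : MinCA G) (hCA : ¬ CA G) {F : Type*} [Field F]
    [Fintype F] (e : G ≃* P2 F) (hF : (∃ a : ℕ, 2 ≤ a ∧ Fintype.card F = 2 ^ a) ∨
      ((Fintype.card F % 8 = 3 ∨ Fintype.card F % 8 = 5) ∧ 5 ≤ Fintype.card F)) : Good F := by
  have hf : Fact (Nat.Prime 2) := ⟨Nat.prime_two⟩
  have hCA' : ¬ CA (P2 F) := fun h => hCA (h.of_injective e.toMonoidHom e.injective)
  rcases hF with ⟨a, ha, hF⟩ | ⟨h8, h5⟩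
  · have : CharP F 2 := charP_of_card_eq_prime_pow hF
    exact absurd (ca_of_even CharTwo.two_eq_zero) hCA'
  have hodd : Odd (Fintype.card F) := by rw [Nat.odd_iff]; omega
  have h5' : 5 < Fintype.card F := by
    rcases Nat.lt_or_ge 5 (Fintype.card F) with h | h
    · exact h
    · exact absurd (ca_five (by omega)) hCA'
  obtain ⟨p, hchar, n, hp, hn⟩ := FiniteField.card' (K := F)
  have hpf : Fact p.Prime := ⟨hp⟩
  have hp2 : p ≠ 2 := by
    rintro rfl
    rw [hn] at hodd
    exact (Nat.not_odd_iff_even.2 ((even_two).pow_of_ne_zero n.pos.ne')) hodd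
  have hpodd : Odd p := hp.odd_of_ne_two hp2
  have h16 : ¬ 16 ∣ Fintype.card F ^ 2 - 1 := by
    have h1 : Fintype.card F ^ 2 % 16 = 9 := by
      rcases (by omega : Fintype.card F % 16 = 3 ∨ Fintype.card F % 16 = 5 ∨ Fintype.card F % 16 = 11 ∨
        Fintype.card F % 16 = 13) with h | h | h | h <;> rw [Nat.pow_mod, h]
    have h2 : 1 ≤ Fintype.card F ^ 2 := Nat.one_le_pow _ _ (by omega)
    omega
  by_cases hn1 : (n : ℕ) = 1
  · left
    refine ⟨?_, h5', h16⟩
    rw [hn, hn1, pow_one]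
    exact hp
  right
  have hnodd : Odd (n : ℕ) := by
    by_contra hcon
    obtain ⟨m, hm⟩ := Nat.not_odd_iff_even.1 hcon
    have h1 : Fintype.card F = (p ^ m) ^ 2 := by rw [hn, hm, ← pow_mul]; congr 1; ring
    have h2 : Odd (p ^ m) := hpodd.pow
    obtain ⟨k, hk⟩ := h2
    have h3 : Fintype.card F = 4 * (k * (k + 1)) + 1 := by rw [h1, hk]; ring
    obtain ⟨j, hj⟩ := Nat.even_mul_succ_self k
    omega
  -- subfields
  have key : ∀ r m : ℕ, 0 < m → (n : ℕ) = r * m → 1 < r → CA (Matrix.ProjectiveSpecialLinearGroup (Fin 2) (GaloisField p m)) := by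
    intro r m hm0 hnm hr
    let _ := Fintype.ofFinite (GaloisField p m)
    have hK : Fintype.card (GaloisField p m) = p ^ m := by
      rw [← Nat.card_eq_fintype_card, GaloisField.card p m hm0.ne']
    obtain ⟨φ⟩ := ClassicalGeometry.PSL2Basic.exists_ringHom_of_card_pow (K := GaloisField p m) (L := F)
      (m := r) (by rw [hK, hn, hnm, ← pow_mul, mul_comm])
    let ψ : Matrix.ProjectiveSpecialLinearGroup (Fin 2) (GaloisField p m) →* G :=
      e.symm.toMonoidHom.comp (ClassicalGeometry.PSL2Basic.pslMap φ)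
    have hψ : Function.Injective ψ := e.symm.injective.comp (ClassicalGeometry.PSL2Basic.pslMap_injective φ)
    have hKodd : Odd (Fintype.card (GaloisField p m)) := by rw [hK]; exact hpodd.pow
    have hr' : ψ.range ≠ ⊤ := by
      intro h
      have h1 : Nat.card ψ.range = Nat.card G := by rw [h, Subgroup.card_top]
      rw [Nat.card_congr (MonoidHom.ofInjective hψ).symm.toEquiv, Nat.card_congr e.toEquiv] at h1
      have h2 := card_lt hodd hKodd (by
        rw [hK, hn]
        apply Nat.pow_lt_pow_right hp.one_lt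
        rw [hnm]
        exact lt_mul_of_one_lt_left hm0 hr)
      exact h2.ne h1
    exact (hm.ca hr').of_injective (MonoidHom.ofInjective hψ).toMonoidHom (MulEquiv.injective _)
  have key2 : ∀ r m : ℕ, 0 < m → (n : ℕ) = r * m → 1 < r → p ^ m ≤ 5 := by
    intro r m hm0 hnm hr
    by_contra hcon
    push Not at hcon
    let _ := Fintype.ofFinite (GaloisField p m)
    have hK : Fintype.card (GaloisField p m) = p ^ m := by
      rw [← Nat.card_eq_fintype_card, GaloisField.card p m hm0.ne']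
    exact not_ca_of_odd (F := GaloisField p m) (by rw [hK]; exact hpodd.pow) (by rw [hK]; exact hcon)
      (key r m hm0 hnm hr)
  have hp5 : p = 3 ∨ p = 5 := by
    have h1 := key2 n 1 one_pos (by rw [mul_one]) (by have := n.pos; omega)
    rw [pow_one] at h1
    have := hp.two_le
    have hne : p ≠ 4 := by rintro rfl; exact absurd hp (by norm_num)
    omega
  have hprime : (n : ℕ).Prime := by
    by_contra hcon
    obtain ⟨r, hr, m, hrm⟩ := Nat.exists_prime_and_dvd hn1
    have hm1 : m ≠ 1 := by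
      rintro rfl
      rw [mul_one] at hrm
      rw [hrm] at hcon
      exact hcon hr
    have hm0 : m ≠ 0 := by
      rintro rfl
      rw [mul_zero] at hrm
      exact n.pos.ne' hrm
    have h1 := key2 r m (by omega) hrm hr.one_lt
    have h2 : p ^ 2 ≤ p ^ m := Nat.pow_le_pow_right hp.pos (by omega)
    have h3 : 3 ^ 2 ≤ p ^ 2 := Nat.pow_le_pow_left (by omega) 2
    omega
  refine ⟨n, hprime, ?_, ?_⟩
  · intro h
    rw [h] at hnodd
    exact absurd hnodd (by decide)
  · rcases hp5 with rfl | rfl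
    · exact Or.inl hn
    · exact Or.inr hn

/-- **Abelian Sylow 2-subgroups.** -/
theorem conclusion_of_abelian {G : Type u} [Group G] [Finite G] (FT : FTh.{u}) (hm : MinCA G)
    (hns : ¬ Group.IsSolvable G) (hCA : ¬ CA G)
    (hab : ∀ S : Sylow 2 G, ∀ a ∈ (S : Subgroup G), ∀ b ∈ (S : Subgroup G), Commute a b) :
    ∃ (F : Type) (_ : Field F) (_ : Fintype F), Nonempty (G ≃* P2 F) ∧ Good F := by
  have hf : Fact (Nat.Prime 2) := ⟨Nat.prime_two⟩
  obtain ⟨L, hLn, hLq, hcL⟩ := exists_comp FT hm hns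
  obtain ⟨F, i1, i2, ⟨e⟩, hcase⟩ := exists_psl FT hm hns L hLq hcL
  have hcase' : (∃ a : ℕ, 2 ≤ a ∧ Fintype.card F = 2 ^ a) ∨
      ((Fintype.card F % 8 = 3 ∨ Fintype.card F % 8 = 5) ∧ 5 ≤ Fintype.card F) := by
    rcases hcase with h | h | ⟨-, -, P, a, ha, b, hb, h⟩
    · exact Or.inl h
    · exact Or.inr h
    · exact absurd (hab P a ha b hb) h
  obtain ⟨Q⟩ : Nonempty (Sylow 2 L) := Sylow.nonempty
  have hQab : ∀ a ∈ (Q : Subgroup L), ∀ b ∈ (Q : Subgroup L), Commute a b := by
    have h2 : IsPGroup 2 ((Q : Subgroup L).map L.subtype) := Q.isPGroup'.map _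
    obtain ⟨S, hS⟩ := h2.exists_le_sylow
    intro a ha b hb
    exact Subtype.ext (hab S a (hS ⟨a, ha, rfl⟩) b (hS ⟨b, hb, rfl⟩))
  obtain ⟨A⟩ := exists_act hLn hLq hcL e
  have hZ : center L = ⊥ := by
    refine center_eq_bot_of_abelian (F := F) ?_ A.perfect Q hQab A.p A.surj A.ker_p
    rcases hcase' with h | ⟨h8, h5⟩
    · exact Or.inl h
    · right
      refine ⟨by rw [Nat.odd_iff]; omega, by omega, ?_⟩
      intro h
      rw [h] at h8
      omega
  by_cases hL : L = ⊤
  · have hinj : Function.Injective A.p := by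
      rw [← MonoidHom.ker_eq_bot_iff, A.ker_p, hZ]
    let e' : G ≃* P2 F := (Subgroup.topEquiv.symm.trans (MulEquiv.subgroupCongr hL.symm)).trans
      (MulEquiv.ofBijective A.p ⟨hinj, A.surj⟩)
    exact ⟨F, i1, i2, ⟨e'⟩, good_of_equiv hm hCA e' hcase'⟩
  · exfalso
    rcases hcase' with ⟨a, ha, hF⟩ | ⟨h8, h5⟩
    · exact A.false_of_even hm hCA ha hF hZ hL
    · have hCF := A.ca_psl hm hZ hL
      have hodd : Odd (Fintype.card F) := by rw [Nat.odd_iff]; omega
      have hF5 : Fintype.card F = 5 := by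
        by_contra hne
        exact not_ca_of_odd hodd (by omega) hCF
      let _ := Fintype.ofFinite (GaloisField 2 2)
      have hK : Fintype.card (GaloisField 2 2) = 4 := by
        rw [← Nat.card_eq_fintype_card, GaloisField.card 2 2 (by norm_num)]
        norm_num
      obtain ⟨e'⟩ := equiv_four_five hK hF5
      obtain ⟨A'⟩ := exists_act hLn hLq hcL (e.trans e'.symm)
      exact A'.false_of_even hm hCA (a := 2) le_rfl (by rw [hK]; norm_num) hZ hL

end Cfsg.Agent.H577
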