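import Cfsg.Agent.H577.CAAbel

/-!
# Minimal non-CA groups: abelian normal subgroups are central (end)
-/

set_option autoImplicit false

namespace Cfsg.Agent.H577

open Subgroup

universe u

variable {G : Type u} [Group G]

theorem sq_mem_center_of_inv {s t d : G} (h1 : t * d * t⁻¹ * d ∈ center G)
    (h2 : s * (t * d * t⁻¹) * s⁻¹ * (t * d * t⁻¹) ∈ center G)
    (h3 : (s * t) * d * (s * t)⁻¹ * d ∈ center G) : d * d ∈ center G := by
  have hz : (t * d * t⁻¹ * d)⁻¹ ∈ center G := inv_mem h1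
  have h4 : (s * (t * d * t⁻¹) * s⁻¹ * (t * d * t⁻¹))⁻¹ * ((s * t) * d * (s * t)⁻¹ * d) =
      (t * d * t⁻¹ * d)⁻¹ * (d * d) := by
    calc (s * (t * d * t⁻¹) * s⁻¹ * (t * d * t⁻¹))⁻¹ * ((s * t) * d * (s * t)⁻¹ * d) =
        d * (t * d * t⁻¹ * d)⁻¹ * d := by group
      _ = (t * d * t⁻¹ * d)⁻¹ * (d * d) := by rw [mem_center_iff.1 hz d]; group
  have h5 : d * d = (t * d * t⁻¹ * d) *
      ((s * (t * d * t⁻¹) * s⁻¹ * (t * d * t⁻¹))⁻¹ * ((s * t) * d * (s * t)⁻¹ * d)) := by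
    rw [h4, mul_inv_cancel_left]
  rw [h5]
  exact mul_mem h1 (mul_mem (inv_mem h2) h3)

/-- **A4.** Abelian normal 2-subgroups are central. -/
theorem two_le_center [Finite G] (FT : FTh.{u}) (hm : MinCA G) (hns : ¬ Group.IsSolvable G)
    (D : Subgroup G) [hDn : D.Normal] (hDc : ∀ a ∈ D, ∀ b ∈ D, Commute a b) (hD2 : IsPGroup 2 D) :
    D ≤ center G := by
  by_contra hnc
  set C := centralizer (D : Set G) with hCdef
  have hCn : C.Normal := by rw [hCdef]; infer_instance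
  have hDC : D ≤ C := fun x hx => mem_centralizer_iff.2 fun y hy => hDc y hy x hx
  have hCab : ∀ a ∈ C, ∀ b ∈ C, Commute a b := centralizer_comm_of_abelian FT hm hns D hDc hnc
  have hCs : Group.IsSolvable C := solvable_sub_of_comm hCab
  have hmd : ∀ {x e : G}, x ∈ C → e ∈ D → Commute x e := fun {x e} hx he =>
    (mem_centralizer_iff.1 hx e he).symm
  have hfix : ∀ {t d : G}, t ∉ C → t * t ∈ C → d ∈ D → Commute d t → d ∈ center G :=
    fun {t d} h1 h2 h3 h4 => mem_center_of_fixed FT hm hns D hDc hnc h1 h2 h3 h4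
  have hinv : ∀ {t d : G}, t ∉ C → t * t ∈ C → d ∈ D → t * d * t⁻¹ * d ∈ center G :=
    fun {t d} h1 h2 h3 => mul_conj_mem_center FT hm hns D hDc hnc h1 h2 h3
  -- there is `d` with `d² ∈ Z(G)`, `d ∉ Z(G)`
  obtain ⟨d, hd, hdc, hdd⟩ : ∃ d ∈ D, d ∉ center G ∧ d * d ∈ center G := by
    obtain ⟨d, hd, hdc⟩ := SetLike.not_le_iff_exists.1 hnc
    obtain ⟨n, hn⟩ := hD2 ⟨d, hd⟩
    have hn' : d ^ 2 ^ n = 1 := congrArg Subtype.val hn
    have hex : ∃ m : ℕ, d ^ 2 ^ m ∈ center G := ⟨n, by rw [hn']; exact one_mem _⟩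
    classical
    set m := Nat.find hex with hmdef
    have hm1 : d ^ 2 ^ m ∈ center G := Nat.find_spec hex
    have hm0 : m ≠ 0 := by
      intro h
      rw [h, pow_zero, pow_one] at hm1
      exact hdc hm1
    refine ⟨d ^ 2 ^ (m - 1), pow_mem hd _, Nat.find_min hex (by omega), ?_⟩
    rw [← pow_add, ← two_mul, ← pow_succ', show m - 1 + 1 = m by omega]
    exact hm1
  have hzc : ∀ {z : G}, z ∈ center G → ∀ g, g * z = z * g := fun {z} hz g => mem_center_iff.1 hz g
  -- step 1: no element of order 4 modulo `C`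
  have hone : ∀ s : G, (s * s) * (s * s) ∈ C → s * s ∈ C := by
    intro s hs4
    by_contra hs2
    -- find `e ∈ D`, `e² ∈ Z`, `s e s⁻¹ = e z`
    obtain ⟨e, he, hec, hee, hse⟩ : ∃ e ∈ D, e ∉ center G ∧ e * e ∈ center G ∧
        s * e * s⁻¹ * e⁻¹ ∈ center G := by
      by_cases h1 : s * d * s⁻¹ * d⁻¹ ∈ center G
      · exact ⟨d, hd, hdc, hdd, h1⟩
      · have hsd : s * d * s⁻¹ ∈ D := hDn.conj_mem d hd s
        have hcm : Commute (s * d * s⁻¹) d := hDc _ hsd d hd
        refine ⟨s * d * s⁻¹ * d⁻¹, mul_mem hsd (inv_mem hd), h1, ?_, ?_⟩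
        · have : s * d * s⁻¹ * d⁻¹ * (s * d * s⁻¹ * d⁻¹) = (s * (d * d) * s⁻¹) * (d * d)⁻¹ := by
            have h2 : d⁻¹ * (s * d * s⁻¹) = s * d * s⁻¹ * d⁻¹ := (hcm.inv_right.eq).symm
            calc s * d * s⁻¹ * d⁻¹ * (s * d * s⁻¹ * d⁻¹) =
                s * d * s⁻¹ * (d⁻¹ * (s * d * s⁻¹)) * d⁻¹ := by group
              _ = (s * (d * d) * s⁻¹) * (d * d)⁻¹ := by rw [h2]; group
          rw [this, hzc hdd s, mul_inv_cancel_right, mul_inv_cancel]
          exact one_mem _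
        · -- `s (s d s⁻¹ d⁻¹) s⁻¹ (s d s⁻¹ d⁻¹)⁻¹ = (s² d s⁻² d) (s d² s⁻¹)⁻¹`
          have h2 := hinv hs2 hs4 hd
          have h3 : s * (d * d) * s⁻¹ = d * d := by rw [hzc hdd s]; group
          have hc1 : s * s * d * (s * s)⁻¹ ∈ D := hDn.conj_mem d hd _
          have h4 : s * (s * d * s⁻¹ * d⁻¹) * s⁻¹ * (s * d * s⁻¹ * d⁻¹)⁻¹ =
              (s * s * d * (s * s)⁻¹ * d) * (s * (d * d) * s⁻¹)⁻¹ := by
            have h5 : Commute d ((s * d⁻¹ * s⁻¹) * (s * d⁻¹ * s⁻¹)) :=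
              (hDc d hd _ (hDn.conj_mem _ (inv_mem hd) s)).mul_right
                (hDc d hd _ (hDn.conj_mem _ (inv_mem hd) s))
            calc s * (s * d * s⁻¹ * d⁻¹) * s⁻¹ * (s * d * s⁻¹ * d⁻¹)⁻¹ =
                s * s * d * (s * s)⁻¹ * (s * d⁻¹ * s⁻¹) * (d * (s * d⁻¹ * s⁻¹)) := by group
              _ = s * s * d * (s * s)⁻¹ * (s * d⁻¹ * s⁻¹) * ((s * d⁻¹ * s⁻¹) * d) := by
                rw [(hDc d hd _ (hDn.conj_mem _ (inv_mem hd) s)).eq]
              _ = s * s * d * (s * s)⁻¹ * (((s * d⁻¹ * s⁻¹) * (s * d⁻¹ * s⁻¹)) * d) := by group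
              _ = s * s * d * (s * s)⁻¹ * (d * ((s * d⁻¹ * s⁻¹) * (s * d⁻¹ * s⁻¹))) := by
                rw [h5.eq]
              _ = (s * s * d * (s * s)⁻¹ * d) * (s * (d * d) * s⁻¹)⁻¹ := by group
          rw [h4, h3]
          exact mul_mem h2 (inv_mem hdd)
    set z := s * e * s⁻¹ * e⁻¹ with hz
    have hse' : s * e * s⁻¹ = z * e := by rw [hz]; group
    have hzz : z * z = 1 := by
      have h1 : s * (e * e) * s⁻¹ = e * e := by rw [hzc hee s]; group
      have h2 : s * (e * e) * s⁻¹ = (z * z) * (e * e) := by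
        calc s * (e * e) * s⁻¹ = (s * e * s⁻¹) * (s * e * s⁻¹) := by group
          _ = z * (e * z) * e := by rw [hse']; group
          _ = (z * z) * (e * e) := by rw [hzc hse e]; group
      have h3 : (z * z) * (e * e) = 1 * (e * e) := by rw [← h2, h1, one_mul]
      exact mul_right_cancel h3
    apply hec
    refine hfix hs2 hs4 he ?_
    have h1 : s * s * e * (s * s)⁻¹ = e := by
      calc s * s * e * (s * s)⁻¹ = s * (s * e * s⁻¹) * s⁻¹ := by group
        _ = (s * z) * e * s⁻¹ := by rw [hse']; group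
        _ = z * (s * e * s⁻¹) := by rw [hzc hse s]; group
        _ = (z * z) * e := by rw [hse']; group
        _ = e := by rw [hzz, one_mul]
    have h2 : s * s * e = e * (s * s) := by
      calc s * s * e = (s * s * e * (s * s)⁻¹) * (s * s) := by group
        _ = e * (s * s) := by rw [h1]
    exact h2.symm
  -- step 2: squares of 2-elements lie in `C`
  obtain ⟨S⟩ : Nonempty (Sylow 2 G) := Sylow.nonempty
  have hsq : ∀ s ∈ (S : Subgroup G), s * s ∈ C := by
    intro s hs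
    have hk : ∀ k : ℕ, s ^ 2 ^ (k + 1) ∈ C → s * s ∈ C := by
      intro k
      induction k with
      | zero => intro h; rwa [zero_add, pow_one, pow_two] at h
      | succ k ih =>
        intro h
        apply ih
        have h1 : s ^ 2 ^ (k + 1) = s ^ 2 ^ k * s ^ 2 ^ k := by
          rw [← pow_add, ← two_mul, ← pow_succ']
        rw [h1]
        apply hone
        rw [← h1, ← pow_add, ← two_mul, ← pow_succ']
        exact h
    obtain ⟨n, hn⟩ := S.isPGroup' ⟨s, hs⟩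
    have hn' : s ^ 2 ^ n = 1 := congrArg Subtype.val hn
    refine hk n ?_
    rw [pow_succ, pow_mul, hn', one_pow]
    exact one_mem _
  apply hns
  by_cases h3 : ∃ s ∈ (S : Subgroup G), ∃ t ∈ (S : Subgroup G), s ∉ C ∧ t ∉ C ∧ s * t ∉ C
  · -- `D/D₀` is elementary abelian
    obtain ⟨s, hs, t, ht, hsC, htC, hstC⟩ := h3
    have hexp : ∀ d ∈ D, d * d ∈ center G := by
      intro d hd
      have h1 : t * d * t⁻¹ * d ∈ center G := hinv htC (hsq t ht) hd
      have htd : t * d * t⁻¹ ∈ D := hDn.conj_mem d hd t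
      have h2 : s * (t * d * t⁻¹) * s⁻¹ * (t * d * t⁻¹) ∈ center G := hinv hsC (hsq s hs) htd
      have h4 : (s * t) * d * (s * t)⁻¹ * d ∈ center G := hinv hstC (hsq _ (mul_mem hs ht)) hd
      exact sq_mem_center_of_inv h1 h2 h4
    -- the normal subgroup `K`
    let K : Subgroup G :=
      { carrier := {g | ∀ d ∈ D, g * d * g⁻¹ * d⁻¹ ∈ center G}
        one_mem' := by
          intro d _
          rw [one_mul, inv_one, mul_one, mul_inv_cancel]
          exact one_mem _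
        mul_mem' := by
          intro a b ha hb d hd
          have h1 := hb d hd
          have h2 := ha _ (hDn.conj_mem d hd b)
          have h4 : a * b * d * (a * b)⁻¹ * d⁻¹ =
            (a * (b * d * b⁻¹) * a⁻¹ * (b * d * b⁻¹)⁻¹) * (b * d * b⁻¹ * d⁻¹) := by group
          rw [h4]
          exact mul_mem h2 h1
        inv_mem' := by
          intro a ha d hd
          have h1 := ha _ (hDn.conj_mem d hd a⁻¹)
          have h4 : a⁻¹ * d * a⁻¹⁻¹ * d⁻¹ = (a * (a⁻¹ * d * a⁻¹⁻¹) * a⁻¹ * (a⁻¹ * d * a⁻¹⁻¹)⁻¹)⁻¹ := by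
            group
          rw [h4]
          exact inv_mem h1 }
    have hKn : K.Normal := by
      refine ⟨fun a ha g d hd => ?_⟩
      have h1 := ha _ (hDn.conj_mem d hd g⁻¹)
      have h4 : g * a * g⁻¹ * d * (g * a * g⁻¹)⁻¹ * d⁻¹ =
          g * (a * (g⁻¹ * d * g⁻¹⁻¹) * a⁻¹ * (g⁻¹ * d * g⁻¹⁻¹)⁻¹) * g⁻¹ := by group
      rw [h4]
      exact (inferInstance : (center G).Normal).conj_mem _ h1 g
    have hSK : (S : Subgroup G) ≤ K := by
      intro x hx d hd
      by_cases hxC : x ∈ C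
      · rw [(hmd hxC hd).eq, mul_inv_cancel_right, mul_inv_cancel]
        exact one_mem _
      · have h1 := hinv hxC (hsq x hx) hd
        have h2 : x * d * x⁻¹ * d⁻¹ = (x * d * x⁻¹ * d) * (d * d)⁻¹ := by group
        rw [h2]
        exact mul_mem h1 (inv_mem (hexp d hd))
    have hKs : Group.IsSolvable K := by
      have hcomm : ∀ g ∈ K, ∀ h ∈ K, g * h * g⁻¹ * h⁻¹ ∈ C := by
        intro g hg h hh
        -- `g h` and `h g` act in the same way
        have key : ∀ g ∈ K, ∀ h ∈ K, ∀ d ∈ D, g * h * d * (g * h)⁻¹ =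
            (h * d * h⁻¹ * d⁻¹) * (g * d * g⁻¹ * d⁻¹) * d := by
          intro g hg h hh d hd
          have h1 := hzc (hh d hd) g
          calc g * h * d * (g * h)⁻¹ = (g * (h * d * h⁻¹ * d⁻¹)) * d * g⁻¹ := by group
            _ = _ := by rw [h1]; group
        rw [mem_centralizer_iff]
        intro d hd
        have hd' : g⁻¹ * (h⁻¹ * d * h) * g ∈ D := by
          have := hDn.conj_mem _ (hDn.conj_mem d hd h⁻¹) g⁻¹
          rwa [inv_inv, inv_inv] at this
        have h1 := key g hg h hh _ hd'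
        have h2 := key h hh g hg _ hd'
        have h3 : g * h * (g⁻¹ * (h⁻¹ * d * h) * g) * (g * h)⁻¹ =
            h * g * (g⁻¹ * (h⁻¹ * d * h) * g) * (h * g)⁻¹ := by
          rw [h1, h2]
          congr 1
          exact (hzc (hg _ hd') _)
        have h4 : h * g * (g⁻¹ * (h⁻¹ * d * h) * g) * (h * g)⁻¹ = d := by group
        rw [h4] at h3
        calc d * (g * h * g⁻¹ * h⁻¹) =
            (g * h * (g⁻¹ * (h⁻¹ * d * h) * g) * (g * h)⁻¹) * (g * h * g⁻¹ * h⁻¹) := by rw [h3]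
          _ = g * h * g⁻¹ * h⁻¹ * d := by group
      apply solvable_of_quot (C.subgroupOf K)
      · exact solvable_of_comm fun a b => by
          apply Subtype.ext
          apply Subtype.ext
          exact hCab _ (mem_subgroupOf.1 a.2) _ (mem_subgroupOf.1 b.2)
      · apply solvable_of_comm
        intro a b
        obtain ⟨x, rfl⟩ := QuotientGroup.mk'_surjective _ a
        obtain ⟨y, rfl⟩ := QuotientGroup.mk'_surjective _ b
        change QuotientGroup.mk' _ x * QuotientGroup.mk' _ y = QuotientGroup.mk' _ y * QuotientGroup.mk' _ x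
        rw [← map_mul, ← map_mul, eq_comm, QuotientGroup.mk'_apply, QuotientGroup.mk'_apply,
          QuotientGroup.eq, mem_subgroupOf]
        have h1 := hcomm _ (inv_mem x.2) _ (inv_mem y.2)
        have h2 : (((y * x)⁻¹ * (x * y) : K) : G) = (x : G)⁻¹ * (y : G)⁻¹ * (x : G)⁻¹⁻¹ * (y : G)⁻¹⁻¹ := by
          push_cast
          group
        rw [h2]
        exact h1
    exact solvable_of_sylow_le FT K hKs S hSK
  · push Not at h3
    apply solvable_of_cyclic_map FT C hCs S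
    by_cases hSC : ∀ s ∈ (S : Subgroup G), s ∈ C
    · have h1 : (S : Subgroup G).map (QuotientGroup.mk' C) = ⊥ := by
        rw [Subgroup.map_eq_bot_iff, QuotientGroup.ker_mk']
        exact hSC
      rw [h1]
      infer_instance
    push Not at hSC
    obtain ⟨t, ht, htC⟩ := hSC
    refine ⟨⟨⟨QuotientGroup.mk' C t, ⟨t, ht, rfl⟩⟩, ?_⟩⟩
    rintro ⟨_, s, hs, rfl⟩
    by_cases hsC : s ∈ C
    · have h1 : (⟨QuotientGroup.mk' C s, ⟨s, hs, rfl⟩⟩ : (S : Subgroup G).map (QuotientGroup.mk' C)) = 1 :=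
        Subtype.ext ((QuotientGroup.eq_one_iff s).2 hsC)
      rw [h1]
      exact ⟨0, zpow_zero _⟩
    · have h1 := h3 s hs t ht hsC htC
      have h2 : QuotientGroup.mk' C s * QuotientGroup.mk' C t = 1 := by
        rw [← map_mul]
        exact (QuotientGroup.eq_one_iff _).2 h1
      have h4 : QuotientGroup.mk' C s = (QuotientGroup.mk' C t)⁻¹ := eq_inv_of_mul_eq_one_left h2
      have h5 : (⟨QuotientGroup.mk' C s, ⟨s, hs, rfl⟩⟩ : (S : Subgroup G).map (QuotientGroup.mk' C)) =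
          (⟨QuotientGroup.mk' C t, ⟨t, ht, rfl⟩⟩)⁻¹ := Subtype.ext h4
      rw [h5]
      exact ⟨-1, zpow_neg_one _⟩

/-- **A5.** Abelian normal subgroups of odd order are central. -/
theorem odd_le_center [Finite G] (FT : FTh.{u}) (hm : MinCA G) (hns : ¬ Group.IsSolvable G)
    (D : Subgroup G) [hDn : D.Normal] (hDc : ∀ a ∈ D, ∀ b ∈ D, Commute a b)
    (hDo : ∀ a ∈ D, Odd (orderOf a)) : D ≤ center G := by
  by_contra hnc
  set C := centralizer (D : Set G) with hCdef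
  have hCn : C.Normal := by rw [hCdef]; infer_instance
  have hCab : ∀ a ∈ C, ∀ b ∈ C, Commute a b := centralizer_comm_of_abelian FT hm hns D hDc hnc
  have hCs : Group.IsSolvable C := solvable_sub_of_comm hCab
  have hinv : ∀ {t d : G}, t ∉ C → t * t ∈ C → d ∈ D → t * d * t⁻¹ * d ∈ center G :=
    fun {t d} h1 h2 h3 => mul_conj_mem_center FT hm hns D hDc hnc h1 h2 h3
  have hzc : ∀ {z : G}, z ∈ center G → ∀ g, g * z = z * g := fun {z} hz g => mem_center_iff.1 hz g
  obtain ⟨S⟩ : Nonempty (Sylow 2 G) := Sylow.nonempty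
  -- `O₂(C)` is central
  have hSC : ∀ s ∈ (S : Subgroup G), s ∈ C → s ∈ center G := by
    let E : Subgroup G :=
      { carrier := {x | x ∈ C ∧ ∃ k : ℕ, x ^ 2 ^ k = 1}
        one_mem' := ⟨one_mem _, 0, one_pow _⟩
        mul_mem' := by
          rintro a b ⟨ha, i, hi⟩ ⟨hb, j, hj⟩
          refine ⟨mul_mem ha hb, i + j, ?_⟩
          rw [(hCab a ha b hb).mul_pow, pow_add, pow_mul, hi, one_pow, mul_comm (2 ^ i), pow_mul, hj,
            one_pow, one_mul]
        inv_mem' := by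
          rintro a ⟨ha, i, hi⟩
          exact ⟨inv_mem ha, i, by rw [inv_pow, hi, inv_one]⟩ }
    have hEn : E.Normal := by
      refine ⟨fun a ha g => ⟨hCn.conj_mem a ha.1 g, ?_⟩⟩
      obtain ⟨k, hk⟩ := ha.2
      exact ⟨k, by rw [conj_pow, hk]; group⟩
    have hE2 : IsPGroup 2 E := by
      rintro ⟨a, ha, k, hk⟩
      exact ⟨k, Subtype.ext hk⟩
    have hEc := two_le_center FT hm hns E (fun a ha b hb => hCab a ha.1 b hb.1) hE2
    intro s hs hsC
    apply hEc
    obtain ⟨n, hn⟩ := S.isPGroup' ⟨s, hs⟩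
    exact ⟨hsC, n, congrArg Subtype.val hn⟩
  refine false_of_rank_one FT hm hns D C (solvable_sub_of_comm hDc) hCs S hSC ?_ ?_
  · intro s _ hsC
    rw [hCdef, mem_centralizer_iff] at hsC
    push Not at hsC
    exact hsC
  · intro s hs t ht hs2 ht2 hst2
    by_contra hcon
    push Not at hcon
    obtain ⟨hsC, htC, hstC⟩ := hcon
    apply hnc
    intro d hd
    have hexp : d * d ∈ center G := by
      have h1 : t * d * t⁻¹ * d ∈ center G := hinv htC ht2 hd
      have htd : t * d * t⁻¹ ∈ D := hDn.conj_mem d hd t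
      have h2 : s * (t * d * t⁻¹) * s⁻¹ * (t * d * t⁻¹) ∈ center G := hinv hsC hs2 htd
      have h4 : (s * t) * d * (s * t)⁻¹ * d ∈ center G := hinv hstC hst2 hd
      exact sq_mem_center_of_inv h1 h2 h4
    -- `d` is a power of `d²`
    obtain ⟨k, hk⟩ := hDo d hd
    have h1 : d * (d * d) ^ k = 1 := by
      rw [← pow_two, ← pow_mul, ← pow_succ', ← hk, pow_orderOf_eq_one]
    have h2 : d = ((d * d) ^ k)⁻¹ := eq_inv_of_mul_eq_one_left h1
    rw [h2]
    exact inv_mem (pow_mem hexp k)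

/-- **Abelian normal subgroups are central.** -/
theorem abelian_le_center [Finite G] (FT : FTh.{u}) (hm : MinCA G) (hns : ¬ Group.IsSolvable G)
    (D : Subgroup G) [hDn : D.Normal] (hDc : ∀ a ∈ D, ∀ b ∈ D, Commute a b) : D ≤ center G := by
  -- the 2-part
  let E : Subgroup G :=
    { carrier := {x | x ∈ D ∧ ∃ k : ℕ, x ^ 2 ^ k = 1}
      one_mem' := ⟨one_mem _, 0, one_pow _⟩
      mul_mem' := by
        rintro a b ⟨ha, i, hi⟩ ⟨hb, j, hj⟩
        refine ⟨mul_mem ha hb, i + j, ?_⟩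
        rw [(hDc a ha b hb).mul_pow, pow_add, pow_mul, hi, one_pow, mul_comm (2 ^ i), pow_mul, hj,
          one_pow, one_mul]
      inv_mem' := by
        rintro a ⟨ha, i, hi⟩
        exact ⟨inv_mem ha, i, by rw [inv_pow, hi, inv_one]⟩ }
  have hEn : E.Normal := by
    refine ⟨fun a ha g => ⟨hDn.conj_mem a ha.1 g, ?_⟩⟩
    obtain ⟨k, hk⟩ := ha.2
    exact ⟨k, by rw [conj_pow, hk]; group⟩
  have hE2 : IsPGroup 2 E := by
    rintro ⟨a, ha, k, hk⟩
    exact ⟨k, Subtype.ext hk⟩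
  have hEc := two_le_center FT hm hns E (fun a ha b hb => hDc a ha.1 b hb.1) hE2
  -- the odd part
  let O : Subgroup G :=
    { carrier := {x | x ∈ D ∧ ∃ k : ℕ, x ^ (2 * k + 1) = 1}
      one_mem' := ⟨one_mem _, 0, one_pow _⟩
      mul_mem' := by
        rintro a b ⟨ha, i, hi⟩ ⟨hb, j, hj⟩
        refine ⟨mul_mem ha hb, 2 * i * j + i + j, ?_⟩
        have h1 : 2 * (2 * i * j + i + j) + 1 = (2 * i + 1) * (2 * j + 1) := by ring
        rw [h1, (hDc a ha b hb).mul_pow, pow_mul, hi, one_pow, mul_comm (2 * i + 1), pow_mul, hj,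
          one_pow, one_mul]
      inv_mem' := by
        rintro a ⟨ha, i, hi⟩
        exact ⟨inv_mem ha, i, by rw [inv_pow, hi, inv_one]⟩ }
  have hOn : O.Normal := by
    refine ⟨fun a ha g => ⟨hDn.conj_mem a ha.1 g, ?_⟩⟩
    obtain ⟨k, hk⟩ := ha.2
    exact ⟨k, by rw [conj_pow, hk]; group⟩
  have hOc := odd_le_center FT hm hns O (fun a ha b hb => hDc a ha.1 b hb.1) (by
    rintro a ⟨ha, k, hk⟩
    exact (Nat.odd_iff.2 (by omega) : Odd (2 * k + 1)).of_dvd_nat (orderOf_dvd_of_pow_eq_one hk))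
  intro d hd
  -- `d` is the product of a 2-element and an element of odd order
  obtain ⟨n, m, hmo, hnm⟩ := Nat.exists_eq_two_pow_mul_odd (orderOf_pos d).ne'
  have hcop : Nat.Coprime (2 ^ n) m := (Nat.coprime_two_left.2 hmo).pow_left n
  have h1 : d ^ m ∈ E := by
    refine ⟨pow_mem hd m, n, ?_⟩
    rw [← pow_mul, mul_comm, ← hnm, pow_orderOf_eq_one]
  have h2 : d ^ (2 ^ n) ∈ O := by
    obtain ⟨k, hk⟩ := hmo
    refine ⟨pow_mem hd _, k, ?_⟩
    rw [← hk, ← pow_mul, ← hnm, pow_orderOf_eq_one]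
  have h3 := Int.gcd_eq_gcd_ab (2 ^ n : ℕ) (m : ℕ)
  have h4 : (1 : ℤ) = (2 ^ n : ℕ) * Int.gcdA (2 ^ n : ℕ) m + m * Int.gcdB (2 ^ n : ℕ) m := by
    rw [← h3]
    have : Int.gcd (2 ^ n : ℕ) (m : ℕ) = 1 := by
      rw [Int.gcd_natCast_natCast]; exact hcop
    rw [this]; rfl
  have h5 : d = (d ^ (2 ^ n)) ^ (Int.gcdA (2 ^ n : ℕ) m) * (d ^ m) ^ (Int.gcdB (2 ^ n : ℕ) m) := by
    conv_lhs => rw [← zpow_one d, h4, zpow_add, zpow_mul, zpow_mul, zpow_natCast, zpow_natCast]
  rw [h5]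
  exact mul_mem (zpow_mem (hOc h2) _) (zpow_mem (hEc h1) _)

end Cfsg.Agent.H577
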