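import Cfsg.Agent.H577.PslAutOdd

/-!
# `Few` groups between `PSL(2, q)`, `q` odd, and its automorphism group: the cases
-/

set_option autoImplicit false
set_option linter.unusedSectionVars false

namespace Cfsg.Agent.H577

open Matrix Subgroup
open Cfsg.Agent.ClassicalGeometry.AutPSL.Root (pr pr_surjective)
open Cfsg.Agent.ClassicalGeometry.AutPSL.Auto (cj fld lift itr coe_cj coe_fld_apply lift_pr)
open Cfsg.Agent.ClassicalGeometry.AutPSL.Main (cj_eq_one_of_scalar injective_aux surj_two surj_three)
open Psl2

variable {F : Type*} [Field F] [Fintype F]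

/-- an automorphism of order four, of determinant 2 -/
theorem orderOf_cj_four (h2 : (2 : F) ≠ 0) (h : (1 : F) * 1 - 1 * (-1) ≠ 0) :
    orderOf (lift (cj (g2 (1 : F) 1 (-1) 1 h))) = 4 := by
  have hf := Fact.mk Nat.prime_two
  have hsq : cj (g2 (1 : F) 1 (-1) 1 h) ^ 2 = cj (g2 (0 : F) 2 (-2) 0 (by
      intro h0
      have : (2 : F) * 2 = 0 := by linear_combination h0
      rcases mul_eq_zero.1 this with h1 | h1 <;> exact h2 h1)) := by
    rw [pow_two, ← map_mul, g2_mul]
    congr 1
    apply Units.ext
    rw [g2_coe, g2_coe]
    ext i j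
    fin_cases i <;> fin_cases j <;> norm_num
  show _ = 2 ^ (1 + 1)
  apply orderOf_eq_prime_pow
  · rw [pow_one, ← map_pow, hsq]
    apply cj_ne_one
    rintro ⟨r, hr⟩
    rw [g2_coe] at hr
    have e1 := congrFun (congrFun hr 0) 1
    simp at e1
    exact h2 e1.symm
  · rw [pow_succ, pow_one, pow_mul, ← map_pow, hsq, ← map_pow, pow_two, ← map_mul, g2_mul,
      cj_eq_one_of_scalar (r := (-4 : F)), map_one]
    rw [g2_coe]
    ext i j
    fin_cases i <;> fin_cases j <;> norm_num

/-- **`q ≡ 3, 5 mod 8`, `q > 5`.** -/
theorem aut_odd (h8 : Fintype.card F % 8 = 3 ∨ Fintype.card F % 8 = 5) (h5 : 5 < Fintype.card F)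
    (Y : Subgroup (MulAut (P2 F))) (hY : ∀ x : P2 F, MulAut.conj x ∈ Y) (hF : Few Y) :
    ∀ α ∈ Y, ∃ x : P2 F, α = MulAut.conj x := by
  classical
  intro α hα
  have hodd : Odd (Fintype.card F) := by
    rw [Nat.odd_iff]; omega
  have h2 := two_ne_zero_of_odd hodd
  obtain ⟨p, hchar, n, hp, hn⟩ := FiniteField.card' (K := F)
  have hpf := Fact.mk hp
  have hs := TwoFusion.SLTwoFacts.isSimpleGroup_psl (F := F) (by omega)
  have hi := conj_injective (exists_noncomm (F := F) (by omega))
  obtain ⟨A, σ, rfl⟩ := surj_two p α
  have hσodd : ∀ τ : F ≃+* F, Odd (orderOf τ) := by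
    intro τ
    rw [← Nat.not_even_iff_odd]
    rintro ⟨m, hm⟩
    have h1 := StdL2.FGal.card_fixed τ
    rw [hm, Nat.card_eq_fintype_card] at h1
    set k := Nat.card {x : F // τ x = x}
    have h3 : Fintype.card F = (k ^ m) * (k ^ m) := by rw [h1, pow_add]
    generalize k ^ m = l at h3
    have h4 : l * l % 8 = (l % 8) * (l % 8) % 8 := Nat.mul_mod l l 8
    rw [← h3] at h4
    have h6 : l % 8 < 8 := Nat.mod_lt _ (by norm_num)
    interval_cases l % 8 <;> omega
  -- an element of order `2 r`
  obtain ⟨r, hr, hr2, hrd, hor⟩ := exists_two_mul h8 h5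
  have hor' := ord_of_pr hY hi hor
  have ho2 := ord_of_pr hY hi ⟨_, orderOf_mw⟩
  have hrp := hr.one_lt
  by_cases hA : IsSquare (A : Matrix (Fin 2) (Fin 2) F).det
  · obtain ⟨s, hs⟩ := hA
    rw [← pow_two] at hs
    have hσ := fld_mem_of_isSquare hY hα hs
    by_cases h1 : σ = 1
    · subst h1
      rw [map_one, mul_one]
      exact conj_of_det_sq hs
    · exfalso
      obtain ⟨r', τ, hr', hτ, hτY, hcard⟩ := exists_prime_fld hσ h1
      have hr'2 : r' ≠ 2 := by
        rintro rfl
        have := hσodd τ
        rw [hτ] at this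
        exact absurd this (by decide)
      by_cases hr'3 : r' = 3
      · subst hr'3
        have h6 := ord_of_fixed hY hi hτY (fld_mw τ) orderOf_mw hτ (by norm_num)
        by_cases hp3 : p = 3
        · subst hp3
          -- `r ≠ 3`
          have hr3 : r ≠ 3 := by
            rintro rfl
            have h7 : 3 ∣ Fintype.card F := by
              rw [hn]
              exact dvd_pow_self 3 n.pos.ne'
            omega
          exact hF.false Nat.prime_two ho2 h6 hor' (by norm_num) (by omega) (by omega) (by norm_num) (by norm_num)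
            (dvd_mul_right _ _)
        · have h3 := ord_of_pr hY hi ⟨_, orderOf_m3⟩
          have hup : orderOf (pr (uu (Multiplicative.ofAdd (1 : F)))) = p := by
            apply orderOf_eq_prime
            · rw [← map_pow, ← map_pow, ← ofAdd_nsmul, nsmul_eq_mul, CharP.cast_eq_zero, zero_mul, ofAdd_zero,
                map_one, map_one]
            · rw [Ne, pr_uu_eq_one]
              exact one_ne_zero (α := F)
          have hfix : fld τ (uu (Multiplicative.ofAdd (1 : F))) = uu (Multiplicative.ofAdd (1 : F)) := by
            rw [uu_apply, fld_m2]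
            apply m2_ext <;> simp
          have h9 := ord_of_fixed hY hi hτY hfix hup hτ ((Nat.coprime_primes hp Nat.prime_three).2 hp3)
          have hp2 : p ≠ 2 := by
            rintro rfl
            apply h2
            have := CharP.cast_eq_zero F 2
            exact_mod_cast this
          have := hp.one_lt
          exact hF.false Nat.prime_three h3 h6 h9 (by norm_num) (by omega) (by omega) (by norm_num)
            (by norm_num) (Dvd.intro_left _ rfl)
      · exact false_of_fld hY hi hF hτY hr' hr'2 hr'3 hτ
  · exfalso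
    have hd : (1 : F) * 1 - 1 * (-1) ≠ 0 := by
      intro h0
      apply h2
      linear_combination h0
    have h4 : lift (cj (g2 (1 : F) 1 (-1) 1 hd)) ∈ Y := by
      refine mem_of_nonsquare hodd hY hα hA (hσodd σ) _ ?_
      rw [g2_coe, det_fin_two_of]
      have : (1 : F) * 1 - 1 * (-1) = 2 := by ring
      rw [this, FiniteField.isSquare_two_iff]
      omega
    have h4' : Ord Y 4 := ⟨⟨_, h4⟩, by
      rw [← Subgroup.orderOf_coe]
      exact orderOf_cj_four h2 hd⟩
    exact hF.false Nat.prime_two ho2 h4' hor' (by norm_num) (by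
      intro h
      apply hr2
      omega) (by omega) (by norm_num) (by norm_num) (dvd_mul_right _ _)

theorem not_isSquare_generator (hodd : Odd (Fintype.card F)) {g : Fˣ} (hg : orderOf g = Fintype.card F - 1) :
    ¬ IsSquare (g : F) := by
  classical
  rintro ⟨s, hs⟩
  have hs0 : s ≠ 0 := by
    rintro rfl
    rw [mul_zero] at hs
    exact g.ne_zero hs
  have h1 : g = (Units.mk0 s hs0) ^ 2 := by
    apply Units.ext
    rw [hs, pow_two]; rfl
  have h2 : g ^ ((Fintype.card F - 1) / 2) = 1 := by
    rw [h1, ← pow_mul]
    have h3 : 2 * ((Fintype.card F - 1) / 2) = Fintype.card F - 1 := by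
      obtain ⟨m, hm⟩ := hodd
      omega
    rw [h3, ← Fintype.card_units, pow_card_eq_one]
  have h3 := orderOf_dvd_of_pow_eq_one h2
  rw [hg] at h3
  have h4 : 1 < Fintype.card F := Fintype.one_lt_card
  obtain ⟨m, hm⟩ := hodd
  have := Nat.le_of_dvd (by omega) h3
  omega

/-- **`q = 7`.** -/
theorem aut_seven (h7 : Fintype.card F = 7) (Y : Subgroup (MulAut (P2 F))) (hY : ∀ x : P2 F, MulAut.conj x ∈ Y)
    (hF : Few Y) : ∀ α ∈ Y, ∃ x : P2 F, α = MulAut.conj x := by
  classical
  intro α hα
  have hodd : Odd (Fintype.card F) := by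
    rw [Nat.odd_iff]; omega
  obtain ⟨p, hchar, n, hp, hn⟩ := FiniteField.card' (K := F)
  have hpf := Fact.mk hp
  have hs := TwoFusion.SLTwoFacts.isSimpleGroup_psl (F := F) (by omega)
  have hi := conj_injective (exists_noncomm (F := F) (by omega))
  obtain ⟨A, σ, rfl⟩ := surj_two p α
  have hσ : σ = 1 := by
    have h1 := StdL2.FGal.card_fixed σ
    rw [Nat.card_eq_fintype_card, h7] at h1
    set k := Nat.card {x : F // σ x = x}
    have h2 : orderOf σ = 1 := by
      have h3 : k ∣ 7 := by
        rw [h1]
        apply dvd_pow_self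
        intro h0
        rw [h0] at h1
        norm_num at h1
      rcases (Nat.dvd_prime (by norm_num : Nat.Prime 7)).1 h3 with h4 | h4
      · rw [h4, one_pow] at h1
        norm_num at h1
      · rw [h4] at h1
        have h5 : 7 ^ 1 = 7 ^ orderOf σ := by rw [pow_one]; exact h1
        exact (Nat.pow_right_injective (le_refl 7 |>.trans' (by norm_num)) h5).symm
    exact orderOf_eq_one_iff.1 h2
  subst hσ
  by_cases hA : IsSquare (A : Matrix (Fin 2) (Fin 2) F).det
  · obtain ⟨s, hs⟩ := hA
    rw [← pow_two] at hs
    rw [map_one, mul_one]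
    exact conj_of_det_sq hs
  · exfalso
    obtain ⟨g, hg⟩ := IsCyclic.exists_generator (α := Fˣ)
    have h1 : orderOf g = Fintype.card F - 1 := by
      rw [orderOf_eq_card_of_forall_mem_zpowers hg, Nat.card_eq_fintype_card, Fintype.card_units]
    have hd : (g : F) * ((1 : Fˣ) : F) - 0 * 0 ≠ 0 := by simp
    have h3 : lift (cj (g2 (g : F) 0 0 ((1 : Fˣ) : F) hd)) ∈ Y := by
      refine mem_of_nonsquare hodd hY hα hA (by rw [orderOf_one]; exact odd_one) _ ?_
      rw [g2_coe, det_fin_two_of]
      simp only [Units.val_one, mul_one, mul_zero, sub_zero]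
      exact not_isSquare_generator hodd h1
    have h6 : Ord Y 6 := ⟨⟨_, h3⟩, by
      rw [← Subgroup.orderOf_coe]
      show orderOf (lift (cj (g2 (g : F) 0 0 ((1 : Fˣ) : F) hd))) = 6
      rw [orderOf_cj_diag, inv_one, mul_one, h1, h7]⟩
    have h4 : Ord Y 4 := by
      have := ord_plus (F := F)
      rw [h7] at this
      exact ord_of_pr hY hi this
    exact hF.false Nat.prime_two (ord_of_pr hY hi ⟨_, orderOf_mw⟩) h4 h6 (by norm_num) (by norm_num)
      (by norm_num) (by norm_num) (by norm_num) (by norm_num)

/-- **`q = 9`.** -/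
theorem aut_nine (h9 : Fintype.card F = 9) (Y : Subgroup (MulAut (P2 F))) (hY : ∀ x : P2 F, MulAut.conj x ∈ Y)
    (hF : Few Y) : ∀ α ∈ Y, ∃ x : P2 F, α = MulAut.conj x := by
  classical
  intro α hα
  have hodd : Odd (Fintype.card F) := by
    rw [Nat.odd_iff]; omega
  obtain ⟨p, hchar, n, hp, hn⟩ := FiniteField.card' (K := F)
  have hpf := Fact.mk hp
  have hs := TwoFusion.SLTwoFacts.isSimpleGroup_psl (F := F) (by omega)
  have hi := conj_injective (exists_noncomm (F := F) (by omega))
  have ho2 := ord_of_pr hY hi ⟨_, orderOf_mw⟩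
  have h4 : Ord Y 4 := by
    have := ord_minus (F := F)
    rw [h9] at this
    exact ord_of_pr hY hi this
  obtain ⟨A, σ, rfl⟩ := surj_two p α
  obtain ⟨g, hg⟩ := IsCyclic.exists_generator (α := Fˣ)
  have h1 : orderOf g = 8 := by
    rw [orderOf_eq_card_of_forall_mem_zpowers hg, Nat.card_eq_fintype_card, Fintype.card_units, h9]
  have hgn : ¬ IsSquare (g : F) := not_isSquare_generator hodd (by rw [h1, h9])
  -- an automorphism of order two
  have hord : σ ≠ 1 → orderOf σ = 2 ∧ Nat.card {x : F // σ x = x} = 3 := by
    intro hσ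
    have h2 := StdL2.FGal.card_fixed σ
    have h3 : orderOf σ ≠ 1 := fun h => hσ (orderOf_eq_one_iff.1 h)
    have h5 : orderOf σ ≠ 0 := by
      intro h0
      rw [h0, Nat.card_eq_fintype_card, h9] at h2
      norm_num at h2
    rw [Nat.card_eq_fintype_card, h9] at h2
    have h6 := StdL2.FGal.one_lt_card_fixed σ
    set k := Nat.card {x : F // σ x = x}
    obtain ⟨m, hm⟩ : ∃ m, orderOf σ = m + 2 := ⟨orderOf σ - 2, by omega⟩
    rw [hm] at h2
    have hk3 : k ≤ 3 := by
      by_contra hcon
      push Not at hcon
      have : 4 ^ 2 ≤ k ^ (m + 2) := (Nat.pow_le_pow_left hcon 2).trans (Nat.pow_le_pow_right (by omega) (by omega))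
      omega
    have hm2 : m < 3 := by
      by_contra hcon
      push Not at hcon
      have : 2 ^ 5 ≤ k ^ (m + 2) := (Nat.pow_le_pow_left h6 5).trans (Nat.pow_le_pow_right (by omega) (by omega))
      omega
    interval_cases k <;> interval_cases m <;> simp_all
  by_cases hA : IsSquare (A : Matrix (Fin 2) (Fin 2) F).det
  · obtain ⟨s, hs⟩ := hA
    rw [← pow_two] at hs
    have hσ := fld_mem_of_isSquare hY hα hs
    by_cases h1 : σ = 1
    · subst h1
      rw [map_one, mul_one]
      exact conj_of_det_sq hs
    · exfalso
      have h6 := ord_of_fixed hY hi hσ (fld_m3 σ) orderOf_m3 (hord h1).1 (by norm_num)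
      exact hF.false Nat.prime_two ho2 h4 h6 (by norm_num) (by norm_num)
        (by norm_num) (by norm_num) (by norm_num) (by norm_num)
  · exfalso
    have h8 : Ord Y 8 := by
      by_cases hσ : σ = 1
      · subst hσ
        have hd : (g : F) * ((1 : Fˣ) : F) - 0 * 0 ≠ 0 := by simp
        have h3 : lift (cj (g2 (g : F) 0 0 ((1 : Fˣ) : F) hd)) ∈ Y := by
          refine mem_of_nonsquare hodd hY hα hA (by rw [orderOf_one]; exact odd_one) _ ?_
          rw [g2_coe, det_fin_two_of]
          simp only [Units.val_one, mul_one, mul_zero, sub_zero]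
          exact hgn
        refine ⟨⟨_, h3⟩, ?_⟩
        rw [← Subgroup.orderOf_coe]
        show orderOf (lift (cj (g2 (g : F) 0 0 ((1 : Fˣ) : F) hd))) = 8
        rw [orderOf_cj_diag, inv_one, mul_one, h1]
      · obtain ⟨ho, hk⟩ := hord hσ
        have hneg : IsSquare (-1 : F) := by
          rw [FiniteField.isSquare_neg_one_iff, h9]
          norm_num
        have hd : (0 : F) * 0 - 1 * (g : F) ≠ 0 := by simp
        have h3 : lift (cj (g2 (0 : F) 1 (g : F) 0 hd) * fld σ) ∈ Y := by
          refine mem_of_nonsquare' hodd hY hα hA _ ?_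
          rw [g2_coe, det_fin_two_of]
          have : (0 : F) * 0 - 1 * (g : F) = (-1) * (g : F) := by ring
          rw [this, isSquare_mul_iff hodd (by norm_num) g.ne_zero]
          simp [hneg, hgn]
        have hs2 : σ * σ = 1 := by
          have := pow_orderOf_eq_one σ
          rwa [ho, pow_two] at this
        have hss : ∀ x, σ (σ x) = x := fun x => congrArg (fun τ : F ≃+* F => τ x) hs2
        -- the square
        have hd' : ((Units.map (σ : F →* F) g : Fˣ) : F) * (g : F) - 0 * 0 ≠ 0 := by
          rw [mul_zero, sub_zero]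
          exact mul_ne_zero (Units.ne_zero _) (Units.ne_zero _)
        have hsq : (cj (g2 (0 : F) 1 (g : F) 0 hd) * fld σ) ^ 2 =
            cj (g2 ((Units.map (σ : F →* F) g : Fˣ) : F) 0 0 (g : F) hd') := by
          rw [pow_two, mul_assoc, ← mul_assoc (fld σ), fld_mul_cj, map_g2, mul_assoc (cj _) (fld σ), ← map_mul fld,
            hs2, map_one fld, mul_one, ← map_mul, g2_mul]
          congr 1
          apply Units.ext
          rw [g2_coe, g2_coe]
          simp
        -- order of `σ g / g`
        have h44 : orderOf ((Units.map (σ : F →* F) g : Fˣ) * g⁻¹) = 4 := by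
          have h2 := two_ne_zero_of_odd hodd
          set N : Fˣ := Units.map (σ : F →* F) g * g with hNdef
          have hNval : (N : F) = σ g * g := rfl
          have hNfix : σ (N : F) = N := by
            rw [hNval, map_mul, hss, mul_comm]
          have hN : N ^ 2 = 1 := by
            by_contra hne
            have hn1 : (N : F) ≠ 1 := by
              intro h
              apply hne
              have : N = 1 := Units.ext h
              rw [this, one_pow]
            have hn2 : (N : F) ≠ -1 := by
              intro h
              apply hne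
              apply Units.ext
              rw [Units.val_pow_eq_pow_val, h]
              norm_num
            have hn0 : (N : F) ≠ 0 := N.ne_zero
            have hsub : ({0, 1, -1, (N : F)} : Finset F) ⊆ Finset.univ.filter (fun x : F => σ x = x) := by
              intro x hx
              simp only [Finset.mem_insert, Finset.mem_singleton] at hx
              rw [Finset.mem_filter]
              refine ⟨Finset.mem_univ _, ?_⟩
              rcases hx with rfl | rfl | rfl | rfl
              · exact map_zero σ
              · exact map_one σ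
              · rw [map_neg, map_one]
              · exact hNfix
            have hc := Finset.card_le_card hsub
            rw [Nat.card_eq_fintype_card, Fintype.card_subtype] at hk
            rw [hk] at hc
            have hne1 : (1 : F) ≠ -1 := by
              intro h
              apply h2
              linear_combination h
            have h4c : ({0, 1, -1, (N : F)} : Finset F).card = 4 := by
              rw [Finset.card_insert_of_notMem, Finset.card_insert_of_notMem, Finset.card_insert_of_notMem,
                Finset.card_singleton]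
              · simpa using hn2.symm
              · simp only [Finset.mem_insert, Finset.mem_singleton, not_or]
                exact ⟨hne1, hn1.symm⟩
              · simp only [Finset.mem_insert, Finset.mem_singleton, not_or]
                exact ⟨zero_ne_one, by simp, hn0.symm⟩
            omega
          have hy : (Units.map (σ : F →* F) g : Fˣ) * g⁻¹ = N * (g ^ 2)⁻¹ := by
            rw [hNdef]
            group
          have hf := Fact.mk Nat.prime_two
          rw [hy]
          show _ = 2 ^ (1 + 1)
          apply orderOf_eq_prime_pow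
          · rw [pow_one, mul_pow, hN, one_mul, inv_pow, ← pow_mul, inv_eq_one]
            intro h
            have := orderOf_dvd_of_pow_eq_one h
            rw [h1] at this
            exact absurd this (by norm_num)
          · rw [show (2 : ℕ) ^ (1 + 1) = 2 * 2 from rfl, pow_mul, mul_pow, hN, one_mul, inv_pow, ← pow_mul,
              inv_pow, ← pow_mul, inv_eq_one]
            have := pow_orderOf_eq_one g
            rw [h1] at this
            exact this
        refine ⟨⟨_, h3⟩, ?_⟩
        rw [← Subgroup.orderOf_coe]
        show orderOf (lift (cj (g2 (0 : F) 1 (g : F) 0 hd) * fld σ)) = 8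
        have hf := Fact.mk Nat.prime_two
        have h5 : orderOf ((lift (cj (g2 (0 : F) 1 (g : F) 0 hd) * fld σ)) ^ 2) = 4 := by
          rw [← map_pow, hsq, orderOf_cj_diag, h44]
        show _ = 2 ^ (2 + 1)
        apply orderOf_eq_prime_pow
        · intro h
          have h6 : ((lift (cj (g2 (0 : F) 1 (g : F) 0 hd) * fld σ)) ^ 2) ^ 2 = 1 := by
            rw [← pow_mul]; exact h
          have := orderOf_dvd_of_pow_eq_one h6
          rw [h5] at this
          exact absurd this (by norm_num)
        · have h6 := pow_orderOf_eq_one ((lift (cj (g2 (0 : F) 1 (g : F) 0 hd) * fld σ)) ^ 2)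
          rw [h5, ← pow_mul] at h6
          exact h6
    exact hF.false Nat.prime_two ho2 h4 h8 (by norm_num) (by norm_num)
      (by norm_num) (by norm_num) (by norm_num) (by norm_num)

end Cfsg.Agent.H577
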