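import Cfsg.Agent.H577.CAElim
import Cfsg.Agent.H577.PslAutOddMain

/-!
# Minimal non-CA groups: the action on `PSL(2, F)` and field automorphisms
-/

set_option autoImplicit false

namespace Cfsg.Agent.H577

open Matrix Subgroup Cfsg
open Cfsg.Agent.ClassicalGeometry.AutPSL.Root (pr pr_surjective)
open Cfsg.Agent.ClassicalGeometry.AutPSL.Auto (cj fld lift itr coe_cj coe_fld_apply lift_pr)
open Cfsg.Agent.ClassicalGeometry.AutPSL.Main (cj_eq_one_of_scalar injective_aux surj_two surj_three)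
open Psl2
open scoped commutatorElement

universe u

/-- the action of `G` on `L / Z(L) = PSL(2, F)` -/
structure Act (G : Type*) [Group G] (L : Subgroup G) (F : Type*) [Field F] where
  normal : L.Normal
  perfect : commutator L = ⊤
  cent : centralizer (L : Set G) = center G
  p : L →* P2 F
  surj : Function.Surjective p
  ker : ∀ x, p x = 1 ↔ x ∈ center L
  Φ : G →* MulAut (P2 F)
  eq : ∀ (g : G) (l l' : L), (l' : G) = g * l * g⁻¹ → Φ g (p l) = p l'

variable {G : Type*} [Group G]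

/-- conjugation on the quotient `L / Z(L)` -/
def cq (L : Subgroup G) [L.Normal] : G →* MulAut (L ⧸ center L) where
  toFun g := QuotientGroup.congr (center L) (center L) (MulAut.conjNormal g : MulAut L)
    (characteristic_iff_map_eq.1 inferInstance _)
  map_one' := by
    apply MulEquiv.ext
    intro x
    obtain ⟨y, rfl⟩ := QuotientGroup.mk_surjective x
    change ((MulAut.conjNormal (1 : G) y : L) : L ⧸ center L) = (y : L ⧸ center L)
    rw [map_one]
    rfl
  map_mul' a b := by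
    apply MulEquiv.ext
    intro x
    obtain ⟨y, rfl⟩ := QuotientGroup.mk_surjective x
    change ((MulAut.conjNormal (a * b) y : L) : L ⧸ center L) =
      ((MulAut.conjNormal a (MulAut.conjNormal b y : L) : L) : L ⧸ center L)
    rw [map_mul]
    rfl

theorem fld_uu {F : Type*} [Field F] (τ : F ≃+* F) (a : F) :
    lift (fld τ) (pr (uu (Multiplicative.ofAdd a))) = pr (uu (Multiplicative.ofAdd (τ a))) := by
  rw [lift_fld_pr, uu_apply, uu_apply, fld_m2]
  congr 1
  apply m2_ext <;> simp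

theorem exists_act {L : Subgroup G} (hn : L.Normal) (hL : IsQuasisimple L)
    (hcL : centralizer (L : Set G) = center G) {F : Type*} [Field F] (e : L ⧸ center L ≃* P2 F) :
    Nonempty (Act G L F) := by
  refine ⟨⟨hn, hL.1.commutator_eq_top, hcL, e.toMonoidHom.comp (QuotientGroup.mk' (center L)), ?_, ?_,
    (MulAut.congr e).toMonoidHom.comp (cq L), ?_⟩⟩
  · exact e.surjective.comp (QuotientGroup.mk'_surjective _)
  · intro x
    change e (QuotientGroup.mk' (center L) x) = 1 ↔ _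
    rw [map_eq_one_iff e e.injective]
    exact QuotientGroup.eq_one_iff x
  · intro g l l' hl
    change e (cq L g (e.symm (e (QuotientGroup.mk' (center L) l)))) = e (QuotientGroup.mk' (center L) l')
    rw [e.symm_apply_apply]
    congr 1
    change ((MulAut.conjNormal g l : L) : L ⧸ center L) = (l' : L ⧸ center L)
    congr 1
    exact Subtype.ext hl.symm

namespace Act

variable {L : Subgroup G} {F : Type*} [Field F] (A : Act G L F)

include A

theorem eq' (g : G) (l : L) : A.Φ g (A.p l) = A.p ⟨g * l * g⁻¹, A.normal.conj_mem l l.2 g⟩ :=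
  A.eq g l _ rfl

theorem Φ_coe (l : L) : A.Φ (l : G) = MulAut.conj (A.p l) := by
  apply MulEquiv.ext
  intro x
  obtain ⟨y, rfl⟩ := A.surj x
  rw [A.eq (l : G) y (l * y * l⁻¹) rfl, MulAut.conj_apply, map_mul, map_mul, map_inv]

theorem conj_mem (x : P2 F) : MulAut.conj x ∈ A.Φ.range := by
  obtain ⟨l, rfl⟩ := A.surj x
  exact ⟨l, A.Φ_coe l⟩

theorem coe_center {x : L} : x ∈ center L ↔ (x : G) ∈ center G := coe_mem_center_iff A.cent

/-- elements fixing `p l` commute with `l` modulo the centre -/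
theorem comm_mem {g : G} {l : L} (h : A.Φ g (A.p l) = A.p l) :
    g * l * g⁻¹ * (l : G)⁻¹ ∈ center G := by
  have h1 := A.eq' g l
  rw [h] at h1
  have h2 : A.p (⟨g * l * g⁻¹, A.normal.conj_mem l l.2 g⟩ * l⁻¹) = 1 := by
    rw [map_mul, map_inv, ← h1, mul_inv_cancel]
  rw [A.ker, A.coe_center] at h2
  exact h2

theorem fixed_of_comm_mem {g : G} {l : L} (h : g * l * g⁻¹ * (l : G)⁻¹ ∈ center G) :
    A.Φ g (A.p l) = A.p l := by
  rw [A.eq' g l]
  have h2 : A.p (⟨g * l * g⁻¹, A.normal.conj_mem l l.2 g⟩ * l⁻¹) = 1 := by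
    rw [A.ker, A.coe_center]
    exact h
  rw [map_mul, map_inv] at h2
  exact mul_inv_eq_one.1 h2

theorem kerΦ {g : G} : A.Φ g = 1 ↔ g ∈ center G := by
  constructor
  · intro hg
    have hz : ∀ l : L, g * l * g⁻¹ * (l : G)⁻¹ ∈ center G := fun l => A.comm_mem (by rw [hg]; rfl)
    rw [← A.cent, mem_centralizer_iff]
    have h1 : commutator L ≤ (centralizer ({g} : Set G)).subgroupOf L := by
      rw [commutator_def, commutator_le]
      intro a _ b _
      rw [mem_subgroupOf, mem_centralizer_singleton_iff]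
      have ha := hz a
      have hb := hz b
      set ζ := g * a * g⁻¹ * (a : G)⁻¹ with hζ
      set η := g * b * g⁻¹ * (b : G)⁻¹ with hη
      have ha' : g * a * g⁻¹ = ζ * a := by rw [hζ]; group
      have hb' : g * b * g⁻¹ = η * b := by rw [hη]; group
      have h2 : g * (⁅a, b⁆ : L) * g⁻¹ = (⁅a, b⁆ : L) := by
        rw [commutatorElement_def]
        push_cast
        calc g * ((a : G) * b * (a : G)⁻¹ * (b : G)⁻¹) * g⁻¹ =
            (g * a * g⁻¹) * (g * b * g⁻¹) * (g * a * g⁻¹)⁻¹ * (g * b * g⁻¹)⁻¹ := by group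
          _ = ζ * (a * η) * b * (a : G)⁻¹ * ζ⁻¹ * (b : G)⁻¹ * η⁻¹ := by rw [ha', hb']; group
          _ = (ζ * η) * (a * b * (a : G)⁻¹) * ζ⁻¹ * (b : G)⁻¹ * η⁻¹ := by
            rw [mem_center_iff.1 hb (a : G)]; group
          _ = (ζ * η) * (ζ⁻¹ * (a * b * (a : G)⁻¹)) * (b : G)⁻¹ * η⁻¹ := by
            rw [mul_assoc (ζ * η), mem_center_iff.1 (inv_mem ha) ((a : G) * b * (a : G)⁻¹)]
          _ = (ζ * (η * ζ⁻¹)) * (a * b * (a : G)⁻¹ * (b : G)⁻¹) * η⁻¹ := by group
          _ = (ζ * (ζ⁻¹ * η)) * (a * b * (a : G)⁻¹ * (b : G)⁻¹) * η⁻¹ := by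
            rw [mem_center_iff.1 (inv_mem ha) η]
          _ = (η * (a * b * (a : G)⁻¹ * (b : G)⁻¹)) * η⁻¹ := by group
          _ = a * b * (a : G)⁻¹ * (b : G)⁻¹ := by
            rw [← mem_center_iff.1 hb, mul_inv_cancel_right]
      calc (⁅a, b⁆ : L) * g = (g * (⁅a, b⁆ : L) * g⁻¹) * g := by rw [h2]
        _ = g * (⁅a, b⁆ : L) := by group
    rw [A.perfect, top_le_iff] at h1
    intro y hy
    have h2 : (⟨y, hy⟩ : L) ∈ (centralizer ({g} : Set G)).subgroupOf L := by rw [h1]; exact mem_top _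
    exact mem_centralizer_singleton_iff.1 h2
  · intro hg
    apply MulEquiv.ext
    intro x
    obtain ⟨y, rfl⟩ := A.surj x
    exact A.eq g y y (by rw [← mem_center_iff.1 hg, mul_inv_cancel_right])

theorem Φ_pow {g : G} {n : ℕ} (h : A.Φ g ^ n = 1) : g ^ n ∈ center G := by
  rw [← A.kerΦ, map_pow, h]

/-- The subgroup of the elements preserving the root group. -/
def borel : Subgroup G where
  carrier := {g | ∀ a : F, (∃ b : F, A.Φ g (pr (uu (Multiplicative.ofAdd a))) = pr (uu (Multiplicative.ofAdd b))) ∧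
    ∃ b : F, (A.Φ g)⁻¹ (pr (uu (Multiplicative.ofAdd a))) = pr (uu (Multiplicative.ofAdd b))}
  one_mem' := by
    intro a
    rw [map_one, inv_one]
    exact ⟨⟨a, rfl⟩, ⟨a, rfl⟩⟩
  mul_mem' := by
    intro g h hg hh a
    rw [map_mul, _root_.mul_inv_rev]
    refine ⟨?_, ?_⟩
    · obtain ⟨b, hb⟩ := (hh a).1
      obtain ⟨c, hc⟩ := (hg b).1
      exact ⟨c, by rw [MulAut.mul_apply, hb, hc]⟩
    · obtain ⟨b, hb⟩ := (hg a).2
      obtain ⟨c, hc⟩ := (hh b).2
      exact ⟨c, by rw [MulAut.mul_apply, hb, hc]⟩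
  inv_mem' := by
    intro g hg a
    rw [map_inv, inv_inv]
    exact ⟨(hg a).2, (hg a).1⟩

theorem mem_borel {g : G} : g ∈ A.borel ↔ ∀ a : F,
    (∃ b : F, A.Φ g (pr (uu (Multiplicative.ofAdd a))) = pr (uu (Multiplicative.ofAdd b))) ∧
    ∃ b : F, (A.Φ g)⁻¹ (pr (uu (Multiplicative.ofAdd a))) = pr (uu (Multiplicative.ofAdd b)) := Iff.rfl

theorem borel_ne_top : A.borel ≠ ⊤ := by
  intro h
  obtain ⟨l, hl⟩ := A.surj (pr (mw F))
  have h1 : (l : G) ∈ A.borel := by rw [h]; exact mem_top _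
  obtain ⟨⟨b, hb⟩, -⟩ := h1 1
  rw [A.Φ_coe, hl, MulAut.conj_apply, ← map_mul, ← map_inv, ← map_mul, mw, uu_apply, uu_apply, m2_inv,
    m2_mul, m2_mul, pr_eq_iff, m2_neg] at hb
  rcases hb with hb | hb
  · obtain ⟨-, -, h3, -⟩ := m2_inj hb
    simp at h3
  · obtain ⟨-, -, h3, -⟩ := m2_inj hb
    simp at h3

theorem mem_borel_of_uu {l : L} {a : F} (hl : A.p l = pr (uu (Multiplicative.ofAdd a))) :
    (l : G) ∈ A.borel := by
  intro b
  rw [A.Φ_coe, hl]
  have h : ∀ a b : F, MulAut.conj (pr (uu (Multiplicative.ofAdd a))) (pr (uu (Multiplicative.ofAdd b))) =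
      pr (uu (Multiplicative.ofAdd b)) := by
    intro a b
    rw [MulAut.conj_apply, ← map_mul, ← map_mul, ← map_inv, ← map_inv, ← map_mul, ← map_mul, mul_comm,
      inv_mul_cancel_left]
  refine ⟨⟨b, h a b⟩, ⟨b, ?_⟩⟩
  rw [← map_inv, ← map_inv, ← map_inv]
  exact h (-a) b

theorem mem_borel_of_dg {l : L} {s : Fˣ} (hl : A.p l = pr (dg s)) : (l : G) ∈ A.borel := by
  have h : ∀ (s : Fˣ) (b : F), MulAut.conj (pr (dg s)) (pr (uu (Multiplicative.ofAdd b))) =
      pr (uu (Multiplicative.ofAdd ((s : F) ^ 2 * b))) := by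
    intro s b
    rw [MulAut.conj_apply, ← map_mul, ← map_inv, ← map_mul, dg_conj_uu]
  intro b
  rw [A.Φ_coe, hl]
  refine ⟨⟨_, h s b⟩, ?_⟩
  rw [← map_inv, ← map_inv, ← map_inv]
  exact ⟨_, h s⁻¹ b⟩

theorem mem_borel_of_fld {g : G} {τ : F ≃+* F} (hg : A.Φ g = lift (fld τ)) : g ∈ A.borel := by
  intro b
  rw [hg]
  refine ⟨⟨_, fld_uu τ b⟩, ⟨τ⁻¹ b, ?_⟩⟩
  have h1 : (lift (fld τ) : MulAut (P2 F))⁻¹ = lift (fld τ⁻¹) := by rw [map_inv, map_inv]
  rw [h1]
  exact fld_uu τ⁻¹ b

/-- a torus element not commuting with a unipotent element -/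
theorem exists_torus [Fintype F] (h4 : 4 ≤ Fintype.card F) {v : L} {a : F} (ha : a ≠ 0)
    (hv : A.p v = pr (uu (Multiplicative.ofAdd a))) :
    ∃ h : L, (h : G) ∈ A.borel ∧ ¬ Commute (h : G) (v : G) := by
  classical
  obtain ⟨s, hs⟩ : ∃ s : Fˣ, (s : F) ^ 2 ≠ 1 := by
    obtain ⟨g, hg⟩ := IsCyclic.exists_generator (α := Fˣ)
    have h1 : orderOf g = Fintype.card F - 1 := by
      rw [orderOf_eq_card_of_forall_mem_zpowers hg, Nat.card_eq_fintype_card, Fintype.card_units]
    refine ⟨g, fun h => ?_⟩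
    have h2 : g ^ 2 = 1 := Units.ext (by push_cast; exact h)
    have h3 := Nat.le_of_dvd (by norm_num) (orderOf_dvd_of_pow_eq_one h2)
    omega
  obtain ⟨h, hh⟩ := A.surj (pr (dg s))
  refine ⟨h, A.mem_borel_of_dg hh, fun hc => ?_⟩
  have h1 : h * v = v * h := Subtype.ext hc
  have h2 := congrArg A.p h1
  rw [map_mul, map_mul, hh, hv] at h2
  have h3 : pr (dg s) * pr (uu (Multiplicative.ofAdd a)) * (pr (dg s))⁻¹ =
      pr (uu (Multiplicative.ofAdd a)) := by rw [h2, mul_inv_cancel_right]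
  rw [← map_mul, ← map_inv, ← map_mul, dg_conj_uu] at h3
  have h4 : pr (uu (Multiplicative.ofAdd ((s : F) ^ 2 * a)) * (uu (Multiplicative.ofAdd a))⁻¹) = 1 := by
    rw [map_mul, h3, ← map_mul, mul_inv_cancel, map_one]
  rw [← map_inv, ← map_mul, pr_uu_eq_one, ← ofAdd_neg, ← ofAdd_add] at h4
  have h5 : (s : F) ^ 2 * a + -a = 0 := h4
  apply hs
  have h6 : ((s : F) ^ 2 - 1) * a = 0 := by linear_combination h5
  rcases mul_eq_zero.1 h6 with h7 | h7
  · linear_combination h7
  · exact absurd h7 ha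

/-- **Field automorphisms of prime order different from the characteristic.** -/
theorem false_of_fld_ne [Fintype F] (hm : MinCA G) (h4 : 4 ≤ Fintype.card F) (c : ℕ) [CharP F c]
    (hc : c.Prime) {r : ℕ} (hr : r.Prime) (hrc : r ≠ c) {g : G} {τ : F ≃+* F}
    (hg : A.Φ g = lift (fld τ)) (hτ : orderOf τ = r) : False := by
  have hcop : Nat.Coprime r c := (Nat.coprime_primes hr hc).2 hrc
  have hgr : g ^ r ∈ center G := by
    apply A.Φ_pow
    rw [hg, ← map_pow, ← map_pow, ← hτ, pow_orderOf_eq_one, map_one, map_one]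
  obtain ⟨v, hv⟩ := A.surj (pr (uu (Multiplicative.ofAdd 1)))
  have hzc : ∀ {z : G}, z ∈ center G → ∀ g, g * z = z * g := fun {z} hz g => mem_center_iff.1 hz g
  have hpow : ∀ (l : L) (a : F), A.p l = pr (uu (Multiplicative.ofAdd a)) → (l : G) ^ c ∈ center G := by
    intro l a hl
    have h1 : A.p (l ^ c) = 1 := by
      rw [map_pow, hl, ← map_pow, ← map_pow, ← ofAdd_nsmul, nsmul_eq_mul, CharP.cast_eq_zero, zero_mul,
        ofAdd_zero, map_one, map_one]
    rw [A.ker, A.coe_center] at h1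
    push_cast at h1
    exact h1
  -- `g` commutes with `v`
  have hgv : Commute g (v : G) := by
    have h1 : g * v * g⁻¹ * (v : G)⁻¹ ∈ center G := by
      apply A.comm_mem
      rw [hg, hv, fld_uu, map_one]
    set ζ := g * v * g⁻¹ * (v : G)⁻¹ with hζ
    have h2 : g * v * g⁻¹ = ζ * v := by rw [hζ]; group
    have hit : ∀ k : ℕ, g ^ k * v * (g ^ k)⁻¹ = ζ ^ k * v := by
      intro k
      induction k with
      | zero => simp
      | succ k ih =>
        calc g ^ (k + 1) * v * (g ^ (k + 1))⁻¹ = g * (g ^ k * v * (g ^ k)⁻¹) * g⁻¹ := by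
              rw [pow_succ']; group
          _ = (g * ζ ^ k) * v * g⁻¹ := by rw [ih]; group
          _ = ζ ^ k * (g * v * g⁻¹) := by rw [hzc (pow_mem h1 k) g]; group
          _ = ζ ^ (k + 1) * v := by rw [h2, pow_succ, ← mul_assoc]
    have h3 : ζ ^ r = 1 := by
      have h4 := hit r
      rw [← hzc hgr v, mul_inv_cancel_right] at h4
      have : ζ ^ r * v = 1 * (v : G) := by rw [← h4, one_mul]
      exact mul_right_cancel this
    have h4 : ζ ^ c = 1 := by
      have h5 : g * (v : G) ^ c * g⁻¹ = (v : G) ^ c := by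
        rw [hzc (hpow v 1 hv) g, mul_inv_cancel_right]
      rw [← conj_pow, h2] at h5
      have h6 : Commute ζ (v : G) := (hzc h1 (v : G)).symm
      rw [h6.mul_pow] at h5
      have : ζ ^ c * (v : G) ^ c = 1 * (v : G) ^ c := by rw [h5, one_mul]
      exact mul_right_cancel this
    have h5 : orderOf ζ = 1 := Nat.eq_one_of_dvd_coprimes hcop
      (orderOf_dvd_of_pow_eq_one h3) (orderOf_dvd_of_pow_eq_one h4)
    have h6 : ζ = 1 := orderOf_eq_one_iff.1 h5
    rw [h6, one_mul] at h2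
    change g * v = v * g
    calc g * v = (g * v * g⁻¹) * g := by group
      _ = v * g := by rw [h2]
  obtain ⟨h, hhB, hhv⟩ := A.exists_torus h4 one_ne_zero hv
  have hvB := A.mem_borel_of_uu hv
  have hgB := A.mem_borel_of_fld hg
  -- the centralizer of `v` in the root group commutes with `g`
  have hcv : ∀ (w : L) (a : F), A.p w = pr (uu (Multiplicative.ofAdd a)) → Commute (w : G) v →
      Commute (w : G) g := fun w a hw hwv =>
    hm _ A.borel_ne_top v hvB h hhB w (A.mem_borel_of_uu hw) g hgB hwv hgv hhv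
  -- hence `g` centralizes the root group
  have hτ1 : τ = 1 := by
    apply RingEquiv.ext
    intro a
    obtain ⟨y, hy⟩ := A.surj (pr (uu (Multiplicative.ofAdd a)))
    let y' : L := ⟨g * y * g⁻¹, A.normal.conj_mem y y.2 g⟩
    have hy' : A.p y' = pr (uu (Multiplicative.ofAdd (τ a))) := by
      rw [← fld_uu, ← hg, ← hy, A.eq' g y]
    have hyc : (y' : G) = g * y * g⁻¹ := rfl
    -- commutators with `v`
    have hvy : ∀ (y : L) (a : F), A.p y = pr (uu (Multiplicative.ofAdd a)) →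
        (v : G) * y * (v : G)⁻¹ * (y : G)⁻¹ ∈ center G := by
      intro y a hy
      have h1 : A.p (v * y * v⁻¹ * y⁻¹) = 1 := by
        rw [map_mul, map_mul, map_mul, map_inv, map_inv, hv, hy, ← map_mul, ← map_mul, mul_comm,
          map_mul, map_mul]
        group
      rw [A.ker, A.coe_center] at h1
      exact h1
    have h1 : g * ((v : G) * y * (v : G)⁻¹ * (y : G)⁻¹) * g⁻¹ = (v : G) * y * (v : G)⁻¹ * (y : G)⁻¹ := by
      rw [hzc (hvy y a hy) g, mul_inv_cancel_right]
    have h2 : g * ((v : G) * y * (v : G)⁻¹ * (y : G)⁻¹) * g⁻¹ =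
        (v : G) * y' * (v : G)⁻¹ * (y' : G)⁻¹ := by
      have h3 : g * v * g⁻¹ = v := by rw [hgv.eq, mul_inv_cancel_right]
      calc g * ((v : G) * y * (v : G)⁻¹ * (y : G)⁻¹) * g⁻¹ =
          (g * v * g⁻¹) * (g * y * g⁻¹) * (g * v * g⁻¹)⁻¹ * (g * y * g⁻¹)⁻¹ := by group
        _ = _ := by rw [h3, ← hyc]
    rw [h1] at h2
    set cc : L := y⁻¹ * y' with hcc
    have hccv : Commute (cc : G) v := by
      have h4 : (cc : G) * (v : G)⁻¹ = (v : G)⁻¹ * cc := by
        rw [hcc]
        push_cast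
        calc (y : G)⁻¹ * y' * (v : G)⁻¹ =
            (y : G)⁻¹ * (v : G)⁻¹ * ((v : G) * y' * (v : G)⁻¹ * (y' : G)⁻¹) * y' := by group
          _ = (y : G)⁻¹ * (v : G)⁻¹ * ((v : G) * y * (v : G)⁻¹ * (y : G)⁻¹) * y' := by rw [← h2]
          _ = (v : G)⁻¹ * ((y : G)⁻¹ * y') := by group
      have h5 : Commute (cc : G) (v : G)⁻¹ := h4
      exact Commute.inv_right_iff.1 h5
    have hccp : A.p cc = pr (uu (Multiplicative.ofAdd (τ a - a))) := by
      rw [hcc, map_mul, map_inv, hy, hy', ← map_inv, ← map_inv, ← map_mul, ← map_mul, ← ofAdd_neg,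
        ← ofAdd_add]
      congr 3
      ring
    have hccg := hcv cc _ hccp hccv
    have hgy : g * y * g⁻¹ = y * cc := by rw [hcc]; push_cast; rw [hyc]; group
    have hit : ∀ k : ℕ, g ^ k * y * (g ^ k)⁻¹ = y * (cc : G) ^ k := by
      intro k
      induction k with
      | zero => simp
      | succ k ih =>
        have h3 : g * (cc : G) ^ k * g⁻¹ = (cc : G) ^ k := by
          rw [(hccg.symm.pow_right k).eq, mul_inv_cancel_right]
        calc g ^ (k + 1) * y * (g ^ (k + 1))⁻¹ = g * (g ^ k * y * (g ^ k)⁻¹) * g⁻¹ := by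
              rw [pow_succ']; group
          _ = (g * y * g⁻¹) * (g * (cc : G) ^ k * g⁻¹) := by rw [ih]; group
          _ = y * (cc : G) ^ (k + 1) := by rw [hgy, h3, pow_succ', mul_assoc]
    have h3 : (cc : G) ^ r = 1 := by
      have h4 := hit r
      rw [← hzc hgr y, mul_inv_cancel_right] at h4
      have : (y : G) * (cc : G) ^ r = y * 1 := by rw [← h4, mul_one]
      exact mul_left_cancel this
    have h4 : A.p cc = 1 := by
      have h5 : A.p cc ^ r = 1 := by
        rw [← map_pow]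
        have : cc ^ r = 1 := Subtype.ext (by push_cast; exact h3)
        rw [this, map_one]
      have h6 : A.p cc ^ c = 1 := by
        rw [hccp, ← map_pow, ← map_pow, ← ofAdd_nsmul, nsmul_eq_mul, CharP.cast_eq_zero, zero_mul,
          ofAdd_zero, map_one, map_one]
      have h7 : orderOf (A.p cc) = 1 := Nat.eq_one_of_dvd_coprimes hcop
        (orderOf_dvd_of_pow_eq_one h5) (orderOf_dvd_of_pow_eq_one h6)
      exact orderOf_eq_one_iff.1 h7
    rw [hccp, pr_uu_eq_one] at h4
    have h5 : τ a - a = 0 := h4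
    exact sub_eq_zero.1 h5
  rw [hτ1, orderOf_one] at hτ
  exact hr.one_lt.ne hτ

/-- **Field automorphisms if the characteristic does not divide `|Z(L)|`.** -/
theorem false_of_fld_center [Finite G] [Fintype F] (hm : MinCA G) (h4 : 4 ≤ Fintype.card F) (c : ℕ)
    [CharP F c] (hc : c.Prime) (hcL : ¬ c ∣ Nat.card (center L)) {g : G} {τ : F ≃+* F}
    (hg : A.Φ g = lift (fld τ)) (hτ : τ ≠ 1) : False := by
  obtain ⟨v, hv⟩ := A.surj (pr (uu (Multiplicative.ofAdd 1)))
  have hzc : ∀ {z : G}, z ∈ center G → ∀ g, g * z = z * g := fun {z} hz g => mem_center_iff.1 hz g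
  have hpow : ∀ (l : L) (a : F), A.p l = pr (uu (Multiplicative.ofAdd a)) → (l : G) ^ c ∈ center G := by
    intro l a hl
    have h1 : A.p (l ^ c) = 1 := by
      rw [map_pow, hl, ← map_pow, ← map_pow, ← ofAdd_nsmul, nsmul_eq_mul, CharP.cast_eq_zero, zero_mul,
        ofAdd_zero, map_one, map_one]
    rw [A.ker, A.coe_center] at h1
    push_cast at h1
    exact h1
  -- elements commuting with `v` modulo the centre commute with `v`
  have key : ∀ y : G, A.Φ y (A.p v) = A.p v → Commute y (v : G) := by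
    intro y hy
    have h1 := A.comm_mem hy
    let ζ : L := ⟨y * v * y⁻¹, A.normal.conj_mem v v.2 y⟩ * v⁻¹
    have hζ : (ζ : G) = y * v * y⁻¹ * (v : G)⁻¹ := rfl
    rw [← hζ] at h1
    have h2 : y * v * y⁻¹ = ζ * v := by rw [hζ]; group
    have h3 : (ζ : G) ^ c = 1 := by
      have h5 : y * (v : G) ^ c * y⁻¹ = (v : G) ^ c := by
        rw [hzc (hpow v 1 hv) y, mul_inv_cancel_right]
      rw [← conj_pow, h2] at h5
      have h6 : Commute (ζ : G) (v : G) := (hzc h1 (v : G)).symm
      rw [h6.mul_pow] at h5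
      have : (ζ : G) ^ c * (v : G) ^ c = 1 * (v : G) ^ c := by rw [h5, one_mul]
      exact mul_right_cancel this
    have h4 : ζ = 1 := by
      have hζc : ζ ∈ center L := A.coe_center.2 h1
      by_contra hne
      apply hcL
      have : Fact c.Prime := ⟨hc⟩
      have h5 : orderOf (⟨ζ, hζc⟩ : center L) = c := by
        apply orderOf_eq_prime
        · exact Subtype.ext (Subtype.ext (by push_cast; exact h3))
        · intro h
          exact hne (congrArg Subtype.val h)
      rw [← h5]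
      exact orderOf_dvd_natCard _
    rw [h4] at h2
    change y * v = v * y
    calc y * v = (y * v * y⁻¹) * y := by group
      _ = v * y := by rw [h2]; simp
  have hgv : Commute g (v : G) := key g (by rw [hg, hv, fld_uu, map_one])
  obtain ⟨h, hhB, hhv⟩ := A.exists_torus h4 one_ne_zero hv
  obtain ⟨a, ha⟩ : ∃ a : F, τ a ≠ a := by
    by_contra hcon
    push Not at hcon
    exact hτ (RingEquiv.ext hcon)
  obtain ⟨w, hw⟩ := A.surj (pr (uu (Multiplicative.ofAdd a)))
  have hwv : Commute (w : G) v := by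
    apply key
    rw [A.Φ_coe, hw, hv, MulAut.conj_apply, ← map_mul, ← map_mul, mul_comm, map_mul, map_mul,
      mul_inv_cancel_right]
  have h1 := hm _ A.borel_ne_top v (A.mem_borel_of_uu hv) h hhB w (A.mem_borel_of_uu hw) g
    (A.mem_borel_of_fld hg) hwv hgv hhv
  apply ha
  have h2 : A.Φ g (A.p w) = A.p w := A.eq g w w (by rw [← h1.eq, mul_inv_cancel_right])
  rw [hg, hw, fld_uu] at h2
  have h3 : pr (uu (Multiplicative.ofAdd (τ a)) * (uu (Multiplicative.ofAdd a))⁻¹) = 1 := by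
    rw [map_mul, h2, ← map_mul, mul_inv_cancel, map_one]
  rw [← map_inv, ← map_mul, pr_uu_eq_one, ← ofAdd_neg, ← ofAdd_add] at h3
  have h5 : τ a + -a = 0 := h3
  linear_combination h5

end Act

end Cfsg.Agent.H577
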