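import Cfsg.Agent.H577.CAAbelEnd
import Cfsg.Agent.S0799
import Cfsg.Agent.S0251

/-!
# Minimal non-CA groups: the groups `PSL(2, q)`
-/

set_option autoImplicit false
set_option linter.unusedSectionVars false

namespace Cfsg.Agent.H577

open Matrix Subgroup Cfsg
open Cfsg.Agent.ClassicalGeometry.AutPSL.Root (pr pr_surjective)
open Psl2

universe u

theorem ca_dihedral (k : ℕ) : CA (DihedralGroup k) := by
  intro x y a b hax hbx hyx
  change a * x = x * a at hax
  change b * x = x * b at hbx
  change ¬ (y * x = x * y) at hyx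
  change a * b = b * a
  rcases x with i | i
  · rcases y with j | j
    · exact absurd (by rw [DihedralGroup.r_mul_r, DihedralGroup.r_mul_r, add_comm]) hyx
    · have hi : ¬ (j + i = j - i) := by
        rw [DihedralGroup.sr_mul_r, DihedralGroup.r_mul_sr] at hyx
        simpa using hyx
      have hi' : ∀ l : ZMod k, l + i ≠ l - i := by
        intro l h
        apply hi
        have h1 : i = -i := by
          have := congrArg (fun t => t - l) h
          simpa using this
        rw [sub_eq_add_neg, ← h1]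
      rcases a with c | c
      · rcases b with d | d
        · rw [DihedralGroup.r_mul_r, DihedralGroup.r_mul_r, add_comm]
        · rw [DihedralGroup.sr_mul_r, DihedralGroup.r_mul_sr, DihedralGroup.sr.injEq] at hbx
          exact absurd hbx (hi' d)
      · rw [DihedralGroup.sr_mul_r, DihedralGroup.r_mul_sr, DihedralGroup.sr.injEq] at hax
        exact absurd hax (hi' c)
  · rcases a with c | c
    · rw [DihedralGroup.sr_mul_r, DihedralGroup.r_mul_sr, DihedralGroup.sr.injEq] at hax
      have h1 : c = -c := by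
        have := congrArg (fun t => t - i) hax
        simpa using this.symm
      rcases b with d | d
      · rw [DihedralGroup.r_mul_r, DihedralGroup.r_mul_r, add_comm]
      · rw [DihedralGroup.sr_mul_r, DihedralGroup.r_mul_sr, DihedralGroup.sr.injEq, sub_eq_add_neg, ← h1]
    · rw [DihedralGroup.sr_mul_sr, DihedralGroup.sr_mul_sr, DihedralGroup.r.injEq] at hax
      rcases b with d | d
      · rw [DihedralGroup.sr_mul_r, DihedralGroup.r_mul_sr, DihedralGroup.sr.injEq] at hbx
        have h1 : d = -d := by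
          have := congrArg (fun t => t - i) hbx
          simpa using this.symm
        rw [DihedralGroup.sr_mul_r, DihedralGroup.r_mul_sr, DihedralGroup.sr.injEq, sub_eq_add_neg, ← h1]
      · rw [DihedralGroup.sr_mul_sr, DihedralGroup.sr_mul_sr, DihedralGroup.r.injEq] at hbx
        rw [DihedralGroup.sr_mul_sr, DihedralGroup.sr_mul_sr, DihedralGroup.r.injEq]
        linear_combination hax - hbx

set_option synthInstance.maxHeartbeats 400000 in
set_option synthInstance.maxSize 2000 in
set_option maxRecDepth 100000 in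
theorem alt_four_aux : ∀ x : alternatingGroup (Fin 4), x ≠ 1 → ∀ a : alternatingGroup (Fin 4), a * x = x * a →
    ∀ b : alternatingGroup (Fin 4), b * x = x * b → a * b = b * a := by
  decide +kernel

theorem ca_alt_four : CA (alternatingGroup (Fin 4)) := by
  intro x y a b hax hbx hyx
  refine alt_four_aux x ?_ a hax b hbx
  rintro rfl
  exact hyx (Commute.one_right y)

theorem ca_alt_five : CA (alternatingGroup (Fin 5)) := by
  have hf : Fact (Nat.Prime 2) := ⟨Nat.prime_two⟩
  let _ := Fintype.ofFinite (GaloisField 2 2)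
  have hK : Fintype.card (GaloisField 2 2) = 4 := by
    rw [← Nat.card_eq_fintype_card, GaloisField.card 2 2 (by norm_num)]
    norm_num
  have c1 : Nat.card (Matrix.ProjectiveSpecialLinearGroup (Fin 2) (GaloisField 2 2)) = 60 := by
    rw [ClassicalGeometry.PSL2Basic.card_PSL2_even (GaloisField 2 2) (by rw [hK]; decide), hK]
    norm_num
  obtain ⟨e⟩ := OddCyclic.T1Socle.equiv_alternating (F' := GaloisField 2 2) (by rw [hK]; norm_num) c1
  have h2 : (2 : GaloisField 2 2) = 0 := CharTwo.two_eq_zero
  exact (ca_of_even h2).of_injective e.symm.toMonoidHom e.symm.injective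

theorem CA.of_equiv {G H : Type*} [Group G] [Group H] (h : CA G) (e : H ≃* G) : CA H :=
  h.of_injective e.toMonoidHom e.injective

section

variable {F : Type*} [Field F] [Fintype F]

/-- upper triangular matrices -/
theorem ca_upper (h2 : (2 : F) ≠ 0) {K : Type*} [Group K] (f : K →* P2 F) (hf : Function.Injective f)
    (hK : ∀ k, ∃ M : SL2 F, pr M = f k ∧ (M : Matrix (Fin 2) (Fin 2) F) 1 0 = 0) : CA K := by
  have key : ∀ {x a : K} {X A : SL2 F}, pr X = f x → pr A = f a →
      (X : Matrix (Fin 2) (Fin 2) F) 1 0 = 0 → (A : Matrix (Fin 2) (Fin 2) F) 1 0 = 0 →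
      (Commute a x ↔ (A : Matrix (Fin 2) (Fin 2) F) * X = X * A) := by
    intro x a X A hX hA hX0 hA0
    have h1 : Commute a x ↔ Commute (pr A) (pr X) := by
      rw [hX, hA]
      constructor
      · exact fun h => h.map f
      · intro h
        exact hf (by rw [map_mul, map_mul]; exact h)
    rw [h1, pr_commute_iff]
    constructor
    · rintro (h | h)
      · exact congrArg Subtype.val h
      · exfalso
        have h3 := congrArg Subtype.val h
        change (A : Matrix (Fin 2) (Fin 2) F) * X = -((X : Matrix (Fin 2) (Fin 2) F) * A) at h3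
        have h4 := congrFun (congrFun h3 0) 0
        simp only [Matrix.mul_apply, Fin.sum_univ_two, Matrix.neg_apply, hX0, hA0, mul_zero, add_zero] at h4
        have hdA := A.2
        have hdX := X.2
        rw [det_fin_two] at hdA hdX
        have e1 : (A : Matrix (Fin 2) (Fin 2) F) 0 0 ≠ 0 := by
          intro h0
          change (A : Matrix (Fin 2) (Fin 2) F) 0 0 * _ - _ * (A : Matrix (Fin 2) (Fin 2) F) 1 0 = 1 at hdA
          rw [h0, hA0] at hdA
          simp at hdA
        have e2 : (X : Matrix (Fin 2) (Fin 2) F) 0 0 ≠ 0 := by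
          intro h0
          change (X : Matrix (Fin 2) (Fin 2) F) 0 0 * _ - _ * (X : Matrix (Fin 2) (Fin 2) F) 1 0 = 1 at hdX
          rw [h0, hX0] at hdX
          simp at hdX
        have e3 : 2 * ((A : Matrix (Fin 2) (Fin 2) F) 0 0 * (X : Matrix (Fin 2) (Fin 2) F) 0 0) = 0 := by
          linear_combination h4
        exact mul_ne_zero h2 (mul_ne_zero e1 e2) e3
    · intro h
      left
      exact Subtype.ext h
  intro x y a b hax hbx hyx
  obtain ⟨X, hX, hX0⟩ := hK x
  obtain ⟨Y, hY, hY0⟩ := hK y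
  obtain ⟨A, hA, hA0⟩ := hK a
  obtain ⟨B, hB, hB0⟩ := hK b
  rw [key hX hA hX0 hA0] at hax
  rw [key hX hB hX0 hB0] at hbx
  rw [key hX hY hX0 hY0] at hyx
  rw [key hB hA hB0 hA0]
  refine mat_comm ?_ hax hbx
  rintro ⟨r, hr⟩
  apply hyx
  rw [← hr]
  exact (scalar_commute r (Commute.all r) _).symm

theorem rt_eq (a : F) : Lib.PSL2Mult.rt a = pr (uu (Multiplicative.ofAdd a)) := by
  rw [Lib.PSL2Mult.rt_def]
  congr 1

/-- normalizers of Sylow subgroups in the defining characteristic -/
theorem ca_borel (hodd : Odd (Fintype.card F)) (p : ℕ) [hp : Fact p.Prime] [CharP F p]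
    (P : Sylow p (P2 F)) (K : Subgroup (P2 F)) (hK : K ≤ normalizer ((P : Subgroup (P2 F)) : Set (P2 F))) :
    CA K := by
  have h2 := two_ne_zero_of_odd hodd
  -- the root group
  let φ : Multiplicative F →* P2 F := (pr (ι := Fin 2) (F := F)).comp uu
  have hφ : IsPGroup p φ.range := by
    rintro ⟨_, a, rfl⟩
    refine ⟨1, Subtype.ext ?_⟩
    change (φ a) ^ p ^ 1 = 1
    rw [pow_one, ← map_pow]
    have : a ^ p = 1 := by
      change Multiplicative.ofAdd (p • a.toAdd) = 1
      rw [nsmul_eq_mul, CharP.cast_eq_zero, zero_mul]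
      rfl
    rw [this, map_one]
  obtain ⟨Q, hQ⟩ := hφ.exists_le_sylow
  have hpF : p ∣ Fintype.card F := by
    obtain ⟨n, hn, hn'⟩ := FiniteField.card F p
    rw [hn']
    exact dvd_pow_self p n.pos.ne'
  have hmem : ∀ y ∈ (Q : Subgroup (P2 F)), ∃ a : F, y = pr (uu (Multiplicative.ofAdd a)) := by
    intro y hy
    obtain ⟨a, ha⟩ := Lib.PSL2Mult.mem_rt_of_isPGroup hodd hpF (Q : Subgroup (P2 F)) Q.isPGroup'
      (fun a => hQ ⟨Multiplicative.ofAdd a, (rt_eq a).symm⟩) y hy
    exact ⟨a, by rw [ha, rt_eq]⟩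
  obtain ⟨g, hg⟩ := MulAction.exists_smul_eq (P2 F) P Q
  have hPQ : ∀ y, y ∈ (P : Subgroup (P2 F)) ↔ g * y * g⁻¹ ∈ (Q : Subgroup (P2 F)) := by
    intro y
    rw [← hg, Sylow.smul_def]
    constructor
    · intro hy
      exact ⟨y, hy, rfl⟩
    · rintro ⟨w, hw, hwy⟩
      have : w = y := (MulAut.conj g).injective hwy
      rwa [← this]
  refine ca_upper h2 ((MulAut.conj g).toMonoidHom.comp K.subtype)
    ((MulAut.conj g).injective.comp K.subtype_injective) ?_
  rintro ⟨k, hk⟩
  obtain ⟨M, hM⟩ := pr_surjective (g * k * g⁻¹)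
  refine ⟨M, hM, ?_⟩
  -- `M` normalizes the root group
  have h3 : pr (M * uu (Multiplicative.ofAdd 1) * M⁻¹) ∈ (Q : Subgroup (P2 F)) := by
    rw [map_mul, map_mul, map_inv, hM]
    have h4 : pr (uu (Multiplicative.ofAdd (1 : F))) ∈ (Q : Subgroup (P2 F)) :=
      hQ ⟨Multiplicative.ofAdd 1, rfl⟩
    set w := pr (uu (Multiplicative.ofAdd (1 : F))) with hw
    have h5 : g⁻¹ * w * g ∈ (P : Subgroup (P2 F)) := by
      rw [hPQ]
      have : g * (g⁻¹ * w * g) * g⁻¹ = w := by group
      rwa [this]
    have h6 := (mem_normalizer_iff.1 (hK hk) _).1 h5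
    have h7 := (hPQ _).1 h6
    have h8 : g * (k * (g⁻¹ * w * g) * k⁻¹) * g⁻¹ = g * k * g⁻¹ * w * (g * k * g⁻¹)⁻¹ := by group
    rwa [h8] at h7
  obtain ⟨b, hb⟩ := hmem _ h3
  obtain ⟨α, β, γ, δ, h, rfl⟩ := exists_m2 M
  rw [uu_apply, uu_apply, m2_inv, m2_mul, m2_mul, pr_eq_iff, m2_neg] at hb
  change γ = 0
  rcases hb with hb | hb
  · obtain ⟨-, -, e, -⟩ := m2_inj hb
    have : γ * γ = 0 := by linear_combination -e
    exact mul_self_eq_zero.1 this
  · obtain ⟨-, -, e, -⟩ := m2_inj hb
    have : γ * γ = 0 := by linear_combination -e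
    exact mul_self_eq_zero.1 this

theorem good_facts (hF : Good F) : Odd (Fintype.card F) ∧ 5 < Fintype.card F ∧
    ¬ 16 ∣ Fintype.card F ^ 2 - 1 := by
  rcases hF with ⟨hp, h5, h16⟩ | ⟨p, hp, hp2, hF⟩
  · exact ⟨hp.odd_of_ne_two (by omega), h5, h16⟩
  · have hpo : Odd p := hp.odd_of_ne_two hp2
    obtain ⟨m, hm⟩ := hpo
    have hm0 : 1 ≤ m := by
      rcases Nat.eq_zero_or_pos m with h | h
      · subst h
        rw [hm] at hp
        exact absurd hp (by norm_num)
      · exact h
    have key : ∀ c : ℕ, (c = 3 ∨ c = 5) → Odd (c ^ p) ∧ 5 < c ^ p ∧ ¬ 16 ∣ (c ^ p) ^ 2 - 1 := by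
      intro c hc
      refine ⟨?_, ?_, ?_⟩
      · apply Odd.pow
        rcases hc with rfl | rfl <;> decide
      · calc 5 < 3 ^ 2 := by norm_num
          _ ≤ c ^ 2 := Nat.pow_le_pow_left (by omega) 2
          _ ≤ c ^ p := Nat.pow_le_pow_right (by omega) (by omega)
      · have h1 : (c ^ p) ^ 2 % 16 = 9 := by
          have h2 : (c ^ p) ^ 2 = (c ^ 4) ^ m * c ^ 2 := by
            rw [hm, ← pow_mul, ← pow_mul, ← pow_add]
            congr 1
            ring
          have h3 : c ^ 4 % 16 = 1 := by rcases hc with rfl | rfl <;> norm_num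
          have h4 : c ^ 2 % 16 = 9 := by rcases hc with rfl | rfl <;> norm_num
          rw [h2, Nat.mul_mod, Nat.pow_mod, h3, h4, one_pow]
          norm_num
        have h2 : 1 ≤ (c ^ p) ^ 2 := Nat.one_le_pow _ _ (Nat.pow_pos (by omega))
        omega
    rcases hF with hF | hF
    · rw [hF]; exact key 3 (Or.inl rfl)
    · rw [hF]; exact key 5 (Or.inr rfl)

theorem eight_not_dvd (hF : Good F) : ¬ 8 ∣ Nat.card (Matrix.ProjectiveSpecialLinearGroup (Fin 2) F) := by
  obtain ⟨hodd, h5, h16⟩ := good_facts hF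
  intro h
  have h1 := ClassicalGeometry.PSL2Basic.card_PSL2_odd F hodd
  apply h16
  have h2 : 16 ∣ Fintype.card F * (Fintype.card F ^ 2 - 1) := by
    rw [← h1]
    exact Nat.mul_dvd_mul h (dvd_refl 2)
  have h3 : Nat.Coprime 16 (Fintype.card F) := by
    have : (16 : ℕ) = 2 ^ 4 := by norm_num
    rw [this]
    exact Nat.Coprime.pow_left 4 (Nat.coprime_two_left.2 hodd)
  exact h3.dvd_of_dvd_mul_left h2

/-- **proper subgroups are CA** -/
theorem minCA_psl (hF : Good F) : MinCA (P2 F) := by
  obtain ⟨hodd, h5, h16⟩ := good_facts hF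
  have h8 := eight_not_dvd hF
  rw [minCA_iff]
  intro H hH
  have h8H : ¬ 8 ∣ Nat.card H := fun h => h8 (h.trans (card_subgroup_dvd_card H))
  obtain ⟨p, hchar, n, hp, hn⟩ := FiniteField.card' (K := F)
  have hpf : Fact p.Prime := ⟨hp⟩
  rcases Cfsg.Agent.S0799.result (F := F) rfl p H with
    ⟨k, -, ⟨hc, -⟩ | ⟨⟨e⟩⟩⟩ | ⟨P, K, hK, ⟨e⟩⟩ | ⟨⟨e⟩⟩ | ⟨⟨e⟩⟩ | ⟨⟨e⟩⟩ | ⟨K, i1, i2, m, hm, hpsl⟩
  · exact CA.of_comm fun a b => hc.commGroup.mul_comm a b
  · exact (ca_dihedral k).of_equiv e
  · exact (ca_borel hodd p P K hK).of_equiv e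
  · exact ca_alt_four.of_equiv e
  · exfalso
    apply h8H
    rw [Nat.card_congr e.toEquiv, Nat.card_perm, Nat.card_eq_fintype_card, Fintype.card_fin]
    decide
  · exact ca_alt_five.of_equiv e
  · have hm0 : m ≠ 0 := by
      rintro rfl
      rw [pow_zero] at hm
      omega
    have hKodd : Odd (Fintype.card K) := by
      rw [← hm] at hodd
      exact (Nat.odd_pow_iff hm0).1 hodd
    rcases hpsl with ⟨⟨e⟩⟩ | ⟨⟨e⟩⟩
    · have hne : Fintype.card K ≠ Fintype.card F := by
        intro h
        apply hH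
        apply Subgroup.eq_top_of_card_eq
        have c1 := ClassicalGeometry.PSL2Basic.card_PSL2_odd F hodd
        have c2 := ClassicalGeometry.PSL2Basic.card_PSL2_odd K hKodd
        rw [h, ← c1] at c2
        rw [Nat.card_congr e.toEquiv]
        exact Nat.eq_of_mul_eq_mul_right (by norm_num) c2
      have hK35 : Fintype.card K = 3 ∨ Fintype.card K = 5 := by
        rcases hF with ⟨hpr, -, -⟩ | ⟨r, hr, hr2, hF⟩
        · exfalso
          apply hne
          rw [← hm] at hpr
          have h1 := hpr.eq_one_of_pow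
          rw [← hm, h1, pow_one]
        · have key : ∀ c : ℕ, c.Prime → Fintype.card F = c ^ r → Fintype.card K = c := by
            intro c hc hFc
            have h1 : Fintype.card K ∣ c ^ r := by
              rw [← hFc, ← hm]
              exact dvd_pow_self _ hm0
            obtain ⟨j, -, hj⟩ := (Nat.dvd_prime_pow hc).1 h1
            have h3 : j * m = r := by
              apply Nat.pow_right_injective hc.two_le
              change c ^ (j * m) = c ^ r
              rw [pow_mul, ← hj, hm, hFc]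
            rcases (Nat.dvd_prime hr).1 (Dvd.intro _ h3 : j ∣ r) with h4 | h4
            · rw [hj, h4, pow_one]
            · exfalso
              apply hne
              rw [hj, h4, hFc]
          rcases hF with hF | hF
          · exact Or.inl (key 3 Nat.prime_three hF)
          · exact Or.inr (key 5 Nat.prime_five hF)
      rcases hK35 with h | h
      · obtain ⟨f⟩ := Cfsg.Agent.S0251.result h
        exact ca_alt_four.of_equiv (e.trans f)
      · exact (ca_five h).of_equiv e
    · exfalso
      apply h8H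
      rw [Nat.card_congr e.toEquiv, ClassicalGeometry.PSL2Basic.card_PGL2]
      obtain ⟨k, hk⟩ := hKodd
      have h1 : Fintype.card K ^ 2 - 1 = 4 * (k * (k + 1)) := by
        rw [hk]
        have : (2 * k + 1) ^ 2 = 4 * (k * (k + 1)) + 1 := by ring
        rw [this, Nat.add_sub_cancel]
      obtain ⟨j, hj⟩ := Nat.even_mul_succ_self k
      rw [h1, hj]
      exact ⟨Fintype.card K * j, by ring⟩

end

/-- **the groups `PSL(2, q)` are examples** -/
theorem backward {G : Type*} [Group G] {F : Type*} [Field F] [Fintype F] (e : G ≃* P2 F) (hF : Good F) :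
    ¬ Group.IsSolvable G ∧ ¬ CA G ∧ MinCA G := by
  obtain ⟨hodd, h5, h16⟩ := good_facts hF
  refine ⟨?_, ?_, ?_⟩
  · intro h
    apply psl_not_solvable (F := F) (by omega)
    exact Group.isSolvable_of_isSolvable_injective (f := e.symm.toMonoidHom) e.symm.injective
  · intro h
    exact not_ca_of_odd hodd h5 (h.of_equiv e.symm)
  · rw [minCA_iff]
    intro H hH
    have h1 : H.map e.toMonoidHom ≠ ⊤ := by
      intro htop
      apply hH
      rw [eq_top_iff]
      intro x _
      have h3 : e x ∈ H.map e.toMonoidHom := by rw [htop]; exact mem_top _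
      obtain ⟨w, hw, hwx⟩ := h3
      rwa [← e.injective hwx]
    exact ((minCA_psl hF).ca h1).of_injective (H.equivMapOfInjective _ e.injective).toMonoidHom
      (MulEquiv.injective _)

end Cfsg.Agent.H577
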