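import Mathlib

/-!
# Minimal non-CA groups: basic tools

`CA G`: the centralizer of every noncentral element is abelian.  `MinCA G`: every proper subgroup of `G` is a
CA-group.  Solvability criteria (with the odd order theorem as a hypothesis `FT`).
-/

set_option autoImplicit false

namespace Cfsg.Agent.H577

open Subgroup

universe u

/-- The odd order theorem in a given universe, as a hypothesis. -/
def FTh : Prop := ∀ (K : Type u) [Group K] [Finite K], Odd (Nat.card K) → Group.IsSolvable K

/-- centralizers of noncentral elements are abelian -/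
def CA (G : Type*) [Group G] : Prop :=
  ∀ x y a b : G, Commute a x → Commute b x → ¬ Commute y x → Commute a b

theorem ca_iff {G : Type*} [Group G] :
    CA G ↔ ∀ x : G, x ∉ center G → IsMulCommutative (centralizer ({x} : Set G)) := by
  constructor
  · intro h x hx
    rw [mem_center_iff] at hx
    push Not at hx
    obtain ⟨y, hy⟩ := hx
    refine ⟨⟨fun a b => Subtype.ext ?_⟩⟩
    exact h x y a b (mem_centralizer_singleton_iff.1 a.2) (mem_centralizer_singleton_iff.1 b.2) hy
  · intro h x y a b ha hb hy
    have hx : x ∉ center G := fun hx => hy (mem_center_iff.1 hx y)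
    have := (h x hx).is_comm.comm ⟨a, mem_centralizer_singleton_iff.2 ha⟩
      ⟨b, mem_centralizer_singleton_iff.2 hb⟩
    exact congrArg Subtype.val this

theorem CA.of_injective {G H : Type*} [Group G] [Group H] (h : CA G) (f : H →* G)
    (hf : Function.Injective f) : CA H := by
  intro x y a b ha hb hy
  have := h (f x) (f y) (f a) (f b) (ha.map f) (hb.map f)
    (fun hc => hy (hf (by rw [map_mul, map_mul]; exact hc)))
  exact hf (by rw [map_mul, map_mul]; exact this)

theorem CA.of_comm {G : Type*} [Group G] (h : ∀ a b : G, Commute a b) : CA G :=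
  fun _ _ a b _ _ _ => h a b

/-- all proper subgroups are CA-groups, elementwise -/
def MinCA (G : Type*) [Group G] : Prop :=
  ∀ H : Subgroup G, H ≠ ⊤ → ∀ x ∈ H, ∀ y ∈ H, ∀ a ∈ H, ∀ b ∈ H,
    Commute a x → Commute b x → ¬ Commute y x → Commute a b

theorem MinCA.ca {G : Type*} [Group G] (h : MinCA G) {H : Subgroup G} (hH : H ≠ ⊤) : CA H := by
  intro x y a b ha hb hy
  have h1 : ∀ u v : H, Commute u v ↔ Commute (u : G) (v : G) := fun u v =>
    ⟨fun k => congrArg Subtype.val k, fun k => Subtype.ext k⟩
  rw [h1] at ha hb hy ⊢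
  exact h H hH x x.2 y y.2 a a.2 b b.2 ha hb hy

theorem minCA_iff {G : Type*} [Group G] : MinCA G ↔ ∀ H : Subgroup G, H ≠ ⊤ → CA H := by
  refine ⟨fun h H hH => h.ca hH, fun h H hH x hx y hy a ha b hb h1 h2 h3 => ?_⟩
  have := h H hH ⟨x, hx⟩ ⟨y, hy⟩ ⟨a, ha⟩ ⟨b, hb⟩ (Subtype.ext h1) (Subtype.ext h2)
    (fun hc => h3 (congrArg Subtype.val hc))
  exact congrArg Subtype.val this

theorem CA.minCA {G : Type*} [Group G] (h : CA G) : MinCA G :=
  minCA_iff.2 fun H _ => h.of_injective H.subtype H.subtype_injective

theorem MinCA.subgroup {G : Type*} [Group G] (h : MinCA G) (H : Subgroup G) : MinCA H := by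
  by_cases hH : H = ⊤
  · subst hH
    rw [minCA_iff] at h ⊢
    intro K hK
    have hK' : K.map (⊤ : Subgroup G).subtype ≠ ⊤ := by
      intro hcon
      apply hK
      rw [eq_top_iff]
      intro x _
      have hx : (x : G) ∈ K.map (⊤ : Subgroup G).subtype := by
        rw [hcon]
        exact mem_top _
      obtain ⟨y, hy, hyx⟩ := hx
      rwa [← Subtype.ext hyx]
    exact (h _ hK').of_injective (K.equivMapOfInjective _ (subtype_injective _)).toMonoidHom
      (MulEquiv.injective _)
  · exact (h.ca hH).minCA

/-- **Fact 1.** A proper subgroup that contains `x` and two noncommuting elements of `C(x)` centralizes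
`x`. -/
theorem MinCA.fact {G : Type*} [Group G] (h : MinCA G) {H : Subgroup G} (hH : H ≠ ⊤) {x a b : G}
    (hx : x ∈ H) (ha : a ∈ H) (hb : b ∈ H) (hax : Commute a x) (hbx : Commute b x)
    (hab : ¬ Commute a b) {y : G} (hy : y ∈ H) : Commute y x := by
  by_contra hcon
  exact hab (h H hH x hx y hy a ha b hb hax hbx hcon)

/-! ### Solvability -/

theorem solvable_of_map {G : Type*} [Group G] (N : Subgroup G) [N.Normal] (hN : Group.IsSolvable N)
    (H : Subgroup G) (hH : Group.IsSolvable (H.map (QuotientGroup.mk' N))) : Group.IsSolvable H := by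
  have h1 : Group.IsSolvable (N.subgroupOf H) := by
    let f : N.subgroupOf H →* N :=
      { toFun := fun x => ⟨(x : H), x.2⟩
        map_one' := rfl
        map_mul' := fun _ _ => rfl }
    refine Group.isSolvable_of_isSolvable_injective (f := f) ?_
    intro x y hxy
    have h2 : ((x : H) : G) = ((y : H) : G) := congrArg (fun z : N => (z : G)) hxy
    exact Subtype.ext (Subtype.ext h2)
  refine Group.isSolvable_of_ker_le_range (N.subgroupOf H).subtype ((QuotientGroup.mk' N).subgroupMap H) ?_
  intro x hx
  rw [MonoidHom.mem_ker] at hx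
  have h2 : QuotientGroup.mk' N (x : G) = 1 := congrArg Subtype.val hx
  rw [QuotientGroup.mk'_apply, QuotientGroup.eq_one_iff] at h2
  exact ⟨⟨x, h2⟩, rfl⟩

theorem solvable_sup {G : Type*} [Group G] (N S : Subgroup G) [N.Normal] (hN : Group.IsSolvable N)
    (hS : Group.IsSolvable S) : Group.IsSolvable (N ⊔ S : Subgroup G) := by
  apply solvable_of_map N hN
  have h1 : (N ⊔ S).map (QuotientGroup.mk' N) = S.map (QuotientGroup.mk' N) := by
    rw [Subgroup.map_sup]
    have : N.map (QuotientGroup.mk' N) = ⊥ := by
      rw [Subgroup.map_eq_bot_iff, QuotientGroup.ker_mk']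
    rw [this, bot_sup_eq]
  rw [h1]
  exact Group.isSolvable_of_surjective ((QuotientGroup.mk' N).subgroupMap_surjective S)

theorem solvable_of_quot {G : Type*} [Group G] (N : Subgroup G) [N.Normal] (hN : Group.IsSolvable N)
    (hQ : Group.IsSolvable (G ⧸ N)) : Group.IsSolvable G :=
  Group.isSolvable_of_ker_le_range N.subtype (QuotientGroup.mk' N)
    (by rw [QuotientGroup.ker_mk', Subgroup.range_subtype])

theorem solvable_of_le {G : Type*} [Group G] {H K : Subgroup G} (hHK : H ≤ K)
    (hK : Group.IsSolvable K) : Group.IsSolvable H :=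
  Group.isSolvable_of_isSolvable_injective (f := Subgroup.inclusion hHK) (Subgroup.inclusion_injective hHK)

theorem solvable_top_iff {G : Type*} [Group G] : Group.IsSolvable (⊤ : Subgroup G) ↔ Group.IsSolvable G :=
  ⟨fun _ => Group.isSolvable_of_surjective (f := (Subgroup.topEquiv (G := G)).toMonoidHom)
      (Subgroup.topEquiv (G := G)).surjective,
    fun _ => Group.isSolvable_of_isSolvable_injective (f := (Subgroup.topEquiv (G := G)).toMonoidHom)
      (Subgroup.topEquiv (G := G)).injective⟩

theorem ne_top_of_solvable {G : Type*} [Group G] (hns : ¬ Group.IsSolvable G) {H : Subgroup G}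
    (hH : Group.IsSolvable H) : H ≠ ⊤ := by
  rintro rfl
  exact hns (solvable_top_iff.1 hH)

theorem solvable_of_comm {G : Type*} [Group G] (h : ∀ a b : G, Commute a b) : Group.IsSolvable G :=
  Group.isSolvable_of_comm h

theorem solvable_sub_of_comm {G : Type*} [Group G] {H : Subgroup G}
    (h : ∀ a ∈ H, ∀ b ∈ H, Commute a b) : Group.IsSolvable H :=
  Group.isSolvable_of_comm fun a b => Subtype.ext (h a a.2 b b.2)

theorem solvable_of_isPGroup {G : Type*} [Group G] [Finite G] {p : ℕ} [Fact p.Prime] {H : Subgroup G}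
    (h : IsPGroup p H) : Group.IsSolvable H := by
  have : Group.IsNilpotent H := h.isNilpotent
  infer_instance

/-- Burnside: a Sylow 2-subgroup in the centre of its normalizer. -/
theorem solvable_of_normalizer_le (FT : FTh.{u}) {G : Type u} [Group G] [Finite G] (P : Sylow 2 G)
    (hP : normalizer (P : Set G) ≤ centralizer (P : Set G)) : Group.IsSolvable G := by
  have hc := MonoidHom.ker_transferSylow_isComplement' P hP
  set K := (MonoidHom.transferSylow P hP).ker with hK
  have hKn : K.Normal := inferInstance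
  have h3 : K.index = Nat.card P := hc.symm.index_eq_card
  have h31 : (P : Subgroup G).index = Nat.card K := hc.index_eq_card
  have hKo : Odd (Nat.card K) := by
    rw [← Nat.not_even_iff_odd, even_iff_two_dvd, ← h31]
    exact P.not_dvd_index
  apply solvable_of_quot K (FT K hKo)
  have h8 : IsPGroup 2 (G ⧸ K) := by
    obtain ⟨n, hn⟩ := IsPGroup.iff_card.mp P.isPGroup'
    apply IsPGroup.of_card (n := n)
    rw [← hn, ← h3]
    rfl
  have : Group.IsNilpotent (G ⧸ K) := h8.isNilpotent
  infer_instance

theorem solvable_of_cyclic (FT : FTh.{u}) {G : Type u} [Group G] [Finite G]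
    (P : Sylow 2 G) (hP : IsCyclic P) : Group.IsSolvable G := by
  by_cases h2 : 2 ∣ Nat.card G
  · have hmin : (Nat.card G).minFac = 2 := Nat.minFac_eq_two_iff _ |>.mpr h2
    exact solvable_of_normalizer_le FT P (hP.normalizer_le_centralizer hmin)
  · exact FT G (by rwa [← Nat.not_even_iff_odd, even_iff_two_dvd])

/-- The image of a Sylow 2-subgroup modulo a solvable normal subgroup is cyclic. -/
theorem solvable_of_cyclic_map (FT : FTh.{u}) {G : Type u} [Group G] [Finite G] (N : Subgroup G) [N.Normal]
    (hN : Group.IsSolvable N) (S : Sylow 2 G)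
    (hS : IsCyclic ((S : Subgroup G).map (QuotientGroup.mk' N))) : Group.IsSolvable G := by
  apply solvable_of_quot N hN
  exact solvable_of_cyclic FT (S.mapSurjective (QuotientGroup.mk'_surjective N)) hS

theorem solvable_of_sylow_le (FT : FTh.{u}) {G : Type u} [Group G] [Finite G] (N : Subgroup G) [N.Normal]
    (hN : Group.IsSolvable N) (S : Sylow 2 G) (hS : (S : Subgroup G) ≤ N) : Group.IsSolvable G := by
  apply solvable_of_cyclic_map FT N hN S
  have h1 : (S : Subgroup G).map (QuotientGroup.mk' N) = ⊥ := by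
    rw [Subgroup.map_eq_bot_iff, QuotientGroup.ker_mk']
    exact hS
  rw [h1]
  infer_instance

theorem solvable_of_not_four_dvd (FT : FTh.{u}) {G : Type u} [Group G] [Finite G]
    (h : ¬ 4 ∣ Nat.card G) : Group.IsSolvable G := by
  obtain ⟨P⟩ : Nonempty (Sylow 2 G) := Sylow.nonempty
  apply solvable_of_cyclic FT P
  obtain ⟨n, hn⟩ := IsPGroup.iff_card.mp P.isPGroup'
  have h1 : Nat.card P ∣ Nat.card G := (P : Subgroup G).card_subgroup_dvd_card
  have hn1 : n ≤ 1 := by
    by_contra hcon
    exact h ((show (4 : ℕ) ∣ 2 ^ n from by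
      obtain ⟨m, rfl⟩ : ∃ m, n = m + 2 := ⟨n - 2, by omega⟩
      exact ⟨2 ^ m, by ring⟩).trans (hn ▸ h1))
  interval_cases n
  · have : Subsingleton P := (Nat.card_eq_one_iff_unique.1 (by simpa using hn)).1
    infer_instance
  · exact isCyclic_of_prime_card (p := 2) (by simpa using hn)

/-- Two elements that are involutions modulo a solvable normal subgroup generate a solvable group with
it. -/
theorem solvable_dihedral {G : Type*} [Group G] {t s : G} (ht : t * t = 1) (hs : s * s = 1) :
    Group.IsSolvable (closure {t, s} : Subgroup G) := by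
  set D := (closure {t, s} : Subgroup G) with hD
  have htD : t ∈ D := subset_closure (by simp)
  have hsD : s ∈ D := subset_closure (by simp)
  set N := (zpowers (t * s)) with hN
  have ht' : t⁻¹ = t := inv_eq_of_mul_eq_one_left ht
  have hs' : s⁻¹ = s := inv_eq_of_mul_eq_one_left hs
  -- `N` is normalized by the generators
  have hnorm : D ≤ normalizer (N : Set G) := by
    rw [hD, closure_le]
    have key : ∀ g : G, g * g = 1 → g * (t * s) * g⁻¹ = (t * s)⁻¹ → g ∈ normalizer (N : Set G) := by
      intro g hg hgt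
      have hg' : g⁻¹ = g := inv_eq_of_mul_eq_one_left hg
      have h1 : ∀ x ∈ N, g * x * g⁻¹ ∈ N := by
        rintro x ⟨k, rfl⟩
        refine ⟨-k, ?_⟩
        change (t * s) ^ (-k) = g * (t * s) ^ k * g⁻¹
        rw [← conj_zpow, hgt, inv_zpow, zpow_neg]
      rw [mem_normalizer_iff]
      intro x
      refine ⟨h1 x, fun hx => ?_⟩
      have := h1 _ hx
      rw [hg'] at this
      have h2 : g * (g * x * g) * g = x := by
        calc g * (g * x * g) * g = (g * g) * x * (g * g) := by group
          _ = x := by rw [hg]; group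
      rwa [h2] at this
    intro g hg
    rcases hg with rfl | hg
    · apply key _ ht
      rw [mul_inv_rev, ht', hs', ← mul_assoc, ht, one_mul]
    · rw [Set.mem_singleton_iff] at hg
      subst hg
      apply key _ hs
      rw [mul_inv_rev, ht', hs', mul_assoc, mul_assoc, hs, mul_one]
  have hn : (N.subgroupOf D).Normal := normal_subgroupOf_of_le_normalizer hnorm
  have h1 : Group.IsSolvable (N.subgroupOf D) := by
    apply solvable_of_comm
    rintro ⟨x, hx⟩ ⟨y, hy⟩
    apply Subtype.ext
    apply Subtype.ext
    obtain ⟨i, hi⟩ := mem_zpowers_iff.1 (mem_subgroupOf.1 hx)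
    obtain ⟨j, hj⟩ := mem_zpowers_iff.1 (mem_subgroupOf.1 hy)
    change (x : G) * (y : G) = y * x
    rw [← hi, ← hj]
    exact (Commute.refl (t * s)).zpow_zpow i j
  apply solvable_of_quot (N.subgroupOf D) h1
  -- the quotient is generated by the image of `t`
  have h2 : ∀ x : D ⧸ N.subgroupOf D, x ∈ zpowers (QuotientGroup.mk' (N.subgroupOf D) ⟨t, htD⟩) := by
    intro x
    obtain ⟨⟨x, hx⟩, rfl⟩ := QuotientGroup.mk'_surjective _ x
    have hts : QuotientGroup.mk' (N.subgroupOf D) ⟨s, hsD⟩ = QuotientGroup.mk' (N.subgroupOf D) ⟨t, htD⟩ := by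
      rw [QuotientGroup.mk'_apply, QuotientGroup.mk'_apply, eq_comm, QuotientGroup.eq]
      rw [mem_subgroupOf]
      change t⁻¹ * s ∈ N
      rw [ht']
      exact mem_zpowers _
    have hx' := hx
    rw [hD] at hx'
    refine closure_induction (p := fun y hy => QuotientGroup.mk' (N.subgroupOf D) ⟨y, hD ▸ hy⟩ ∈
      zpowers (QuotientGroup.mk' (N.subgroupOf D) ⟨t, htD⟩)) ?_ ?_ ?_ ?_ hx'
    · rintro y (rfl | hy)
      · exact mem_zpowers _
      · rw [Set.mem_singleton_iff] at hy
        subst hy
        rw [hts]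
        exact mem_zpowers _
    · exact one_mem _
    · intro y z hy hz h3 h4
      exact mul_mem h3 h4
    · intro y hy h3
      exact inv_mem h3
  have h3 : IsCyclic (D ⧸ N.subgroupOf D) := ⟨⟨_, h2⟩⟩
  exact solvable_of_comm fun a b => (h3.commGroup.mul_comm a b)

end Cfsg.Agent.H577
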