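import Cfsg.Agent.H577.CARadEnd
import Cfsg.Agent.SignalizersComponents.ComponentExists
import Cfsg.Agent.SignalizersComponents.Components

/-!
# Minimal non-CA groups: the component
-/

set_option autoImplicit false

namespace Cfsg.Agent.H577

open Subgroup Cfsg
open Cfsg.Agent.SignalizersComponents.ComponentExists
open Cfsg.Agent.SignalizersComponents.Components

universe u

variable {G : Type u} [Group G]

/-- **B.** There is a quasisimple normal subgroup `L` with `C_G(L) = Z(G)`. -/
theorem exists_comp [Finite G] (FT : FTh.{u}) (hm : MinCA G) (hns : ¬ Group.IsSolvable G) :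
    ∃ L : Subgroup G, L.Normal ∧ IsQuasisimple L ∧ centralizer (L : Set G) = center G := by
  have hfit : fittingSubgroup G ≤ center G := by
    refine sSup_le ?_
    rintro N ⟨hN, hnil⟩
    exact solvable_le_center FT hm hns N hN inferInstance
  obtain ⟨K, hK, -⟩ := exists_isComponent_le (G := G) (C := ⊤) IsSubnormal.top (by
      intro h
      exact hns (solvable_top_iff.1 h)) (by
      intro x _
      rw [mem_centralizer_iff]
      intro y hy
      exact (mem_center_iff.1 (hfit hy) x).symm)
  have hKns := not_isSolvable_of_isQuasisimple hK.2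
  set C := centralizer (K : Set G) with hC
  have hmd : ∀ {x e : G}, x ∈ C → e ∈ K → Commute x e := fun {x e} hx he =>
    (mem_centralizer_iff.1 hx e he).symm
  -- `C(K)` is abelian
  have hCab : ∀ a ∈ C, ∀ b ∈ C, Commute a b := by
    by_contra hcon
    push Not at hcon
    obtain ⟨a, ha, b, hb, hab⟩ := hcon
    obtain ⟨Q⟩ : Nonempty (Sylow 2 K) := Sylow.nonempty
    set L₀ : Subgroup K := normalizer (Q : Set K) with hL₀
    have hL₀top : L₀ ≠ ⊤ := by
      intro h
      have hQn : (Q : Subgroup K).Normal := normalizer_eq_top_iff.1 h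
      exact hKns (solvable_of_sylow_le FT (Q : Subgroup K) (solvable_of_isPGroup Q.isPGroup') Q le_rfl)
    obtain ⟨u, hu, v, hv, huv⟩ : ∃ u ∈ L₀, ∃ v ∈ L₀, ¬ Commute u v := by
      by_contra hcon
      push Not at hcon
      apply hKns
      apply solvable_of_normalizer_le FT Q
      intro x hx
      rw [mem_centralizer_iff]
      intro q hq
      exact hcon q (le_normalizer hq) x hx
    let H : Subgroup G :=
      { carrier := {g | ∃ l ∈ L₀, ∃ c ∈ C, g = (l : G) * c}
        one_mem' := ⟨1, one_mem _, 1, one_mem _, by simp⟩
        mul_mem' := by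
          rintro _ _ ⟨l, hl, c, hc, rfl⟩ ⟨l', hl', c', hc', rfl⟩
          refine ⟨l * l', mul_mem hl hl', c * c', mul_mem hc hc', ?_⟩
          have := (hmd hc l'.2).eq
          push_cast
          calc (l : G) * c * (l' * c') = l * (c * l') * c' := by group
            _ = (l : G) * l' * (c * c') := by rw [this]; group
        inv_mem' := by
          rintro _ ⟨l, hl, c, hc, rfl⟩
          refine ⟨l⁻¹, inv_mem hl, c⁻¹, inv_mem hc, ?_⟩
          have := (hmd (inv_mem hc) (l⁻¹).2).eq
          rw [mul_inv_rev, ← this, coe_inv] }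
    have hHtop : H ≠ ⊤ := by
      intro h
      apply hL₀top
      rw [eq_top_iff]
      intro k _
      have hk : (k : G) ∈ H := by rw [h]; exact mem_top _
      obtain ⟨l, hl, c, hc, hlc⟩ := hk
      have h1 : c = ((l⁻¹ * k : K) : G) := by
        push_cast
        rw [hlc]; group
      have h2 : l⁻¹ * k ∈ center K := by
        rw [mem_center_iff]
        intro y
        apply Subtype.ext
        have := (hmd hc y.2).eq
        rw [h1] at this
        exact this.symm
      have h3 : k = l * (l⁻¹ * k) := by group
      rw [h3]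
      exact mul_mem hl (center_le_normalizer _ h2)
    have huH : (u : G) ∈ H := ⟨u, hu, 1, one_mem _, by simp⟩
    have hvH : (v : G) ∈ H := ⟨v, hv, 1, one_mem _, by simp⟩
    have haH : a ∈ H := ⟨1, one_mem _, a, ha, by simp⟩
    have hbH : b ∈ H := ⟨1, one_mem _, b, hb, by simp⟩
    have h1 := hm.fact hHtop huH haH hbH (hmd ha u.2) (hmd hb u.2) hab hvH
    exact huv (Subtype.ext h1.symm.eq)
  -- `K` is normal
  have hKn : K.Normal := by
    refine ⟨fun n hn g => ?_⟩
    by_contra hcon
    have hK' : IsComponent (K.map (MulAut.conj g).toMonoidHom) := isComponent_conj g hK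
    have hne : K.map (MulAut.conj g).toMonoidHom ≠ K := by
      intro h
      apply hcon
      rw [← h]
      exact ⟨n, hn, rfl⟩
    have h1 := component_le_centralizer_of_ne hK' hK hne
    exact not_isSolvable_of_isQuasisimple hK'.2 (solvable_of_le h1 (solvable_sub_of_comm hCab))
  refine ⟨K, hKn, hK.2, le_antisymm ?_ ?_⟩
  · have hCn : C.Normal := by rw [hC]; infer_instance
    exact abelian_le_center FT hm hns C hCab
  · intro z hz
    rw [mem_centralizer_iff]
    intro y _
    exact mem_center_iff.1 hz y

end Cfsg.Agent.H577
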