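import Cfsg.Agent.H577.CADih

/-!
# Minimal non-CA groups: eliminations
-/

set_option autoImplicit false

namespace Cfsg.Agent.H577

open Subgroup Cfsg

universe u

variable {G : Type u} [Group G]

/-- **Elimination.** The fact on proper subgroups, in terms of `L / Z(L)`. -/
theorem elim (hm : MinCA G) (L : Subgroup G) (N : Subgroup (L ⧸ center L)) (hN : N ≠ ⊤)
    {x a b y : L} (hx : QuotientGroup.mk' (center L) x ∈ N) (ha : QuotientGroup.mk' (center L) a ∈ N)
    (hb : QuotientGroup.mk' (center L) b ∈ N) (hy : QuotientGroup.mk' (center L) y ∈ N)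
    (hax : Commute a x) (hbx : Commute b x) (hab : ¬ Commute a b) : Commute y x := by
  set M := (N.comap (QuotientGroup.mk' (center L))).map L.subtype with hM
  have hMtop : M ≠ ⊤ := by
    intro h
    apply hN
    rw [eq_top_iff]
    intro w _
    obtain ⟨v, rfl⟩ := QuotientGroup.mk'_surjective _ w
    have h1 : (v : G) ∈ M := by rw [h]; exact mem_top _
    obtain ⟨v', hv', hvv⟩ := h1
    have h2 : v' = v := Subtype.ext hvv
    rw [← h2]
    exact hv'
  have hc : ∀ u v : L, Commute u v ↔ Commute (u : G) (v : G) := fun u v =>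
    ⟨fun k => congrArg Subtype.val k, fun k => Subtype.ext k⟩
  have hab' : ¬ Commute (a : G) (b : G) := fun k => hab ((hc a b).2 k)
  exact (hc y x).2 (hm.fact hMtop ⟨x, hx, rfl⟩ ⟨a, ha, rfl⟩ ⟨b, hb, rfl⟩ ((hc a x).1 hax)
    ((hc b x).1 hbx) hab' ⟨y, hy, rfl⟩)

/-- **Burnside's fusion theorem.** -/
theorem burnside_fusion {T : Type*} [Group T] [Finite T] {p : ℕ} [Fact p.Prime] (P : Sylow p T)
    {x g : T} (hx : ∀ y ∈ (P : Subgroup T), Commute y x)
    (hx' : ∀ y ∈ (P : Subgroup T), Commute y (g * x * g⁻¹)) :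
    ∃ n ∈ normalizer (P : Set T), n * x * n⁻¹ = g * x * g⁻¹ := by
  have hP : (P : Subgroup T) ≤ centralizer ({g * x * g⁻¹} : Set T) := fun y hy =>
    mem_centralizer_singleton_iff.2 (hx' y hy)
  have hgP : ((g • P : Sylow p T) : Subgroup T) ≤ centralizer ({g * x * g⁻¹} : Set T) := by
    intro y hy
    rw [Sylow.smul_def] at hy
    obtain ⟨w, hw, rfl⟩ := hy
    rw [mem_centralizer_singleton_iff]
    have h1 : w * x = x * w := hx w hw
    change g * w * g⁻¹ * (g * x * g⁻¹) = g * x * g⁻¹ * (g * w * g⁻¹)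
    calc g * w * g⁻¹ * (g * x * g⁻¹) = g * (w * x) * g⁻¹ := by group
      _ = g * x * g⁻¹ * (g * w * g⁻¹) := by rw [h1]; group
  obtain ⟨c, hc⟩ := MulAction.exists_smul_eq (centralizer ({g * x * g⁻¹} : Set T))
    ((g • P).subtype hgP) (P.subtype hP)
  have hle : (P : Subgroup T).map (MulAut.conj ((c : T) * g)).toMonoidHom ≤ P := by
    rintro _ ⟨y, hy, rfl⟩
    have h1 : g * y * g⁻¹ ∈ ((g • P : Sylow p T) : Subgroup T) := by
      rw [Sylow.smul_def]
      exact ⟨y, hy, rfl⟩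
    have h2 : c * ⟨g * y * g⁻¹, hgP h1⟩ * c⁻¹ ∈ (P.subtype hP : Subgroup _) := by
      rw [← hc, Sylow.smul_def]
      exact ⟨⟨g * y * g⁻¹, hgP h1⟩, h1, rfl⟩
    have h3 : (c : T) * (g * y * g⁻¹) * (c : T)⁻¹ ∈ (P : Subgroup T) := h2
    change (c : T) * g * y * ((c : T) * g)⁻¹ ∈ (P : Subgroup T)
    have h4 : (c : T) * g * y * ((c : T) * g)⁻¹ = (c : T) * (g * y * g⁻¹) * (c : T)⁻¹ := by group
    rw [h4]
    exact h3
  have heq : (P : Subgroup T).map (MulAut.conj ((c : T) * g)).toMonoidHom = P := by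
    apply Subgroup.eq_of_le_of_card_ge hle
    rw [card_map_of_injective (MulAut.conj ((c : T) * g)).injective]
  refine ⟨(c : T) * g, ?_, ?_⟩
  · change (c : T) * g ∈ normalizer ((P : Subgroup T) : Set T)
    rw [mem_normalizer_iff]
    intro y
    refine ⟨fun hy => hle ⟨y, hy, rfl⟩, fun hy => ?_⟩
    have hy' : (c : T) * g * y * ((c : T) * g)⁻¹ ∈
        (P : Subgroup T).map (MulAut.conj ((c : T) * g)).toMonoidHom := by
      rw [heq]; exact hy
    obtain ⟨w, hw, hwy⟩ := hy'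
    have : w = y := (MulAut.conj ((c : T) * g)).injective hwy
    rwa [← this]
  · have h1 : (c : T) * (g * x * g⁻¹) = g * x * g⁻¹ * c := mem_centralizer_singleton_iff.1 c.2
    calc (c : T) * g * x * ((c : T) * g)⁻¹ = ((c : T) * (g * x * g⁻¹)) * (c : T)⁻¹ := by group
      _ = g * x * g⁻¹ := by rw [h1, mul_inv_cancel_right]

/-- lifts of commuting elements of coprime orders commute -/
theorem commute_lift {X : Type*} [Group X] {t c : X} {m : ℕ} (hm : Odd m)
    (ht : t * t ∈ center X) (hc : c ^ m ∈ center X) (htc : t * c * t⁻¹ * c⁻¹ ∈ center X) :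
    Commute t c := by
  have hzc : ∀ {z : X}, z ∈ center X → ∀ g, g * z = z * g := fun {z} hz g => mem_center_iff.1 hz g
  set ζ := t * c * t⁻¹ * c⁻¹ with hζ
  have h1 : t * c * t⁻¹ = ζ * c := by rw [hζ]; group
  have h2 : ζ ^ 2 = 1 := by
    have h3 : t * (t * c * t⁻¹) * t⁻¹ = c := by
      calc t * (t * c * t⁻¹) * t⁻¹ = (t * t) * c * (t * t)⁻¹ := by group
        _ = c := by rw [← hzc ht c, mul_inv_cancel_right]
    have h4 : t * (t * c * t⁻¹) * t⁻¹ = ζ * ζ * c := by
      calc t * (t * c * t⁻¹) * t⁻¹ = (t * ζ) * c * t⁻¹ := by rw [h1]; group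
        _ = ζ * (t * c * t⁻¹) := by rw [hzc htc t]; group
        _ = ζ * ζ * c := by rw [h1]; exact (mul_assoc ζ ζ c).symm
    have h5 : ζ * ζ * c = 1 * c := by rw [← h4, h3, one_mul]
    rw [pow_two]
    exact mul_right_cancel h5
  have h3 : ζ ^ m = 1 := by
    have h4 : t * c ^ m * t⁻¹ = c ^ m := by rw [hzc hc t, mul_inv_cancel_right]
    have h5 : t * c ^ m * t⁻¹ = ζ ^ m * c ^ m := by
      rw [← conj_pow, h1]
      have h6 : Commute ζ c := (hzc htc c).symm
      exact h6.mul_pow m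
    have h6 : ζ ^ m * c ^ m = 1 * c ^ m := by rw [← h5, h4, one_mul]
    exact mul_right_cancel h6
  have h4 : orderOf ζ = 1 := Nat.eq_one_of_dvd_coprimes (Nat.coprime_two_left.2 hm)
    (orderOf_dvd_of_pow_eq_one h2) (orderOf_dvd_of_pow_eq_one h3)
  have h5 : ζ = 1 := orderOf_eq_one_iff.1 h4
  rw [h5, one_mul] at h1
  change t * c = c * t
  calc t * c = (t * c * t⁻¹) * t := by group
    _ = c * t := by rw [h1]

/-- an element of odd order centralizing `t` and acting nontrivially on an abelian Sylow subgroup -/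
theorem exists_odd_action (FT : FTh.{u}) {T : Type u} [Group T] [Finite T] (P : Sylow 2 T)
    (hP : ∀ a ∈ (P : Subgroup T), ∀ b ∈ (P : Subgroup T), a * b = b * a) {t : T}
    (ht : t ∈ (P : Subgroup T)) (hC : ¬ Group.IsSolvable (centralizer ({t} : Set T))) :
    ∃ c ∈ normalizer (P : Set T), Commute c t ∧ Odd (orderOf c) ∧
      ∃ v ∈ (P : Subgroup T), c * v * c⁻¹ ≠ v := by
  have : Fact (Nat.Prime 2) := ⟨Nat.prime_two⟩
  set C := centralizer ({t} : Set T) with hCdef
  have hPC : (P : Subgroup T) ≤ C := fun x hx => mem_centralizer_singleton_iff.2 (hP x hx t ht)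
  have h1 : ¬ normalizer ((P.subtype hPC : Sylow 2 C) : Set C) ≤
      centralizer ((P.subtype hPC : Sylow 2 C) : Set C) := fun h =>
    hC (solvable_of_normalizer_le FT _ h)
  obtain ⟨x, hx, hxc⟩ := SetLike.not_le_iff_exists.1 h1
  rw [mem_centralizer_iff] at hxc
  push Not at hxc
  obtain ⟨v, hv, hvx⟩ := hxc
  have hvP : (v : T) ∈ (P : Subgroup T) := hv
  have hxN : ∀ y ∈ (P : Subgroup T), (x : T) * y * (x : T)⁻¹ ∈ (P : Subgroup T) := fun y hy =>
    (mem_normalizer_iff.1 hx ⟨y, hPC hy⟩).1 hy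
  have hxN' : (x : T) ∈ normalizer (P : Set T) := by
    have hle : (P : Subgroup T).map (MulAut.conj (x : T)).toMonoidHom ≤ P := by
      rintro _ ⟨y, hy, rfl⟩
      exact hxN y hy
    have heq : (P : Subgroup T).map (MulAut.conj (x : T)).toMonoidHom = P := by
      apply Subgroup.eq_of_le_of_card_ge hle
      rw [card_map_of_injective (MulAut.conj (x : T)).injective]
    change (x : T) ∈ normalizer ((P : Subgroup T) : Set T)
    rw [mem_normalizer_iff]
    intro y
    refine ⟨fun hy => hxN y hy, fun hy => ?_⟩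
    have hy' : (x : T) * y * (x : T)⁻¹ ∈ (P : Subgroup T).map (MulAut.conj (x : T)).toMonoidHom := by
      rw [heq]; exact hy
    obtain ⟨w, hw, hwy⟩ := hy'
    have : w = y := (MulAut.conj (x : T)).injective hwy
    rwa [← this]
  have hxt : Commute (x : T) t := mem_centralizer_singleton_iff.1 x.2
  have hvx' : ¬ Commute (x : T) v := fun h => hvx (Subtype.ext h.symm)
  -- the odd part
  obtain ⟨n, m, hmo, hnm⟩ := Nat.exists_eq_two_pow_mul_odd (orderOf_pos (x : T)).ne'
  have hcop : Nat.Coprime (2 ^ n) m := (Nat.coprime_two_left.2 hmo).pow_left n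
  have h2 : (x : T) ^ m ∈ (P : Subgroup T) := by
    have h3 : IsPGroup 2 (zpowers ((x : T) ^ m)) := by
      rw [IsPGroup.iff_card]
      have h4 : Nat.card (zpowers ((x : T) ^ m)) ∣ 2 ^ n := by
        rw [Nat.card_zpowers]
        apply orderOf_dvd_of_pow_eq_one
        rw [← pow_mul, mul_comm, ← hnm, pow_orderOf_eq_one]
      obtain ⟨k, -, hk⟩ := (Nat.dvd_prime_pow Nat.prime_two).1 h4
      exact ⟨k, hk⟩
    have h4 : zpowers ((x : T) ^ m) ≤ normalizer (P : Set T) := by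
      rw [zpowers_le]
      exact pow_mem hxN' m
    have h5 : IsPGroup 2 (zpowers ((x : T) ^ m) ⊔ (P : Subgroup T) : Subgroup T) :=
      h3.to_sup_of_normal_right' P.isPGroup' h4
    have h6 : (zpowers ((x : T) ^ m) ⊔ (P : Subgroup T) : Subgroup T) = P :=
      P.3 h5 le_sup_right
    rw [← h6]
    exact (le_sup_left : zpowers ((x : T) ^ m) ≤ _) (mem_zpowers _)
  refine ⟨(x : T) ^ 2 ^ n, pow_mem hxN' _, hxt.pow_left _, ?_, v, hvP, ?_⟩
  · apply hmo.of_dvd_nat
    apply orderOf_dvd_of_pow_eq_one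
    rw [← pow_mul, ← hnm, pow_orderOf_eq_one]
  · intro h
    apply hvx'
    have h3 : Commute ((x : T) ^ 2 ^ n) v := by
      change (x : T) ^ 2 ^ n * v = v * (x : T) ^ 2 ^ n
      calc (x : T) ^ 2 ^ n * v = ((x : T) ^ 2 ^ n * v * ((x : T) ^ 2 ^ n)⁻¹) * (x : T) ^ 2 ^ n := by
            group
        _ = v * (x : T) ^ 2 ^ n := by rw [h]
    have h4 : Commute ((x : T) ^ m) v := hP _ h2 _ hvP
    have h5 : (1 : ℤ) = (2 ^ n : ℕ) * Int.gcdA (2 ^ n : ℕ) m + m * Int.gcdB (2 ^ n : ℕ) m := by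
      rw [← Int.gcd_eq_gcd_ab (2 ^ n : ℕ) (m : ℕ)]
      have : Int.gcd (2 ^ n : ℕ) (m : ℕ) = 1 := by
        rw [Int.gcd_natCast_natCast]; exact hcop
      rw [this]; rfl
    have h6 : (x : T) = ((x : T) ^ (2 ^ n)) ^ (Int.gcdA (2 ^ n : ℕ) m) *
        ((x : T) ^ m) ^ (Int.gcdB (2 ^ n : ℕ) m) := by
      conv_lhs => rw [← zpow_one (x : T), h5, zpow_add, zpow_mul, zpow_mul, zpow_natCast,
        zpow_natCast]
    rw [h6]
    exact (h3.zpow_left _).mul_left (h4.zpow_left _)

/-- In a simple group, an involution of an abelian Sylow 2-subgroup `P` is not central in `N(P)`. -/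
theorem exists_normalizer_not_commute (FT : FTh.{u}) {T : Type u} [Group T] [Finite T]
    [IsSimpleGroup T] (hns : ¬ Group.IsSolvable T) (P : Sylow 2 T)
    (hP : ∀ a ∈ (P : Subgroup T), ∀ b ∈ (P : Subgroup T), a * b = b * a) {t : T}
    (ht : t ∈ (P : Subgroup T)) (ht1 : t ≠ 1) (ht2 : t * t = 1) :
    ∃ n ∈ normalizer (P : Set T), ¬ Commute n t := by
  by_contra hcon
  push Not at hcon
  have hord : orderOf t = 2 := orderOf_eq_prime (by rw [pow_two]; exact ht2) ht1
  have hiso : ∀ g : T, g * t * g⁻¹ ∈ (P : Subgroup T) → g * t * g⁻¹ = t := by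
    intro g hg
    obtain ⟨n, hn, hnt⟩ := burnside_fusion P (fun y hy => hP y hy t ht)
      (fun y hy => hP y hy _ hg)
    rw [← hnt, (hcon n hn).eq, mul_inv_cancel_right]
  obtain ⟨N, hN, hNo, hNt⟩ := Cfsg.Agent.S0215.result P t hord ht hiso
  rcases hN.eq_bot_or_eq_top with h | h
  · -- `t` is central
    have h1 : ∀ g : T, Commute t g := by
      intro g
      have h2 := hNt g
      rw [h, mem_bot] at h2
      change t * g = g * t
      calc t * g = (t * g * t⁻¹ * g⁻¹) * g * t := by group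
        _ = g * t := by rw [h2, one_mul]
    have h2 : t ∈ center T := mem_center_iff.2 fun g => (h1 g).symm
    rcases (inferInstance : (center T).Normal).eq_bot_or_eq_top with h3 | h3
    · rw [h3, mem_bot] at h2
      exact ht1 h2
    · apply hns
      apply solvable_of_comm
      intro a b
      have h4 : b ∈ center T := h3 ▸ mem_top b
      exact mem_center_iff.1 h4 a
  · apply hns
    rw [← solvable_top_iff, ← h]
    exact FT N hNo

/-- **Janko-Ree type is impossible.** -/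
theorem false_of_centralizer_nonsolvable [Finite G] (FT : FTh.{u}) (hm : MinCA G) (L : Subgroup G)
    (hL : IsQuasisimple L) (P : Sylow 2 (L ⧸ center L))
    (hP : ∀ a ∈ (P : Subgroup (L ⧸ center L)), ∀ b ∈ (P : Subgroup (L ⧸ center L)), a * b = b * a)
    {t : L ⧸ center L} (ht : t ∈ (P : Subgroup (L ⧸ center L))) (ht1 : t ≠ 1) (ht2 : t * t = 1)
    (hC : ¬ Group.IsSolvable (centralizer ({t} : Set (L ⧸ center L)))) : False := by
  set q := QuotientGroup.mk' (center L) with hq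
  have hker : ∀ x : L, q x = 1 ↔ x ∈ center L := fun x => QuotientGroup.eq_one_iff x
  have hqs : Function.Surjective q := QuotientGroup.mk'_surjective _
  have hsim : IsSimpleGroup (L ⧸ center L) := hL.2
  have hTns : ¬ Group.IsSolvable (L ⧸ center L) := by
    intro h
    exact hC (solvable_of_le le_top (solvable_top_iff.2 h))
  obtain ⟨c, hcN, hct, hco, v, hv, hcv⟩ := exists_odd_action FT P hP ht hC
  obtain ⟨n, hnN, hnt⟩ := exists_normalizer_not_commute FT hTns P hP ht ht1 ht2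
  have hvt : v * t = t * v := hP v hv t ht
  set w := c * v * c⁻¹ * v⁻¹ with hw
  have hwP : w ∈ (P : Subgroup (L ⧸ center L)) :=
    mul_mem ((mem_normalizer_iff.1 hcN v).1 hv) (inv_mem hv)
  have hcw : ¬ Commute c w := by
    intro h
    have h1 : c * v * c⁻¹ = w * v := by rw [hw]; group
    have hit : ∀ k : ℕ, c ^ k * v * (c ^ k)⁻¹ = w ^ k * v := by
      intro k
      induction k with
      | zero => simp
      | succ k ih =>
        calc c ^ (k + 1) * v * (c ^ (k + 1))⁻¹ = c * (c ^ k * v * (c ^ k)⁻¹) * c⁻¹ := by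
              rw [pow_succ']; group
          _ = (c * w ^ k) * v * c⁻¹ := by rw [ih]; group
          _ = w ^ k * (c * v * c⁻¹) := by rw [(h.pow_right k).eq]; group
          _ = w ^ (k + 1) * v := by rw [h1, pow_succ, ← mul_assoc]
    have h2 := hit (orderOf c)
    rw [pow_orderOf_eq_one, one_mul, inv_one, mul_one] at h2
    have h3 : w ^ orderOf c = 1 := by
      have : w ^ orderOf c * v = 1 * v := by rw [← h2, one_mul]
      exact mul_right_cancel this
    obtain ⟨k, hk⟩ := P.isPGroup' ⟨w, hwP⟩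
    have h4 : w ^ 2 ^ k = 1 := congrArg Subtype.val hk
    have h5 : orderOf w = 1 := Nat.eq_one_of_dvd_coprimes ((Nat.coprime_two_right.2 hco).pow_right k)
      (orderOf_dvd_of_pow_eq_one h3) (orderOf_dvd_of_pow_eq_one h4)
    have h6 : w = 1 := orderOf_eq_one_iff.1 h5
    rw [h6, one_mul] at h1
    exact hcv h1
  -- lifts
  obtain ⟨t₁, rfl⟩ := hqs t
  obtain ⟨c₁, rfl⟩ := hqs c
  obtain ⟨v₁, rfl⟩ := hqs v
  obtain ⟨n₁, rfl⟩ := hqs n
  have htc : Commute t₁ c₁ := by
    refine commute_lift hco ?_ ?_ ?_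
    · rw [← hker, map_mul]; exact ht2
    · rw [← hker, map_pow]; exact pow_orderOf_eq_one _
    · rw [← hker, map_mul, map_mul, map_mul, map_inv, map_inv, ← hct.eq]; group
  have hη : t₁ * v₁ * t₁⁻¹ * v₁⁻¹ ∈ center L := by
    rw [← hker, map_mul, map_mul, map_mul, map_inv, map_inv, ← hvt]; group
  set η := t₁ * v₁ * t₁⁻¹ * v₁⁻¹ with hηdef
  have h1 : t₁ * v₁ * t₁⁻¹ = η * v₁ := by rw [hηdef]; group
  set w₁ := c₁ * v₁ * c₁⁻¹ * v₁⁻¹ with hw₁
  have htw : Commute w₁ t₁ := by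
    have h2 : t₁ * w₁ * t₁⁻¹ = w₁ := by
      have h3 : t₁ * c₁ * t₁⁻¹ = c₁ := by rw [htc.eq, mul_inv_cancel_right]
      calc t₁ * w₁ * t₁⁻¹ = (t₁ * c₁ * t₁⁻¹) * (t₁ * v₁ * t₁⁻¹) * (t₁ * c₁ * t₁⁻¹)⁻¹ *
            (t₁ * v₁ * t₁⁻¹)⁻¹ := by rw [hw₁]; group
        _ = (c₁ * η) * v₁ * c₁⁻¹ * (v₁⁻¹ * η⁻¹) := by rw [h1, h3]; group
        _ = η * (c₁ * v₁ * c₁⁻¹ * (v₁⁻¹ * η⁻¹)) := by rw [mem_center_iff.1 hη c₁]; group
        _ = (c₁ * v₁ * c₁⁻¹ * (v₁⁻¹ * η⁻¹)) * η := (mem_center_iff.1 hη _).symm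
        _ = w₁ := by rw [hw₁]; group
    change w₁ * t₁ = t₁ * w₁
    calc w₁ * t₁ = (t₁ * w₁ * t₁⁻¹) * t₁ := by rw [h2]
      _ = t₁ * w₁ := by group
  have hqw : q w₁ = w := by
    rw [hw₁, hw, map_mul, map_mul, map_mul, map_inv, map_inv]
  have hcw₁ : ¬ Commute c₁ w₁ := by
    intro h
    apply hcw
    have := h.map q
    rwa [hqw] at this
  have hNtop : normalizer (P : Set (L ⧸ center L)) ≠ ⊤ := by
    intro h
    have hPn : (P : Subgroup (L ⧸ center L)).Normal := normalizer_eq_top_iff.1 h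
    exact hTns (solvable_of_sylow_le FT (P : Subgroup (L ⧸ center L))
      (solvable_of_isPGroup P.isPGroup') P le_rfl)
  have hPN : (P : Subgroup (L ⧸ center L)) ≤ normalizer (P : Set (L ⧸ center L)) := le_normalizer
  have h5 := elim hm L _ hNtop (x := t₁) (a := c₁) (b := w₁) (y := n₁) (hPN ht) hcN
    (by rw [← hq, hqw]; exact hPN hwP) hnN htc.symm htw hcw₁
  exact hnt (h5.map q)

end Cfsg.Agent.H577
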