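import Cfsg.Agent.H577.PslAutTwo

/-!
# `Few` groups between `PSL(2, q)`, `q` odd, and its automorphism group
-/

set_option autoImplicit false
set_option linter.unusedSectionVars false

namespace Cfsg.Agent.H577

open Matrix Subgroup
open Cfsg.Agent.ClassicalGeometry.AutPSL.Root (pr pr_surjective)
open Cfsg.Agent.ClassicalGeometry.AutPSL.Auto (cj fld lift itr coe_cj coe_fld_apply lift_pr)
open Cfsg.Agent.ClassicalGeometry.AutPSL.Main (cj_eq_one_of_scalar injective_aux surj_two surj_three)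
open Psl2

variable {F : Type*} [Field F] [Fintype F]

theorem det_gl_ne (A : GL (Fin 2) F) : (A : Matrix (Fin 2) (Fin 2) F).det ≠ 0 := by
  intro h0
  have h1 : (A : Matrix (Fin 2) (Fin 2) F).det * ((A⁻¹ : GL (Fin 2) F) : Matrix (Fin 2) (Fin 2) F).det = 1 := by
    rw [← det_mul, ← Units.val_mul, mul_inv_cancel, Units.val_one, det_one]
  rw [h0, zero_mul] at h1
  exact zero_ne_one h1

theorem det_map (σ : F ≃+* F) (A : GL (Fin 2) F) :
    ((Matrix.GeneralLinearGroup.map (σ : F →+* F) A : GL (Fin 2) F) : Matrix (Fin 2) (Fin 2) F).det =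
      σ (A : Matrix (Fin 2) (Fin 2) F).det := by
  show ((σ : F →+* F).mapMatrix (A : Matrix (Fin 2) (Fin 2) F)).det = _
  rw [← RingHom.map_det]
  rfl

/-- nonsquares: product with a nonsquare -/
theorem isSquare_mul_iff (hodd : Odd (Fintype.card F)) {x y : F} (hx : x ≠ 0) (hy : y ≠ 0) :
    IsSquare (x * y) ↔ (IsSquare x ↔ IsSquare y) := by
  classical
  have h2 := two_ne_zero_of_odd hodd
  have hc : ringChar F ≠ 2 := by
    intro h
    apply h2
    have := ringChar.Nat.cast_ringChar (R := F)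
    rw [h] at this
    exact_mod_cast this
  have e1 := quadraticChar_one_iff_isSquare hx
  have e2 := quadraticChar_one_iff_isSquare hy
  have e3 := quadraticChar_one_iff_isSquare (mul_ne_zero hx hy)
  rw [map_mul] at e3
  rcases quadraticChar_dichotomy hx with h1 | h1 <;> rcases quadraticChar_dichotomy hy with h3 | h3 <;>
    rw [h1] at e1 e3 <;> rw [h3] at e2 e3 <;> simp_all

theorem isSquare_map (σ : F ≃+* F) (x : F) : IsSquare (σ x) ↔ IsSquare x := by
  constructor
  · rintro ⟨y, hy⟩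
    exact ⟨σ.symm y, by apply σ.injective; rw [hy, map_mul, σ.apply_symm_apply]⟩
  · rintro ⟨y, hy⟩
    exact ⟨σ y, by rw [hy, map_mul]⟩

theorem iterate (hodd : Odd (Fintype.card F)) (A : GL (Fin 2) F) (σ : F ≃+* F)
    (hA : ¬ IsSquare (A : Matrix (Fin 2) (Fin 2) F).det) (k : ℕ) :
    ∃ B : GL (Fin 2) F, (cj A * fld σ) ^ k = cj B * fld (σ ^ k) ∧
      (IsSquare (B : Matrix (Fin 2) (Fin 2) F).det ↔ Even k) := by
  induction k with
  | zero =>
    refine ⟨1, by rw [pow_zero, pow_zero, map_one, map_one, one_mul], ?_⟩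
    rw [Units.val_one, det_one]
    simp
  | succ k ih =>
    obtain ⟨B, hB, hsq⟩ := ih
    refine ⟨B * Matrix.GeneralLinearGroup.map ((σ ^ k : F ≃+* F) : F →+* F) A, ?_, ?_⟩
    · rw [pow_succ, hB, mul_assoc, ← mul_assoc (fld (σ ^ k)), fld_mul_cj, pow_succ σ k, map_mul, map_mul]
      simp only [mul_assoc]
    · rw [Units.val_mul, det_mul, det_map, isSquare_mul_iff hodd (det_gl_ne B)
        (by rw [Ne, map_eq_zero_iff _ (σ ^ k).injective]; exact det_gl_ne A), isSquare_map, hsq, Nat.even_add_one]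
      simp [hA]

/-- if `σ` has odd order, there are diagonal automorphisms of nonsquare determinant -/
theorem mem_of_nonsquare (hodd : Odd (Fintype.card F)) {Y : Subgroup (MulAut (P2 F))}
    (hY : ∀ x : P2 F, MulAut.conj x ∈ Y) {A : GL (Fin 2) F} {σ : F ≃+* F} (h : lift (cj A * fld σ) ∈ Y)
    (hA : ¬ IsSquare (A : Matrix (Fin 2) (Fin 2) F).det) (hσ : Odd (orderOf σ)) (B : GL (Fin 2) F)
    (hB : ¬ IsSquare (B : Matrix (Fin 2) (Fin 2) F).det) : lift (cj B) ∈ Y := by
  obtain ⟨C, hC, hsq⟩ := iterate hodd A σ hA (orderOf σ)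
  have h1 : lift (cj C * fld 1) ∈ Y := by
    have h2 := Y.pow_mem h (orderOf σ)
    rw [← map_pow, hC, pow_orderOf_eq_one] at h2
    exact h2
  have hC' : ¬ IsSquare (C : Matrix (Fin 2) (Fin 2) F).det := by
    rw [hsq, Nat.not_even_iff_odd]
    exact hσ
  have h3 : IsSquare ((B : Matrix (Fin 2) (Fin 2) F).det * (C : Matrix (Fin 2) (Fin 2) F).det) := by
    rw [isSquare_mul_iff hodd (det_gl_ne B) (det_gl_ne C)]
    simp [hB, hC']
  obtain ⟨s, hs⟩ := h3
  have h4 := mem_of_det hY (B := B) h1 ⟨s / (C : Matrix (Fin 2) (Fin 2) F).det, by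
    have := det_gl_ne C
    field_simp
    rw [hs]; ring⟩
  rwa [map_one, mul_one] at h4

/-- same with the field automorphism kept -/
theorem mem_of_nonsquare' (hodd : Odd (Fintype.card F)) {Y : Subgroup (MulAut (P2 F))}
    (hY : ∀ x : P2 F, MulAut.conj x ∈ Y) {A : GL (Fin 2) F} {σ : F ≃+* F} (h : lift (cj A * fld σ) ∈ Y)
    (hA : ¬ IsSquare (A : Matrix (Fin 2) (Fin 2) F).det) (B : GL (Fin 2) F)
    (hB : ¬ IsSquare (B : Matrix (Fin 2) (Fin 2) F).det) : lift (cj B * fld σ) ∈ Y := by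
  have h3 : IsSquare ((B : Matrix (Fin 2) (Fin 2) F).det * (A : Matrix (Fin 2) (Fin 2) F).det) := by
    rw [isSquare_mul_iff hodd (det_gl_ne B) (det_gl_ne A)]
    simp [hB, hA]
  obtain ⟨s, hs⟩ := h3
  exact mem_of_det hY (B := B) h ⟨s / (A : Matrix (Fin 2) (Fin 2) F).det, by
    have := det_gl_ne A
    field_simp
    rw [hs]; ring⟩

/-- order of the automorphism induced by `diag(a, d)` -/
theorem orderOf_cj_diag (a d : Fˣ) (h : (a : F) * d - 0 * 0 ≠ 0) :
    orderOf (lift (cj (g2 (a : F) 0 0 (d : F) h))) = orderOf (a * d⁻¹) := by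
  rw [orderOf_eq_orderOf_iff]
  intro n
  have hpow : ∀ n : ℕ, g2 (a : F) 0 0 (d : F) h ^ n = g2 ((a : F) ^ n) 0 0 ((d : F) ^ n) (by
      rw [mul_zero, sub_zero]
      exact mul_ne_zero (pow_ne_zero _ a.ne_zero) (pow_ne_zero _ d.ne_zero)) := by
    intro n
    induction n with
    | zero =>
      apply Units.ext
      rw [pow_zero, Units.val_one, g2_coe, pow_zero, pow_zero]
      exact one_fin_two
    | succ n ih =>
      rw [pow_succ, ih, g2_mul]
      apply Units.ext
      rw [g2_coe, g2_coe]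
      simp [pow_succ]
  rw [← map_pow, ← map_pow, hpow]
  have hiff : (a * d⁻¹) ^ n = 1 ↔ (a : F) ^ n = (d : F) ^ n := by
    rw [mul_pow, inv_pow, mul_inv_eq_one, ← Units.val_inj, Units.val_pow_eq_pow_val, Units.val_pow_eq_pow_val]
  rw [hiff]
  constructor
  · intro h1
    by_contra hne
    refine cj_ne_one ?_ h1
    rintro ⟨r, hr⟩
    rw [g2_coe] at hr
    have e0 := congrFun (congrFun hr 0) 0
    have e1 := congrFun (congrFun hr 1) 1
    simp at e0 e1
    exact hne (by rw [← e0, e1])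
  · intro h1
    rw [cj_eq_one_of_scalar (r := (a : F) ^ n), map_one]
    rw [g2_coe, ← h1]
    ext i j
    fin_cases i <;> fin_cases j <;> simp

end Cfsg.Agent.H577
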