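import Cfsg.Agent.H577.CABasic
import Cfsg.Agent.H577.PslAutOdd

/-!
# Minimal non-CA groups: `2 × 2` matrices, `PSL(2, q)` and the CA property
-/

set_option autoImplicit false

namespace Cfsg.Agent.H577

open Matrix Subgroup
open Cfsg.Agent.ClassicalGeometry.AutPSL.Root (pr pr_surjective)
open Psl2

section field

variable {F : Type*} [Field F]

/-- matrices commuting with a nonscalar matrix commute (in coordinates) -/
theorem coord_comm {p q r s a b c d a' b' c' d' : F}
    (hx : ¬ (q = 0 ∧ r = 0 ∧ p = s))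
    (h1 : a * p + b * r = p * a + q * c) (h2 : a * q + b * s = p * b + q * d)
    (h3 : c * p + d * r = r * a + s * c)
    (k1 : a' * p + b' * r = p * a' + q * c') (k2 : a' * q + b' * s = p * b' + q * d')
    (k3 : c' * p + d' * r = r * a' + s * c') :
    a * a' + b * c' = a' * a + b' * c ∧ a * b' + b * d' = a' * b + b' * d ∧
      c * a' + d * c' = c' * a + d' * c ∧ c * b' + d * d' = c' * b + d' * d := by
  have e1 : b * r = q * c := by linear_combination h1
  have e2 : (a - d) * q = b * (p - s) := by linear_combination h2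
  have e3 : c * (p - s) = r * (a - d) := by linear_combination h3
  have f1 : b' * r = q * c' := by linear_combination k1
  have f2 : (a' - d') * q = b' * (p - s) := by linear_combination k2
  have f3 : c' * (p - s) = r * (a' - d') := by linear_combination k3
  have key : b * c' = b' * c ∧ (a - d) * b' = (a' - d') * b ∧ (a - d) * c' = (a' - d') * c := by
    by_cases hq : q = 0
    · by_cases hr : r = 0
      · have hps : p - s ≠ 0 := by
          intro h
          exact hx ⟨hq, hr, sub_eq_zero.1 h⟩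
        have hb : b = 0 := by
          have : b * (p - s) = 0 := by rw [← e2, hq, mul_zero]
          exact (mul_eq_zero.1 this).resolve_right hps
        have hb' : b' = 0 := by
          have : b' * (p - s) = 0 := by rw [← f2, hq, mul_zero]
          exact (mul_eq_zero.1 this).resolve_right hps
        have hc : c = 0 := by
          have : c * (p - s) = 0 := by rw [e3, hr, zero_mul]
          exact (mul_eq_zero.1 this).resolve_right hps
        have hc' : c' = 0 := by
          have : c' * (p - s) = 0 := by rw [f3, hr, zero_mul]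
          exact (mul_eq_zero.1 this).resolve_right hps
        rw [hb, hb', hc, hc']
        simp
      · have g1 : b * c' = b' * c := by
          apply mul_left_cancel₀ hr
          linear_combination c' * e1 - c * f1
        refine ⟨g1, ?_, ?_⟩
        · apply mul_left_cancel₀ hr
          linear_combination b' * (-e3) + b * f3 - (p - s) * g1
        · apply mul_left_cancel₀ hr
          linear_combination c * f3 - c' * e3
    · have g1 : b * c' = b' * c := by
        apply mul_left_cancel₀ hq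
        linear_combination b' * e1 - b * f1
      refine ⟨g1, ?_, ?_⟩
      · apply mul_left_cancel₀ hq
        linear_combination b' * e2 - b * f2
      · apply mul_left_cancel₀ hq
        linear_combination c' * e2 - c * f2 + (p - s) * g1
  obtain ⟨g1, g2, g3⟩ := key
  refine ⟨by linear_combination g1, by linear_combination g2, by linear_combination -g3, by linear_combination -g1⟩

/-- matrices commuting with a nonscalar matrix commute -/
theorem mat_comm {X A B : Matrix (Fin 2) (Fin 2) F} (hX : ¬ ∃ r : F, scalar (Fin 2) r = X)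
    (hA : A * X = X * A) (hB : B * X = X * B) : A * B = B * A := by
  have hX' : ¬ (X 0 1 = 0 ∧ X 1 0 = 0 ∧ X 0 0 = X 1 1) := by
    rintro ⟨h1, h2, h3⟩
    apply hX
    refine ⟨X 0 0, ?_⟩
    ext i j
    fin_cases i <;> fin_cases j <;> simp [h1, h2, h3]
  have e : ∀ A B : Matrix (Fin 2) (Fin 2) F, A * B = B * A ↔
      (A 0 0 * B 0 0 + A 0 1 * B 1 0 = B 0 0 * A 0 0 + B 0 1 * A 1 0 ∧
      A 0 0 * B 0 1 + A 0 1 * B 1 1 = B 0 0 * A 0 1 + B 0 1 * A 1 1) ∧
      (A 1 0 * B 0 0 + A 1 1 * B 1 0 = B 1 0 * A 0 0 + B 1 1 * A 1 0 ∧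
      A 1 0 * B 0 1 + A 1 1 * B 1 1 = B 1 0 * A 0 1 + B 1 1 * A 1 1) := by
    intro A B
    rw [← Matrix.ext_iff]
    simp only [Fin.forall_fin_two, Matrix.mul_apply, Fin.sum_univ_two]
  rw [e] at hA hB ⊢
  obtain ⟨⟨h1, h2⟩, h3, -⟩ := hA
  obtain ⟨⟨k1, k2⟩, k3, -⟩ := hB
  obtain ⟨g1, g2, g3, g4⟩ := coord_comm hX' h1 h2 h3 k1 k2 k3
  exact ⟨⟨g1, g2⟩, g3, g4⟩

theorem pr_commute_of_commute {X Y : SL2 F} (h : X * Y = Y * X) : Commute (pr X) (pr Y) := by
  change pr X * pr Y = pr Y * pr X
  rw [← map_mul, h, map_mul]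

theorem pr_commute_iff {X Y : SL2 F} : Commute (pr X) (pr Y) ↔ X * Y = Y * X ∨ X * Y = -(Y * X) := by
  change pr X * pr Y = pr Y * pr X ↔ _
  rw [← map_mul, ← map_mul, pr_eq_iff]

/-- **`PSL(2, q)`, `q` even, is a CA-group.** -/
theorem ca_of_even (h2 : (2 : F) = 0) : CA (P2 F) := by
  have hneg : ∀ X : SL2 F, -X = X := by
    intro X
    obtain ⟨a, b, c, d, h, rfl⟩ := exists_m2 X
    rw [m2_neg]
    apply m2_ext <;> linear_combination (-_ : F) * h2
  intro x y a b hax hbx hyx
  obtain ⟨X, rfl⟩ := pr_surjective x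
  obtain ⟨Y, rfl⟩ := pr_surjective y
  obtain ⟨A, rfl⟩ := pr_surjective a
  obtain ⟨B, rfl⟩ := pr_surjective b
  rw [pr_commute_iff, hneg, or_self] at hax hbx hyx ⊢
  apply Subtype.ext
  refine mat_comm (X := X.1) ?_ (congrArg Subtype.val hax) (congrArg Subtype.val hbx)
  rintro ⟨r, hr⟩
  apply hyx
  apply Subtype.ext
  change Y.1 * X.1 = X.1 * Y.1
  rw [← hr]
  exact (scalar_commute r (Commute.all r) Y.1).symm

end field

section finite

variable {F : Type*} [Field F] [Fintype F]

/-- norms from the quadratic extension (or algebra) are all elements -/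
theorem exists_norm (hodd : Odd (Fintype.card F)) {δ : F} (hδ : δ ≠ 0) (c : F) :
    ∃ s t : F, s ^ 2 - δ * t ^ 2 = c := by
  obtain ⟨s, t, h⟩ := FiniteField.exists_root_sum_quadratic (R := F)
    (f := Polynomial.X ^ 2 - Polynomial.C c) (g := Polynomial.C (-δ) * Polynomial.X ^ 2)
    (Polynomial.degree_X_pow_sub_C (by norm_num) c)
    (by rw [Polynomial.degree_C_mul_X_pow 2 (neg_ne_zero.2 hδ)]; rfl) (Nat.odd_iff.1 hodd)
  refine ⟨s, t, ?_⟩
  simp only [Polynomial.eval_sub, Polynomial.eval_pow, Polynomial.eval_X, Polynomial.eval_C,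
    Polynomial.eval_mul] at h
  linear_combination h

theorem exists_pow_four_ne (h5 : 5 < Fintype.card F) : ∃ t : F, t ≠ 0 ∧ t ^ 4 ≠ 1 := by
  obtain ⟨g, hg⟩ := IsCyclic.exists_generator (α := Fˣ)
  have h1 : orderOf g = Fintype.card F - 1 := by
    classical
    rw [orderOf_eq_card_of_forall_mem_zpowers hg, Nat.card_eq_fintype_card, Fintype.card_units]
  refine ⟨g, g.ne_zero, fun h => ?_⟩
  have h2 : g ^ 4 = 1 := Units.ext (by push_cast; exact h)
  have h3 := Nat.le_of_dvd (by norm_num) (orderOf_dvd_of_pow_eq_one h2)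
  omega

/-- **`PSL(2, q)`, `q > 5` odd, is not a CA-group.** -/
theorem not_ca_of_odd (hodd : Odd (Fintype.card F)) (h5 : 5 < Fintype.card F) : ¬ CA (P2 F) := by
  intro h
  have h2 := two_ne_zero_of_odd hodd
  obtain ⟨t, ht0, ht4⟩ := exists_pow_four_ne h5
  have ht1 : t ^ 2 - 1 ≠ 0 := fun h => ht4 (by linear_combination (t ^ 2 + 1) * h)
  have ht2 : 1 + t ^ 2 ≠ 0 := fun h => ht4 (by linear_combination (t ^ 2 - 1) * h)
  obtain ⟨c, d, hcd⟩ := exists_norm hodd (δ := (-1 : F)) (by simp) (-1)
  obtain ⟨a, b, ha, hb, hab⟩ : ∃ a b : F, a ≠ 0 ∧ b ≠ 0 ∧ a * a - b * (-b) = 1 := by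
    refine ⟨(1 - t ^ 2) / (1 + t ^ 2), 2 * t / (1 + t ^ 2), ?_, div_ne_zero (mul_ne_zero h2 ht0) ht2, ?_⟩
    · apply div_ne_zero _ ht2
      intro h
      apply ht1
      linear_combination -h
    · field_simp
      ring
  let X : SL2 F := m2 a b (-b) a hab
  let Y : SL2 F := m2 c d d (-c) (by linear_combination -hcd)
  have hX : Commute (pr X) (pr (mw F)) := by
    rw [pr_commute_iff]
    left
    change m2 _ _ _ _ _ * m2 _ _ _ _ _ = m2 _ _ _ _ _ * m2 _ _ _ _ _
    rw [m2_mul, m2_mul]
    apply m2_ext <;> ring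
  have hY : Commute (pr Y) (pr (mw F)) := by
    rw [pr_commute_iff]
    right
    change m2 _ _ _ _ _ * m2 _ _ _ _ _ = -(m2 _ _ _ _ _ * m2 _ _ _ _ _)
    rw [m2_mul, m2_mul, m2_neg]
    apply m2_ext <;> ring
  have hU : ¬ Commute (pr (uu (Multiplicative.ofAdd (1 : F)))) (pr (mw F)) := by
    rw [pr_commute_iff, uu_apply]
    rintro (h | h)
    · change m2 _ _ _ _ _ * m2 _ _ _ _ _ = m2 _ _ _ _ _ * m2 _ _ _ _ _ at h
      rw [m2_mul, m2_mul] at h
      obtain ⟨h1, -, -, -⟩ := m2_inj h
      have : (1 : F) = 0 := by linear_combination -h1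
      exact one_ne_zero this
    · change m2 _ _ _ _ _ * m2 _ _ _ _ _ = -(m2 _ _ _ _ _ * m2 _ _ _ _ _) at h
      rw [m2_mul, m2_mul, m2_neg] at h
      obtain ⟨-, h1, -, -⟩ := m2_inj h
      have : (2 : F) = 0 := by linear_combination h1
      exact h2 this
  have hXY := h _ _ _ _ hX hY hU
  rw [pr_commute_iff] at hXY
  have hX' : X = m2 a b (-b) a hab := rfl
  have hY' : Y = m2 c d d (-c) (by linear_combination -hcd) := rfl
  rw [hX', hY'] at hXY
  have hcd0 : ¬ (c = 0 ∧ d = 0) := by
    rintro ⟨rfl, rfl⟩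
    have : (1 : F) = 0 := by linear_combination hcd
    exact one_ne_zero this
  rcases hXY with h | h
  · rw [m2_mul, m2_mul] at h
    obtain ⟨h1, h3, -, -⟩ := m2_inj h
    have e1 : 2 * b * d = 0 := by linear_combination h1
    have e2 : 2 * b * c = 0 := by linear_combination -h3
    exact hcd0 ⟨(mul_eq_zero.1 e2).resolve_left (mul_ne_zero h2 hb),
      (mul_eq_zero.1 e1).resolve_left (mul_ne_zero h2 hb)⟩
  · rw [m2_mul, m2_mul, m2_neg] at h
    obtain ⟨h1, h3, -, -⟩ := m2_inj h
    have e1 : 2 * a * c = 0 := by linear_combination h1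
    have e2 : 2 * a * d = 0 := by linear_combination h3
    exact hcd0 ⟨(mul_eq_zero.1 e1).resolve_left (mul_ne_zero h2 ha),
      (mul_eq_zero.1 e2).resolve_left (mul_ne_zero h2 ha)⟩

/-- elements fixed by an involutory automorphism are squares -/
theorem isSquare_of_fixed (hodd : Odd (Fintype.card F)) {σ : F ≃+* F} (hσ : orderOf σ = 2) {x : F}
    (hx : σ x = x) : IsSquare x := by
  by_cases hx0 : x = 0
  · exact ⟨0, by rw [hx0, mul_zero]⟩
  have hc : ringChar F ≠ 2 := by
    intro h
    apply two_ne_zero_of_odd hodd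
    have := ringChar.Nat.cast_ringChar (R := F)
    rw [h] at this
    exact_mod_cast this
  rw [FiniteField.isSquare_iff hc hx0]
  let K : Subfield F := ((σ : F →+* F).eqLocusField (RingHom.id F))
  have hK : ∀ y : F, y ∈ K ↔ σ y = y := fun y => Iff.rfl
  have h1 := StdL2.FGal.card_fixed σ
  rw [hσ] at h1
  have h2 : Nat.card {x : F // σ x = x} = Nat.card K := Nat.card_congr (Equiv.subtypeEquivRight fun y => (hK y).symm)
  have := Fintype.ofFinite K
  rw [h2, Nat.card_eq_fintype_card, Nat.card_eq_fintype_card] at h1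
  have h3 : x ^ (Fintype.card K - 1) = 1 := by
    have h4 := FiniteField.pow_card_sub_one_eq_one (⟨x, (hK x).2 hx⟩ : K) (fun h => hx0 (congrArg Subtype.val h))
    exact congrArg Subtype.val h4
  have hKodd : Odd (Fintype.card K) := by
    rw [h1] at hodd
    exact Nat.odd_mul.1 (by rwa [pow_two] at hodd) |>.1
  obtain ⟨m, hm⟩ := hKodd
  have h5 : Fintype.card F / 2 = (Fintype.card K - 1) * (m + 1) := by
    rw [h1, hm, Nat.add_sub_cancel]
    have : (2 * m + 1) ^ 2 = 2 * (2 * m * (m + 1)) + 1 := by ring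
    rw [this]
    omega
  rw [h5, pow_mul, h3, one_pow]

theorem isSquare_of_norm_one (hodd : Odd (Fintype.card F)) {σ : F ≃+* F} (hσ : orderOf σ = 2) {u : F}
    (hu : u * σ u = 1) : IsSquare u := by
  have hσ2 : ∀ x, σ (σ x) = x := by
    intro x
    have h1 := pow_orderOf_eq_one σ
    rw [hσ, pow_two] at h1
    exact congrArg (fun τ : F ≃+* F => τ x) h1
  by_cases h1 : 1 + u = 0
  · apply isSquare_of_fixed hodd hσ
    have : u = -1 := by linear_combination h1
    rw [this, map_neg, map_one]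
  · have h2 : 1 + σ u ≠ 0 := by
      intro h
      apply h1
      have : σ (1 + u) = 0 := by rw [map_add, map_one, h]
      exact (map_eq_zero_iff σ σ.injective).1 this
    have h3 : IsSquare ((1 + u) * (1 + σ u)) := by
      apply isSquare_of_fixed hodd hσ
      rw [map_mul, map_add, map_add, map_one, hσ2, mul_comm]
    obtain ⟨w, hw⟩ := h3
    refine ⟨w / (1 + σ u), ?_⟩
    rw [div_mul_div_comm, ← hw, eq_div_iff (mul_ne_zero h2 h2)]
    have : u * (1 + σ u) = 1 + u := by linear_combination hu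
    linear_combination (1 + σ u) * this

theorem isSquare_of_norm (hodd : Odd (Fintype.card F)) {σ : F ≃+* F} (hσ : orderOf σ = 2) {d c : F}
    (hc : σ c = c) (hc0 : c ≠ 0) (hd : d * σ d = c ^ 2) : IsSquare d := by
  have h1 : IsSquare (d / c) := by
    apply isSquare_of_norm_one hodd hσ
    rw [map_div₀, hc, div_mul_div_comm, hd, pow_two, div_self (mul_ne_zero hc0 hc0)]
  have h2 := isSquare_of_fixed hodd hσ hc
  have h3 := h1.mul h2
  rwa [div_mul_cancel₀ d hc0] at h3

end finite

end Cfsg.Agent.H577
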