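import Cfsg.Agent.H577.CARepEnd

/-!
# Minimal non-CA groups: nonabelian Sylow 2-subgroups are impossible
-/

set_option autoImplicit false
set_option linter.unusedSectionVars false

namespace Cfsg.Agent.H577

open Matrix Subgroup Cfsg
open Cfsg.Agent.ClassicalGeometry.AutPSL.Root (pr pr_surjective)
open Cfsg.Agent.ClassicalGeometry.AutPSL.Auto (cj fld lift itr coe_cj coe_fld_apply lift_pr)
open Cfsg.Agent.ClassicalGeometry.AutPSL.Main (cj_eq_one_of_scalar injective_aux surj_two surj_three)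
open Psl2

universe u

section

variable {G : Type*} [Group G] {L : Subgroup G} {F : Type*} [Field F] [Fintype F]

namespace Act

theorem fld_mul (M : GL (Fin 2) F) (σ : F ≃+* F) :
    (cj M * fld σ) * (cj M * fld σ) =
      cj (M * Matrix.GeneralLinearGroup.map (σ : F →+* F) M) * fld (σ * σ) := by
  rw [mul_assoc, ← mul_assoc (fld σ), fld_mul_cj, map_mul, map_mul]
  simp only [mul_assoc]

/-- involutory automorphisms `cj M * fld σ`: the determinant is a square -/
theorem isSquare_of_involutory (hodd : Odd (Fintype.card F)) {M : GL (Fin 2) F} {σ : F ≃+* F} (hσ : σ ≠ 1)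
    (h : lift ((cj M * fld σ) * (cj M * fld σ)) = 1) : IsSquare (M : M2 F).det := by
  rw [fld_mul] at h
  have h1 : lift (cj (M * Matrix.GeneralLinearGroup.map (σ : F →+* F) M) * fld (σ * σ)) =
      lift (fld (1 : F ≃+* F)) := by rw [h, map_one, map_one]
  obtain ⟨⟨r, hr⟩, hσσ⟩ := injective_aux h1
  have hσ2 : orderOf σ = 2 := by
    have : Fact (Nat.Prime 2) := ⟨Nat.prime_two⟩
    exact orderOf_eq_prime (by rw [pow_two]; exact hσσ) hσ
  set f := (σ : F →+* F).mapMatrix (m := Fin 2) with hf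
  have hfM : ((Matrix.GeneralLinearGroup.map (σ : F →+* F) M : GL (Fin 2) F) : M2 F) = f (M : M2 F) := rfl
  rw [Units.val_mul, hfM] at hr
  have hff : f (f (M : M2 F)) = M := by
    ext i j
    change σ (σ ((M : M2 F) i j)) = _
    exact congrArg (fun τ : F ≃+* F => τ ((M : M2 F) i j)) hσσ
  have hfs : f (scalar (Fin 2) r) = scalar (Fin 2) (σ r) := by
    ext i j
    change σ ((scalar (Fin 2) r) i j) = _
    fin_cases i <;> fin_cases j <;> simp
  have h2 : f (M : M2 F) * M = scalar (Fin 2) r := by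
    apply M.isUnit.mul_left_cancel
    rw [← mul_assoc, ← hr]
    exact (scalar_commute r (Commute.all r) _)
  have h3 : scalar (Fin 2) (σ r) = (scalar (Fin 2) r : M2 F) := by
    rw [← hfs]
    nth_rewrite 1 [hr]
    rw [map_mul, hff, h2]
  have h4 : σ r = r := by
    have := congrFun (congrFun h3 0) 0
    simpa using this
  have h5 : (M : M2 F).det * σ (M : M2 F).det = r ^ 2 := by
    have h6 := congrArg det hr
    rw [det_mul] at h6
    have h7 : (f (M : M2 F)).det = σ (M : M2 F).det := by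
      rw [← hfM, det_map]
    rw [h7] at h6
    rw [← h6]
    simp [pow_two]
  have h6 : r ≠ 0 := by
    intro h0
    rw [h0, zero_pow two_ne_zero] at h5
    rcases mul_eq_zero.1 h5 with h7 | h7
    · exact det_gl_ne M h7
    · exact det_gl_ne M ((map_eq_zero_iff σ σ.injective).1 h7)
  exact isSquare_of_norm hodd hσ2 h4 h6 h5

/-- **every element is represented by a matrix** -/
theorem exists_rep [Finite G] (A : Act G L F) (hodd : Odd (Fintype.card F))
    (hno : ∀ σ : F ≃+* F, lift (fld σ) ∈ A.Φ.range → σ = 1) (S : Sylow 2 G) {z : G}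
    (hS : SylStr G (S : Subgroup G) z) : ∀ g, ∃ M, A.Rep g M := by
  have hf2 : Fact (Nat.Prime 2) := ⟨Nat.prime_two⟩
  obtain ⟨p, hchar, n, hp, hn⟩ := FiniteField.card' (K := F)
  have hpf : Fact p.Prime := ⟨hp⟩
  have hall : ∀ g, ∃ (M : GL (Fin 2) F) (σ : F ≃+* F), A.Φ g = lift (cj M * fld σ) := fun g =>
    surj_two p (A.Φ g)
  have hsqr : ∀ {g : G} {M : GL (Fin 2) F} {σ : F ≃+* F}, A.Φ g = lift (cj M * fld σ) →
      IsSquare (M : M2 F).det → A.Rep g M := by
    intro g M σ h hs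
    obtain ⟨s, hs⟩ := hs
    rw [← pow_two] at hs
    have h1 := hno σ (fld_mem_of_isSquare A.conj_mem (A := M) ⟨g, h⟩ hs)
    rw [h1, map_one, mul_one] at h
    exact h
  have hsq : ∀ g, ∃ M, A.Rep (g * g) M := by
    intro g
    obtain ⟨M, σ, h⟩ := hall g
    by_cases hs : IsSquare (M : M2 F).det
    · exact ⟨_, (hsqr h hs).mul (hsqr h hs)⟩
    · obtain ⟨B, hB, hB2⟩ := iterate hodd M σ hs 2
      refine ⟨B, hsqr (σ := σ ^ 2) ?_ (hB2.2 even_two)⟩
      rw [map_mul, h, ← map_mul, ← pow_two, hB]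
  have hconj : ∀ h g, (∃ M, A.Rep g M) → ∃ M, A.Rep (h * g * h⁻¹) M := by
    rintro h g ⟨M, hM⟩
    obtain ⟨N, τ, hN⟩ := hall h
    refine ⟨N * Matrix.GeneralLinearGroup.map (τ : F →+* F) M * N⁻¹, ?_⟩
    have e1 := fld_mul_cj τ M
    rw [Rep, map_mul, map_mul, map_inv, hN, hM, ← map_inv, ← map_mul, ← map_mul]
    congr 1
    rw [map_mul, map_mul, map_inv, _root_.mul_inv_rev, mul_assoc (cj N), e1]
    group
  have hmul : ∀ g h, (∃ M, A.Rep g M) → (∃ M, A.Rep (g * h) M) → ∃ M, A.Rep h M := by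
    rintro g h ⟨M, hM⟩ ⟨N, hN⟩
    refine ⟨M⁻¹ * N, ?_⟩
    have := hM.inv.mul hN
    rwa [inv_mul_cancel_left] at this
  by_contra hcon
  push Not at hcon
  obtain ⟨g₁, hg₁⟩ := hcon
  -- a 2-element
  obtain ⟨g₂, hg₂, n₂, hn₂⟩ : ∃ g₂ : G, (¬ ∃ M, A.Rep g₂ M) ∧ ∃ n, g₂ ^ 2 ^ n = 1 := by
    obtain ⟨n, k, hk, hnk⟩ := Nat.exists_eq_two_pow_mul_odd (orderOf_pos g₁).ne'
    obtain ⟨j, rfl⟩ := hk
    refine ⟨g₁ ^ (2 * j + 1), ?_, n, by rw [← pow_mul, mul_comm, ← hnk, pow_orderOf_eq_one]⟩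
    intro h
    have h1 : g₁ ^ (2 * j + 1) = (g₁ * g₁) ^ j * g₁ := by rw [pow_succ, pow_mul, pow_two]
    rw [h1] at h
    have h2 : ∃ M, A.Rep ((g₁ * g₁) ^ j) M := by
      obtain ⟨M, hM⟩ := hsq g₁
      refine ⟨M ^ j, ?_⟩
      rw [Rep, map_pow, hM, ← map_pow, ← map_pow]
    obtain ⟨M, hM⟩ := hmul _ _ h2 h
    exact hg₁ M hM
  have h2p : IsPGroup 2 (zpowers g₂) := by
    rw [IsPGroup.iff_card]
    have h4 : Nat.card (zpowers g₂) ∣ 2 ^ n₂ := by
      rw [Nat.card_zpowers]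
      exact orderOf_dvd_of_pow_eq_one hn₂
    obtain ⟨k, -, hk⟩ := (Nat.dvd_prime_pow Nat.prime_two).1 h4
    exact ⟨k, hk⟩
  obtain ⟨h, -, hh⟩ := exists_conj_le_sylow S (H := ⊤) le_top h2p le_top
  have hs₀S := hh g₂ (mem_zpowers _)
  have hs₀ : ¬ ∃ M, A.Rep (h * g₂ * h⁻¹) M := by
    intro h1
    have h2 := hconj h⁻¹ _ h1
    have h3 : h⁻¹ * (h * g₂ * h⁻¹) * h⁻¹⁻¹ = g₂ := by group
    rw [h3] at h2
    exact hg₂ h2
  generalize h * g₂ * h⁻¹ = s₀ at hs₀S hs₀
  obtain ⟨y₁, hy₁S, hy₁z⟩ := hS.exists_not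
  obtain ⟨y, hyS, hyz, hy⟩ : ∃ y ∈ (S : Subgroup G), ¬ Commute y z ∧ ¬ ∃ M, A.Rep y M := by
    by_cases h1 : Commute s₀ z
    · by_cases h2 : ∃ M, A.Rep y₁ M
      · refine ⟨y₁ * s₀, mul_mem hy₁S hs₀S, ?_, fun h3 => hs₀ (hmul _ _ h2 h3)⟩
        intro h3
        apply hy₁z
        have h4 := h3.mul_left h1.inv_left
        rwa [mul_inv_cancel_right] at h4
      · exact ⟨y₁, hy₁S, hy₁z, h2⟩
    · exact ⟨s₀, hs₀S, h1, hs₀⟩
  have hyy := hS.sq_out y hyS hyz
  obtain ⟨M, σ, hM⟩ := hall y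
  have hσ : σ ≠ 1 := by
    rintro rfl
    rw [map_one, mul_one] at hM
    exact hy ⟨M, hM⟩
  apply hy
  refine ⟨M, hsqr hM (isSquare_of_involutory hodd hσ ?_)⟩
  rw [map_mul, ← hM, ← map_mul, A.kerΦ]
  exact hyy

end Act

end

/-- **Nonabelian Sylow 2-subgroups are impossible.** -/
theorem false_of_nonabelian {G : Type u} [Group G] [Finite G] (FT : FTh.{u}) (hm : MinCA G)
    (hns : ¬ Group.IsSolvable G) (hCA : ¬ CA G) (S : Sylow 2 G) {a₀ b₀ : G}
    (ha₀ : a₀ ∈ (S : Subgroup G)) (hb₀ : b₀ ∈ (S : Subgroup G)) (hab₀ : ¬ Commute a₀ b₀) : False := by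
  have hf : Fact (Nat.Prime 2) := ⟨Nat.prime_two⟩
  obtain ⟨z, hS⟩ := exists_sylStr FT hm hns S ha₀ hb₀ hab₀
  obtain ⟨L, hLn, hLq, hcL⟩ := exists_comp FT hm hns
  obtain ⟨F, i1, i2, ⟨e⟩, hcase⟩ := exists_psl FT hm hns L hLq hcL
  -- the odd case
  have hmain : ∀ (F : Type) (_ : Field F) (_ : Fintype F), Odd (Fintype.card F) → 3 < Fintype.card F →
      (L ⧸ center L ≃* P2 F) → False := by
    intro F _ _ hodd h3 e
    obtain ⟨A⟩ := exists_act hLn hLq hcL e
    have h2 := two_ne_zero_of_odd hodd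
    have hno : ∀ σ : F ≃+* F, lift (fld σ) ∈ A.Φ.range → σ = 1 := by
      intro σ hσ
      refine A.no_fld hm (by omega) ?_ hσ
      intro c hc hchar hd
      by_contra h9
      exact char_not_dvd hodd h3 h9 A.perfect A.p A.surj A.ker_p hc hd
    have hrep := A.exists_rep hodd hno S hS
    exact hCA (A.ca_of_comm hm hodd (by omega) hrep fun x a X B hx ha hc => A.no_minus h2 hrep S hS hx ha hc)
  have heven : ∀ a : ℕ, 2 ≤ a → Fintype.card F = 2 ^ a → False := by
    intro a ha hF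
    by_cases ha2 : a = 2
    · subst ha2
      have h5 : Fact (Nat.Prime 5) := ⟨Nat.prime_five⟩
      have hK : Fintype.card (ZMod 5) = 5 := ZMod.card 5
      obtain ⟨e'⟩ := equiv_four_five (F := F) (K := ZMod 5) (by rw [hF]; norm_num) hK
      exact hmain (ZMod 5) inferInstance inferInstance (by rw [hK]; decide) (by rw [hK]; norm_num) (e.trans e')
    · obtain ⟨A⟩ := exists_act hLn hLq hcL e
      have hZ : center L = ⊥ := cover_even (by omega) hF A.perfect A.p A.surj A.ker_p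
      -- `Z(S) ∩ L ≠ 1`
      have hLne : (S : Subgroup G) ⊓ L ≠ ⊥ := by
        intro hbot
        have hdvd : 2 ∣ Nat.card L := by
          have h1 : Nat.card (P2 F) ∣ Nat.card L := by
            rw [← Nat.card_congr e.toEquiv]
            exact Subgroup.card_quotient_dvd_card _
          have h3 : orderOf (pr (mw F)) ∣ Nat.card (P2 F) := orderOf_dvd_natCard _
          rw [orderOf_mw] at h3
          exact h3.trans h1
        obtain ⟨t, ht⟩ := exists_prime_orderOf_dvd_card' 2 hdvd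
        have h1 : IsPGroup 2 (zpowers (t : G)) := by
          rw [IsPGroup.iff_card]
          exact ⟨1, by rw [Nat.card_zpowers, pow_one, Subgroup.orderOf_coe, ht]⟩
        obtain ⟨h, -, hh⟩ := exists_conj_le_sylow S (H := ⊤) le_top h1 le_top
        have h3 : h * t * h⁻¹ ∈ (S : Subgroup G) ⊓ L := ⟨hh _ (mem_zpowers _), hLn.conj_mem _ t.2 h⟩
        rw [hbot, Subgroup.mem_bot] at h3
        have h5 : (t : G) = 1 := by
          calc (t : G) = h⁻¹ * (h * t * h⁻¹) * h := by group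
            _ = 1 := by rw [h3]; group
        have h6 : t = 1 := Subtype.ext h5
        rw [h6, orderOf_one] at ht
        omega
      obtain ⟨w, hw, hw1, hwS⟩ := Cfsg.Agent.Characters.CNBasic.exists_mem_center_of_normal
        (S : Subgroup G) S.isPGroup' ((S : Subgroup G) ⊓ L) (S.isPGroup'.to_le inf_le_left) hLne (by
          intro t ht d hd
          exact ⟨(S : Subgroup G).mul_mem ((S : Subgroup G).mul_mem ht hd.1) ((S : Subgroup G).inv_mem ht),
            hLn.conj_mem _ hd.2 t⟩)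
      have hwc := sylow_center_le FT hm hns S ha₀ hb₀ hab₀ hw.1 hwS
      have h1 : (⟨w, hw.2⟩ : L) ∈ center L := A.coe_center.2 hwc
      rw [hZ, Subgroup.mem_bot] at h1
      exact hw1 (congrArg Subtype.val h1)
  rcases hcase with ⟨a, ha, hF⟩ | ⟨h8, h5⟩ | ⟨hodd, h3, -⟩
  · exact heven a ha hF
  · exact hmain F i1 i2 (by rw [Nat.odd_iff]; omega) (by omega) e
  · exact hmain F i1 i2 hodd h3 e

end Cfsg.Agent.H577
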