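import Cfsg.Agent.H577.CAAbelTwo

/-!
# Minimal non-CA groups: a critical normal `p`-subgroup of the solvable radical
-/

set_option autoImplicit false

namespace Cfsg.Agent.H577

open Subgroup

universe u

variable {G : Type u} [Group G]

/-- a minimal noncentral solvable normal subgroup -/
structure RadP (G : Type*) [Group G] (P : Subgroup G) (p : ℕ) : Prop where
  normal : P.Normal
  isPGroup : IsPGroup p P
  noncentral : ¬ P ≤ center G
  comm : ∀ x ∈ P, ∀ y ∈ P, x * y * x⁻¹ * y⁻¹ ∈ center G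
  pow : ∀ x ∈ P, x ^ p ∈ center G
  min : ∀ N : Subgroup G, N.Normal → N ≤ P → N = P ∨ N ≤ center G

theorem exists_radP [Finite G] (N : Subgroup G) (hN : N.Normal) (hNs : Group.IsSolvable N)
    (hNc : ¬ N ≤ center G) : ∃ p : ℕ, p.Prime ∧ ∃ P : Subgroup G, RadP G P p := by
  obtain ⟨P, ⟨hPn, hPs, hPc⟩, hPmin⟩ := Set.exists_min_image
    {N : Subgroup G | N.Normal ∧ Group.IsSolvable N ∧ ¬ N ≤ center G} (fun N => Nat.card N)
    (Set.toFinite _) ⟨N, hN, hNs, hNc⟩
  have hmin : ∀ M : Subgroup G, M.Normal → M ≤ P → M = P ∨ M ≤ center G := by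
    intro M hM hMP
    by_contra hcon
    push Not at hcon
    apply hcon.1
    exact Subgroup.eq_of_le_of_card_ge hMP (hPmin M ⟨hM, solvable_of_le hMP hPs, hcon.2⟩)
  have hPbot : P ≠ ⊥ := by
    rintro rfl
    exact hPc bot_le
  have hPnt : Nontrivial P := (nontrivial_iff_ne_bot P).2 hPbot
  have hcomm : ⁅P, P⁆ ≤ center G := by
    rcases hmin ⁅P, P⁆ inferInstance (commutator_le_left P P) with h | h
    · exfalso
      have h1 : commutator P < ⊤ := Group.IsSolvable.commutator_lt_top_of_nontrivial P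
      apply h1.ne
      apply Subgroup.map_injective P.subtype_injective
      rw [map_subtype_commutator, h, ← MonoidHom.range_eq_map, range_subtype]
    · exact h
  have hcomm' : ∀ x ∈ P, ∀ y ∈ P, x * y * x⁻¹ * y⁻¹ ∈ center G := fun x hx y hy =>
    hcomm (commutator_mem_commutator hx hy)
  -- nilpotent
  have hnil : Group.IsNilpotent P := by
    refine Subgroup.isNilpotent_of_ker_le_center (Abelianization.of : P →* Abelianization P) ?_
    rw [Abelianization.ker_of]
    intro x hx
    have h1 : (x : G) ∈ center G := by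
      apply hcomm
      rw [← map_subtype_commutator]
      exact ⟨x, hx, rfl⟩
    rw [mem_center_iff]
    intro y
    exact Subtype.ext (mem_center_iff.1 h1 y)
  -- a `p`-group
  obtain ⟨p, hp, hPp⟩ : ∃ p : ℕ, p.Prime ∧ IsPGroup p P := by
    by_contra hcon
    push Not at hcon
    apply hPc
    set Z₀ := (center G).subgroupOf P with hZ₀
    have h1 : Z₀ = ⊤ := by
      rw [← index_eq_one]
      by_contra hne
      obtain ⟨p, hp, hpd⟩ := Nat.exists_prime_and_dvd hne
      have := Fact.mk hp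
      obtain ⟨Q⟩ : Nonempty (Sylow p P) := Sylow.nonempty
      have hQn : (Q : Subgroup P).Normal := inferInstance
      have hQch := Sylow.characteristic_of_normal Q hQn
      have hQn' : ((Q : Subgroup P).map P.subtype).Normal := ConjAct.normal_of_characteristic_of_normal
      have hle : (Q : Subgroup P).map P.subtype ≤ P := map_subtype_le _
      rcases hmin _ hQn' hle with h | h
      · apply hcon p hp
        have h2 : (Q : Subgroup P) = ⊤ := by
          apply Subgroup.map_injective P.subtype_injective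
          rw [h, ← MonoidHom.range_eq_map, range_subtype]
        have h3 := Q.isPGroup'
        have h4 : IsPGroup p (⊤ : Subgroup P) := by rw [← h2]; exact h3
        exact h4.of_equiv topEquiv
      · have h2 : (Q : Subgroup P) ≤ Z₀ := by
          intro x hx
          exact h ⟨x, hx, rfl⟩
        exact Q.not_dvd_index (hpd.trans (index_dvd_of_le h2))
    intro x hx
    have h2 : (⟨x, hx⟩ : P) ∈ Z₀ := by rw [h1]; exact mem_top _
    exact h2
  refine ⟨p, hp, P, hPn, hPp, hPc, hcomm', ?_, hmin⟩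
  have := Fact.mk hp
  -- `p`-th powers
  set s : Set G := {x | ∃ y ∈ P, y ^ p = x} with hs
  have hNle : normalClosure s ≤ P := by
    apply normalClosure_le_normal
    rintro x ⟨y, hy, rfl⟩
    exact pow_mem hy p
  have hsub : ∀ x ∈ P, x ^ p ∈ normalClosure s := fun x hx => subset_normalClosure ⟨x, hx, rfl⟩
  rcases hmin _ normalClosure_normal hNle with h | h
  · exfalso
    obtain ⟨n, hn⟩ := IsPGroup.iff_card.1 hPp
    have hn0 : n ≠ 0 := by
      rintro rfl
      have := Finite.one_lt_card (α := P)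
      rw [pow_zero] at hn
      omega
    obtain ⟨n, rfl⟩ := Nat.exists_eq_succ_of_ne_zero hn0
    obtain ⟨M, hM⟩ := Sylow.exists_subgroup_card_pow_prime (G := P) p (n := n) (by
      rw [hn]; exact pow_dvd_pow p (Nat.le_succ n))
    have hMi : M.index = p := by
      have h1 := M.card_mul_index
      rw [hM, hn, pow_succ] at h1
      exact Nat.eq_of_mul_eq_mul_left (pow_pos hp.pos n) h1
    have hMn : M.Normal := by
      apply normal_of_index_eq_minFac_card
      rw [hMi, hn, hp.pow_minFac (Nat.succ_ne_zero n)]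
    have hpow : ∀ y : P, y ^ p ∈ M := by
      intro y
      rw [← QuotientGroup.eq_one_iff]
      have h1 : Nat.card (P ⧸ M) = p := hMi
      change ((y : P ⧸ M)) ^ p = 1
      rw [← h1]
      exact pow_card_eq_one'
    have h1 : P ≤ M.map P.subtype := by
      refine h.ge.trans ?_
      change closure (Group.conjugatesOfSet s) ≤ _
      rw [closure_le]
      intro x hx
      obtain ⟨a, ⟨y, hy, rfl⟩, hc⟩ := Group.mem_conjugatesOfSet_iff.1 hx
      obtain ⟨g, rfl⟩ := isConj_iff.1 hc
      refine ⟨⟨g * y * g⁻¹, hPn.conj_mem y hy g⟩ ^ p, hpow _, ?_⟩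
      change (g * y * g⁻¹) ^ p = g * y ^ p * g⁻¹
      rw [conj_pow]
    have h2 : M = ⊤ := by
      rw [eq_top_iff]
      intro x _
      obtain ⟨y, hy, hyx⟩ := h1 x.2
      rwa [← Subtype.ext hyx]
    rw [h2, index_top] at hMi
    exact hp.one_lt.ne hMi
  · intro x hx
    exact h (hsub x hx)

namespace RadP

variable {P : Subgroup G} {p : ℕ}

theorem solvable [Finite G] (h : RadP G P p) (hp : p.Prime) : Group.IsSolvable P :=
  have := Fact.mk hp
  solvable_of_isPGroup h.isPGroup

/-- Elements of `P` outside the centre of `G` are not central in `P`. -/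
theorem exists_not_commute [Finite G] (h : RadP G P p) (FT : FTh.{u}) (hm : MinCA G)
    (hns : ¬ Group.IsSolvable G) {x : G} (hx : x ∈ P) (hxc : x ∉ center G) :
    ∃ y ∈ P, ¬ Commute y x := by
  by_contra hcon
  push Not at hcon
  apply hxc
  have := h.normal
  let Z : Subgroup G := P ⊓ centralizer (P : Set G)
  have hZn : Z.Normal := inferInstance
  apply abelian_le_center FT hm hns Z (fun a ha b hb => (mem_centralizer_iff.1 hb.2 a ha.1))
  exact ⟨hx, mem_centralizer_iff.2 fun y hy => hcon y hy⟩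

/-- the centralizer of `P` -/
theorem mem_center_of_centralizer [Finite G] (h : RadP G P p) (hp : p.Prime) (FT : FTh.{u})
    (hm : MinCA G) (hns : ¬ Group.IsSolvable G) {g : G} (hg : ∀ x ∈ P, Commute g x) :
    g ∈ center G := by
  have := h.normal
  set C := centralizer (P : Set G) with hC
  have hmd : ∀ {x e : G}, x ∈ C → e ∈ P → Commute x e := fun {x e} hx he =>
    (mem_centralizer_iff.1 hx e he).symm
  have hCn : C.Normal := by rw [hC]; infer_instance
  have hgC : g ∈ C := mem_centralizer_iff.2 fun x hx => (hg x hx).symm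
  refine abelian_le_center FT hm hns C ?_ hgC
  by_contra hcon
  push Not at hcon
  obtain ⟨a, ha, b, hb, hab⟩ := hcon
  obtain ⟨x, hx, hxc⟩ := SetLike.not_le_iff_exists.1 h.noncentral
  obtain ⟨y, hy, hyx⟩ := h.exists_not_commute FT hm hns hx hxc
  have htop : P ⊔ C = ⊤ := by
    by_contra hne
    have hle : P ≤ P ⊔ C := le_sup_left
    have hle' : C ≤ P ⊔ C := le_sup_right
    exact hyx (hm.fact hne (hle hx) (hle' ha) (hle' hb) (hmd ha hx) (hmd hb hx) hab (hle hy))
  -- then `⟨x⟩ Z(G)` is normal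
  let N : Subgroup G := zpowers x ⊔ center G
  have hNn : N.Normal := by
    have hsub : ∀ g : G, ∀ z ∈ N, g * z * g⁻¹ ∈ N := by
      intro g z hz
      have hg : g ∈ P ⊔ C := htop ▸ mem_top g
      obtain ⟨u, hu, c, hc, rfl⟩ := mem_sup_of_normal_left.1 hg
      obtain ⟨w, hw, v, hv, rfl⟩ := mem_sup_of_normal_right.1 hz
      obtain ⟨i, rfl⟩ := mem_zpowers_iff.1 hw
      have h1 : u * c * (x ^ i * v) * (u * c)⁻¹ = (u * x * u⁻¹ * x⁻¹ * x) ^ i * v := by
        have h2 : c * x * c⁻¹ = x := by rw [(hmd hc hx).eq]; group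
        have h3 : (u * x * u⁻¹ * x⁻¹ * x) ^ i = u * (c * x * c⁻¹) ^ i * u⁻¹ := by
          rw [h2, inv_mul_cancel_right, conj_zpow]
        have h4 : v * (u * c)⁻¹ = (u * c)⁻¹ * v := (mem_center_iff.1 hv _).symm
        rw [h3, conj_zpow]
        calc u * c * (x ^ i * v) * (u * c)⁻¹ = u * c * x ^ i * (v * (u * c)⁻¹) := by group
          _ = u * (c * x ^ i * c⁻¹) * u⁻¹ * v := by rw [h4]; group
      rw [h1]
      have h5 : u * x * u⁻¹ * x⁻¹ ∈ N := (le_sup_right : center G ≤ N) (h.comm u hu x hx)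
      have h6 : x ∈ N := (le_sup_left : zpowers x ≤ N) (mem_zpowers x)
      exact mul_mem (zpow_mem (mul_mem h5 h6) i) ((le_sup_right : center G ≤ N) hv)
    exact ⟨fun z hz g => hsub g z hz⟩
  have hNab : ∀ a ∈ N, ∀ b ∈ N, Commute a b := by
    intro a ha b hb
    obtain ⟨w, hw, v, hv, rfl⟩ := mem_sup_of_normal_right.1 ha
    obtain ⟨w', hw', v', hv', rfl⟩ := mem_sup_of_normal_right.1 hb
    obtain ⟨i, rfl⟩ := mem_zpowers_iff.1 hw
    obtain ⟨j, rfl⟩ := mem_zpowers_iff.1 hw'
    have h1 : Commute (x ^ i) (x ^ j) := (Commute.refl x).zpow_zpow i j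
    have h2 : ∀ y, Commute v y := fun y => (mem_center_iff.1 hv y).symm
    have h3 : ∀ y, Commute v' y := fun y => (mem_center_iff.1 hv' y).symm
    exact ((h1.mul_right (h3 _).symm).mul_left (h2 _))
  exact hxc (abelian_le_center FT hm hns N hNab
    ((le_sup_left : zpowers x ≤ N) (mem_zpowers x)))

/-- `p'`-elements outside the centre act fixed point freely. -/
theorem mem_center_of_fixed [Finite G] (h : RadP G P p) (hp : p.Prime) (FT : FTh.{u})
    (hm : MinCA G) (hns : ¬ Group.IsSolvable G) {g : G} (hgc : g ∉ center G) {n : ℕ}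
    (hn : n.Coprime p) (hgn : g ^ n ∈ center G) {x : G} (hx : x ∈ P) (hgx : Commute x g) :
    x ∈ center G := by
  by_contra hxc
  have := h.normal
  have := Fact.mk hp
  obtain ⟨y₀, hy₀, hy₀x⟩ := h.exists_not_commute FT hm hns hx hxc
  have hHs : Group.IsSolvable (P ⊔ zpowers g : Subgroup G) :=
    solvable_sup P _ (h.solvable hp) (solvable_of_comm fun a b => by
      obtain ⟨i, hi⟩ := mem_zpowers_iff.1 a.2
      obtain ⟨j, hj⟩ := mem_zpowers_iff.1 b.2
      apply Subtype.ext
      change (a : G) * b = b * a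
      rw [← hi, ← hj]
      exact (Commute.refl g).zpow_zpow i j)
  have hH := ne_top_of_solvable hns hHs
  have hle : P ≤ P ⊔ zpowers g := le_sup_left
  have hgH : g ∈ P ⊔ zpowers g := (le_sup_right : zpowers g ≤ _) (mem_zpowers g)
  have hfix : ∀ c ∈ P, Commute c x → Commute c g := fun c hc hcx =>
    hm _ hH x (hle hx) y₀ (hle hy₀) c (hle hc) g hgH hcx hgx.symm hy₀x
  apply hgc
  apply h.mem_center_of_centralizer hp FT hm hns
  intro y hy
  have hy' : g * y * g⁻¹ ∈ P := h.normal.conj_mem y hy g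
  set c := y⁻¹ * (g * y * g⁻¹) with hc
  have hcP : c ∈ P := mul_mem (inv_mem hy) hy'
  have hcx : Commute c x := by
    -- `[x, y] = [x, y']`
    have h1 : g * (x * y * x⁻¹ * y⁻¹) * g⁻¹ = x * y * x⁻¹ * y⁻¹ := by
      rw [mem_center_iff.1 (h.comm x hx y hy) g, mul_inv_cancel_right]
    have h2 : g * (x * y * x⁻¹ * y⁻¹) * g⁻¹ = x * (g * y * g⁻¹) * x⁻¹ * (g * y * g⁻¹)⁻¹ := by
      have h3 : g * x * g⁻¹ = x := by rw [hgx.symm.eq, mul_inv_cancel_right]
      calc g * (x * y * x⁻¹ * y⁻¹) * g⁻¹ =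
          (g * x * g⁻¹) * (g * y * g⁻¹) * (g * x * g⁻¹)⁻¹ * (g * y * g⁻¹)⁻¹ := by group
        _ = _ := by rw [h3]
    rw [h1] at h2
    have h4 : y⁻¹ * (g * y * g⁻¹) * x⁻¹ = x⁻¹ * (y⁻¹ * (g * y * g⁻¹)) := by
      calc y⁻¹ * (g * y * g⁻¹) * x⁻¹ =
          y⁻¹ * x⁻¹ * (x * (g * y * g⁻¹) * x⁻¹ * (g * y * g⁻¹)⁻¹) * (g * y * g⁻¹) := by group
        _ = y⁻¹ * x⁻¹ * (x * y * x⁻¹ * y⁻¹) * (g * y * g⁻¹) := by rw [← h2]
        _ = x⁻¹ * (y⁻¹ * (g * y * g⁻¹)) := by group
    have h5 : Commute c x⁻¹ := h4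
    exact Commute.inv_right_iff.1 h5
  have hcg := hfix c hcP hcx
  have hgy : g * y * g⁻¹ = y * c := by rw [hc]; group
  -- iterate
  have hit : ∀ k : ℕ, g ^ k * y * (g ^ k)⁻¹ = y * c ^ k := by
    intro k
    induction k with
    | zero => simp
    | succ k ih =>
      have h1 : g ^ (k + 1) * y * (g ^ (k + 1))⁻¹ = g * (g ^ k * y * (g ^ k)⁻¹) * g⁻¹ := by
        rw [pow_succ']; group
      have h2 : g * c ^ k * g⁻¹ = c ^ k := by
        rw [(hcg.symm.pow_right k).eq, mul_inv_cancel_right]
      rw [h1, ih]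
      calc g * (y * c ^ k) * g⁻¹ = (g * y * g⁻¹) * (g * c ^ k * g⁻¹) := by group
        _ = y * c ^ (k + 1) := by rw [hgy, h2, pow_succ', mul_assoc]
  have h1 := hit n
  have h2 : g ^ n * y * (g ^ n)⁻¹ = y := by
    rw [← mem_center_iff.1 hgn y, mul_inv_cancel_right]
  rw [h2] at h1
  have h3 : c ^ n = 1 := by
    have : y * c ^ n = y * 1 := by rw [← h1, mul_one]
    exact mul_left_cancel this
  obtain ⟨m, hm'⟩ := h.isPGroup ⟨c, hcP⟩
  have h4 : c ^ p ^ m = 1 := congrArg Subtype.val hm'
  have h5 : orderOf c = 1 := Nat.eq_one_of_dvd_coprimes (hn.pow_right m)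
    (orderOf_dvd_of_pow_eq_one h3) (orderOf_dvd_of_pow_eq_one h4)
  have h6 : c = 1 := orderOf_eq_one_iff.1 h5
  rw [h6, mul_one] at hgy
  change g * y = y * g
  calc g * y = (g * y * g⁻¹) * g := by group
    _ = y * g := by rw [hgy]

/-- **Odd `p`.** -/
theorem false_of_odd [Finite G] (h : RadP G P p) (hp : p.Prime) (hp2 : p ≠ 2) (FT : FTh.{u})
    (hm : MinCA G) (hns : ¬ Group.IsSolvable G) : False := by
  have := h.normal
  have := Fact.mk hp
  have hc2 : Nat.Coprime 2 p := (Nat.coprime_primes Nat.prime_two hp).2 (Ne.symm hp2)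
  obtain ⟨S⟩ : Nonempty (Sylow 2 G) := Sylow.nonempty
  have hcs : Group.IsSolvable (center G) := solvable_of_comm fun a b =>
    Subtype.ext (mem_center_iff.1 b.2 a)
  refine false_of_rank_one FT hm hns P (center G) (h.solvable hp) hcs S (fun s _ hs => hs) ?_ ?_
  · intro s _ hs
    by_contra hcon
    push Not at hcon
    exact hs (h.mem_center_of_centralizer hp FT hm hns fun x hx => (hcon x hx).symm)
  · intro s hs t ht hs2 ht2 hst2
    by_contra hcon
    push Not at hcon
    obtain ⟨hsC, htC, hstC⟩ := hcon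
    -- involutions modulo the centre invert `P` modulo the centre
    have hinv : ∀ t : G, t ∉ center G → t * t ∈ center G → ∀ x ∈ P, t * x * t⁻¹ * x ∈ center G := by
      intro t htC ht2 x hx
      have hx' : t * x * t⁻¹ ∈ P := h.normal.conj_mem x hx t
      set u := t * x * t⁻¹ * x with hu
      have huP : u ∈ P := mul_mem hx' hx
      have htt : t * t * x = x * (t * t) := (mem_center_iff.1 ht2 x).symm
      -- `t u t⁻¹ = x (t x t⁻¹)`
      have h1 : t * u * t⁻¹ = x * (t * x * t⁻¹) := by
        calc t * u * t⁻¹ = (t * t * x) * (t * t)⁻¹ * (t * x * t⁻¹) := by rw [hu]; group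
          _ = x * (t * x * t⁻¹) := by rw [htt]; group
      set z := x * (t * x * t⁻¹) * x⁻¹ * (t * x * t⁻¹)⁻¹ with hz
      have hzc : z ∈ center G := h.comm x hx _ hx'
      have h2 : t * u * t⁻¹ = z * u := by
        rw [h1, hz, hu]; group
      have h3 : z * z = 1 := by
        have h4 : t * (t * u * t⁻¹) * t⁻¹ = u := by
          calc t * (t * u * t⁻¹) * t⁻¹ = (t * t) * u * (t * t)⁻¹ := by group
            _ = u := by rw [← mem_center_iff.1 ht2 u, mul_inv_cancel_right]
        have h5 : t * (t * u * t⁻¹) * t⁻¹ = z * z * u := by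
          rw [h2]
          calc t * (z * u) * t⁻¹ = (t * z) * u * t⁻¹ := by group
            _ = z * (t * u * t⁻¹) := by rw [mem_center_iff.1 hzc t]; group
            _ = z * z * u := by rw [h2]; exact (mul_assoc z z u).symm
        have h6 : z * z * u = 1 * u := by rw [← h5, h4, one_mul]
        exact mul_right_cancel h6
      have hzP : z ∈ P := mul_mem (mul_mem (mul_mem hx hx') (inv_mem hx)) (inv_mem hx')
      have h4 : z = 1 := by
        obtain ⟨m, hm'⟩ := h.isPGroup ⟨z, hzP⟩
        have h4 : z ^ p ^ m = 1 := congrArg Subtype.val hm'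
        rw [← pow_two] at h3
        have h5 : orderOf z = 1 := Nat.eq_one_of_dvd_coprimes (hc2.pow_right m)
          (orderOf_dvd_of_pow_eq_one h3) (orderOf_dvd_of_pow_eq_one h4)
        exact orderOf_eq_one_iff.1 h5
      rw [h4, one_mul] at h2
      have h5 : Commute u t := by
        change u * t = t * u
        calc u * t = (t * u * t⁻¹) * t := by rw [h2]
          _ = t * u := by group
      exact h.mem_center_of_fixed hp FT hm hns htC hc2 (by rw [pow_two]; exact ht2) huP h5
    apply h.noncentral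
    intro x hx
    have hexp : x * x ∈ center G := by
      have h1 := hinv t htC ht2 x hx
      have h2 := hinv s hsC hs2 _ (h.normal.conj_mem x hx t)
      have h3 := hinv (s * t) hstC hst2 x hx
      exact sq_mem_center_of_inv h1 h2 h3
    have hpow := h.pow x hx
    obtain ⟨k, hk⟩ := hp.odd_of_ne_two hp2
    rw [hk, pow_succ, pow_mul, pow_two] at hpow
    have h1 : x = ((x * x) ^ k)⁻¹ * ((x * x) ^ k * x) := by group
    rw [h1]
    exact mul_mem (inv_mem (pow_mem hexp k)) hpow

end RadP

end Cfsg.Agent.H577
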