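import Cfsg.Agent.H577.CARadTwo
import Cfsg.Agent.SmallSimple.KleinFourAut

/-!
# Minimal non-CA groups: the solvable radical is the centre
-/

set_option autoImplicit false

namespace Cfsg.Agent.H577

open Subgroup

universe u

variable {G : Type u} [Group G]

namespace RadP

variable {P : Subgroup G}

/-- **`p = 2`.** -/
theorem false_of_two [Finite G] (h : RadP G P 2) (FT : FTh.{u})
    (hm : MinCA G) (hns : ¬ Group.IsSolvable G) : False := by
  have hPn := h.normal
  have : Fact (Nat.Prime 2) := ⟨Nat.prime_two⟩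
  have hzc : ∀ {z : G}, z ∈ center G → ∀ g, g * z = z * g := fun {z} hz g => mem_center_iff.1 hz g
  have hcn : (center G).Normal := inferInstance
  obtain ⟨s, hsK, hss⟩ := h.exists_sq_center FT hm hns
  let W : Subgroup G :=
    { carrier := {x | x ∈ P ∧ s * x * s⁻¹ * x⁻¹ ∈ center G}
      one_mem' := ⟨one_mem _, by rw [mul_one, mul_inv_cancel, inv_one, one_mul]; exact one_mem _⟩
      mul_mem' := by
        rintro a b ⟨ha, ha'⟩ ⟨hb, hb'⟩
        refine ⟨mul_mem ha hb, ?_⟩
        have h3 : s * (a * b) * s⁻¹ * (a * b)⁻¹ =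
            (s * a * s⁻¹) * (s * b * s⁻¹ * b⁻¹) * a⁻¹ := by group
        rw [h3, hzc hb', mul_assoc]
        exact mul_mem hb' ha'
      inv_mem' := by
        rintro a ⟨ha, ha'⟩
        refine ⟨inv_mem ha, ?_⟩
        have h3 : s * a⁻¹ * s⁻¹ * a⁻¹⁻¹ = a⁻¹ * ((s * a * s⁻¹ * a⁻¹)⁻¹ * a) := by group
        rw [h3, ← hzc (inv_mem ha') a, inv_mul_cancel_left]
        exact inv_mem ha' }
  have hHs : Group.IsSolvable (P ⊔ zpowers s : Subgroup G) :=
    solvable_sup P _ (h.solvable Nat.prime_two) (solvable_of_comm fun a b => by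
      obtain ⟨i, hi⟩ := mem_zpowers_iff.1 a.2
      obtain ⟨j, hj⟩ := mem_zpowers_iff.1 b.2
      apply Subtype.ext
      change (a : G) * b = b * a
      rw [← hi, ← hj]
      exact (Commute.refl s).zpow_zpow i j)
  have hH := ne_top_of_solvable hns hHs
  have hle : P ≤ P ⊔ zpowers s := le_sup_left
  have hsH : s ∈ P ⊔ zpowers s := (le_sup_right : zpowers s ≤ _) (mem_zpowers s)
  -- facts on `a = x (s x s⁻¹)`
  have hsx : ∀ x : G, s * (s * x * s⁻¹) * s⁻¹ = x := by
    intro x
    calc s * (s * x * s⁻¹) * s⁻¹ = (s * s) * x * (s * s)⁻¹ := by group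
      _ = x := by rw [← hzc hss x, mul_inv_cancel_right]
  have key : ∀ x ∈ P, x ∉ W → ∃ a ∈ P, a ∉ center G ∧ (∀ y ∈ W, Commute y a) ∧
      (∀ y ∈ P, Commute y a → y ∈ W) ∧ (∀ y ∈ W, Commute y (x * s)) := by
    intro x hx hxW
    have hx' : s * x * s⁻¹ ∈ P := hPn.conj_mem x hx s
    have hxW' : s * x * s⁻¹ * x⁻¹ ∉ center G := fun h1 => hxW ⟨hx, h1⟩
    set a := x * (s * x * s⁻¹) with ha
    have haP : a ∈ P := mul_mem hx hx'
    have h1 : s * a * s⁻¹ = (s * x * s⁻¹) * x := by
      calc s * a * s⁻¹ = (s * x * s⁻¹) * (s * (s * x * s⁻¹) * s⁻¹) := by rw [ha]; group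
        _ = (s * x * s⁻¹) * x := by rw [hsx]
    have h2 : Commute (x * s) a := by
      change x * s * a = a * (x * s)
      calc x * s * a = x * (s * a * s⁻¹) * s := by group
        _ = a * (x * s) := by rw [h1, ha]; group
    have hac : a ∉ center G := by
      intro h3
      apply hxW'
      have h4 : x * x ∈ center G := by rw [← pow_two]; exact h.pow x hx
      have h5 : x⁻¹ * (s * x * s⁻¹) ∈ center G := by
        have h6 : x⁻¹ * (s * x * s⁻¹) = (x * x)⁻¹ * a := by rw [ha]; group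
        rw [h6]
        exact mul_mem (inv_mem h4) h3
      have h6 := hcn.conj_mem _ h5 x
      rwa [mul_inv_cancel_left] at h6
    obtain ⟨y₀, hy₀, hy₀a⟩ := h.exists_not_commute FT hm hns haP hac
    have hxs : x * s ∈ P ⊔ zpowers s := mul_mem (hle hx) hsH
    have hCA : ∀ y ∈ P, Commute y a → Commute y (x * s) := fun y hy hya =>
      hm _ hH a (hle haP) y₀ (hle hy₀) y (hle hy) (x * s) hxs hya h2 hy₀a
    have hWa : ∀ y ∈ W, Commute y a := by
      rintro y ⟨hy, hyW⟩
      have hsy : s * y * s⁻¹ = (s * y * s⁻¹ * y⁻¹) * y := by group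
      have hc1 := h.comm y hy x hx
      -- `[y, s x s⁻¹] = [y, x]`
      have h3 : y * (s * x * s⁻¹) * y⁻¹ * (s * x * s⁻¹)⁻¹ = y * x * y⁻¹ * x⁻¹ := by
        have h4 : s * (y * x * y⁻¹ * x⁻¹) * s⁻¹ = y * x * y⁻¹ * x⁻¹ := by
          rw [hzc hc1 s, mul_inv_cancel_right]
        have h5 : s * (y * x * y⁻¹ * x⁻¹) * s⁻¹ =
            (s * y * s⁻¹) * (s * x * s⁻¹) * (s * y * s⁻¹)⁻¹ * (s * x * s⁻¹)⁻¹ := by group
        set z := s * y * s⁻¹ * y⁻¹ with hz
        have h6 : (s * y * s⁻¹) * (s * x * s⁻¹) * (s * y * s⁻¹)⁻¹ * (s * x * s⁻¹)⁻¹ =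
            y * (s * x * s⁻¹) * y⁻¹ * (s * x * s⁻¹)⁻¹ := by
          rw [hsy, mul_inv_rev]
          calc z * y * (s * x * s⁻¹) * (y⁻¹ * z⁻¹) * (s * x * s⁻¹)⁻¹ =
              (z * (y * (s * x * s⁻¹) * y⁻¹)) * z⁻¹ * (s * x * s⁻¹)⁻¹ := by group
            _ = y * (s * x * s⁻¹) * y⁻¹ * (s * x * s⁻¹)⁻¹ := by
              rw [← hzc hyW, mul_inv_cancel_right]
        rw [← h6, ← h5, h4]
      set c := y * x * y⁻¹ * x⁻¹ with hc
      have hyx : y * x * y⁻¹ = c * x := by rw [hc]; group
      have hyx' : y * (s * x * s⁻¹) * y⁻¹ = c * (s * x * s⁻¹) := by rw [← h3]; group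
      have hcc : c * c = 1 := by
        have h4 : x * x ∈ center G := by rw [← pow_two]; exact h.pow x hx
        have h5 : y * (x * x) * y⁻¹ = x * x := by rw [hzc h4 y, mul_inv_cancel_right]
        have h6 : y * (x * x) * y⁻¹ = c * c * (x * x) := by
          calc y * (x * x) * y⁻¹ = (y * x * y⁻¹) * (y * x * y⁻¹) := by group
            _ = c * (x * c) * x := by rw [hyx]; group
            _ = c * c * (x * x) := by rw [hzc hc1 x]; group
        have h7 : c * c * (x * x) = 1 * (x * x) := by rw [← h6, h5, one_mul]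
        exact mul_right_cancel h7
      have h4 : y * a * y⁻¹ = a := by
        calc y * a * y⁻¹ = (y * x * y⁻¹) * (y * (s * x * s⁻¹) * y⁻¹) := by rw [ha]; group
          _ = c * (x * c) * (s * x * s⁻¹) := by rw [hyx, hyx']; group
          _ = c * c * (x * (s * x * s⁻¹)) := by rw [hzc hc1 x]; group
          _ = a := by rw [hcc, one_mul]
      change y * a = a * y
      calc y * a = (y * a * y⁻¹) * y := by group
        _ = a * y := by rw [h4]
    refine ⟨a, haP, hac, hWa, ?_, fun y hy => hCA y hy.1 (hWa y hy)⟩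
    intro y hy hya
    refine ⟨hy, ?_⟩
    have h3 := (hCA y hy hya).eq
    -- `s y s⁻¹ = x⁻¹ y x`
    have h4 : s * y * s⁻¹ = x⁻¹ * y * x := by
      calc s * y * s⁻¹ = x⁻¹ * (x * s * y) * s⁻¹ := by group
        _ = x⁻¹ * (y * (x * s)) * s⁻¹ := by rw [h3]
        _ = x⁻¹ * y * x := by group
    rw [h4]
    have := h.comm _ (inv_mem hx) y hy
    rwa [inv_inv] at this
  -- there is an element outside `W`
  obtain ⟨x₀, hx₀, hx₀W⟩ : ∃ x ∈ P, x ∉ W := by
    by_contra hcon
    push Not at hcon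
    exact hsK fun d hd => (hcon d hd).2
  obtain ⟨a, haP, hac, hWa, haW, hWx⟩ := key x₀ hx₀ hx₀W
  have haW' : a ∈ W := haW a haP (Commute.refl a)
  have hWab : ∀ u ∈ W, ∀ v ∈ W, Commute u v := by
    intro u hu v hv
    obtain ⟨y₀, hy₀, hy₀a⟩ := h.exists_not_commute FT hm hns haP hac
    exact hm _ hH a (hle haP) y₀ (hle hy₀) u (hle hu.1) v (hle hv.1) (hWa u hu) (hWa v hv) hy₀a
  have hidx : ∀ u ∈ P, u ∉ W → ∀ v ∈ P, v ∉ W → u * v⁻¹ ∈ W := by
    intro u hu huW v hv hvW
    obtain ⟨b, hbP, _, hWb, hbW, hWu⟩ := key u hu huW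
    obtain ⟨_, _, _, _, _, hWv⟩ := key v hv hvW
    have hbW' : b ∈ W := hbW b hbP (Commute.refl b)
    apply hbW _ (mul_mem hu (inv_mem hv))
    have h1 := (hWu b hbW').mul_right (hWv b hbW').inv_right
    have h2 : u * s * (v * s)⁻¹ = u * v⁻¹ := by group
    rw [h2] at h1
    exact h1.symm
  -- `W` is not normal
  obtain ⟨g, y, hy, hgy⟩ : ∃ g : G, ∃ y ∈ W, g * y * g⁻¹ ∉ W := by
    by_contra hcon
    push Not at hcon
    have hWn : W.Normal := ⟨fun y hy g => hcon g y hy⟩
    exact hac (abelian_le_center FT hm hns W hWab haW')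
  -- an element of `W` outside `B = g W g⁻¹`
  obtain ⟨c, hcW, hcB⟩ : ∃ c ∈ W, g⁻¹ * c * g ∉ W := by
    by_contra hcon
    push Not at hcon
    apply hgy
    have h1 : W.map (MulAut.conj g⁻¹).toMonoidHom ≤ W := by
      rintro _ ⟨c, hc, rfl⟩
      change g⁻¹ * c * g⁻¹⁻¹ ∈ W
      rw [inv_inv]
      exact hcon c hc
    have h2 : W.map (MulAut.conj g⁻¹).toMonoidHom = W := by
      apply Subgroup.eq_of_le_of_card_ge h1
      rw [card_map_of_injective (MulAut.conj g⁻¹).injective]
    have h3 : y ∈ W.map (MulAut.conj g⁻¹).toMonoidHom := by rw [h2]; exact hy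
    obtain ⟨v, hv, hvy⟩ := h3
    have h4 : g * y * g⁻¹ = v := by
      rw [← hvy]
      change g * (g⁻¹ * v * g⁻¹⁻¹) * g⁻¹ = v
      group
    rw [h4]
    exact hv
  set b := g * y * g⁻¹ with hb
  have hbP : b ∈ P := hPn.conj_mem y hy.1 g
  have hcP : c ∈ P := hcW.1
  have hWB : ∀ u ∈ W, g⁻¹ * u * g ∈ W → u ∈ center G := by
    intro u hu huB
    by_contra huc
    obtain ⟨v, hv, hvu⟩ := h.exists_not_commute FT hm hns hu.1 huc
    apply hvu
    have hub : Commute b u := by
      have h1 := hWab _ hy _ huB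
      have h2 := commute_conj_iff.2 h1
      rwa [← hb] at h2
    by_cases hvW : v ∈ W
    · exact hWab v hvW u hu
    · have h1 := hidx v hv hvW b hbP hgy
      have h2 := (hWab _ h1 u hu).mul_left hub
      rwa [inv_mul_cancel_right] at h2
  -- `P / (P ∩ Z(G))` has at most four elements
  set f := QuotientGroup.mk' (center G) with hf
  have hker : ∀ x : G, f x = 1 ↔ x ∈ center G := fun x => QuotientGroup.eq_one_iff x
  have hsplit : ∀ u ∈ W, f u = 1 ∨ f u = f c := by
    intro u hu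
    by_cases huB : g⁻¹ * u * g ∈ W
    · exact Or.inl ((hker u).2 (hWB u hu huB))
    · right
      have h1 : g⁻¹ * (u * c⁻¹) * g ∈ W := by
        have h2 := hidx (g⁻¹ * u * g) (by
          have := hPn.conj_mem u hu.1 g⁻¹
          rwa [inv_inv] at this) huB (g⁻¹ * c * g) (by
          have := hPn.conj_mem c hcP g⁻¹
          rwa [inv_inv] at this) hcB
        have h3 : g⁻¹ * u * g * (g⁻¹ * c * g)⁻¹ = g⁻¹ * (u * c⁻¹) * g := by group
        rwa [h3] at h2
      have h2 := (hker _).2 (hWB _ (mul_mem hu (inv_mem hcW)) h1)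
      rw [map_mul, map_inv] at h2
      exact mul_inv_eq_one.1 h2
  have hfour : ∀ u ∈ P, f u = 1 ∨ f u = f c ∨ f u = f b ∨ f u = f c * f b := by
    intro u hu
    by_cases huW : u ∈ W
    · rcases hsplit u huW with h1 | h1
      · exact Or.inl h1
      · exact Or.inr (Or.inl h1)
    · have h1 := hidx u hu huW b hbP hgy
      have h2 : f u = f (u * b⁻¹) * f b := by rw [← map_mul, inv_mul_cancel_right]
      rcases hsplit _ h1 with h3 | h3
      · right; right; left
        rw [h2, h3, one_mul]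
      · right; right; right
        rw [h2, h3]
  set V := P.map f with hV
  have hcard : Nat.card V ≤ 4 := by
    have h1 : (V : Set (G ⧸ center G)) ⊆ {1, f c, f b, f c * f b} := by
      rintro _ ⟨u, hu, rfl⟩
      rcases hfour u hu with h1 | h1 | h1 | h1 <;> simp [h1]
    calc Nat.card V = (V : Set (G ⧸ center G)).ncard := rfl
      _ ≤ ({1, f c, f b, f c * f b} : Set (G ⧸ center G)).ncard := Set.ncard_le_ncard h1 (Set.toFinite _)
      _ ≤ 4 := by
        classical
        refine (Set.ncard_insert_le _ _).trans ?_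
        refine Nat.succ_le_succ ((Set.ncard_insert_le _ _).trans ?_)
        refine Nat.succ_le_succ ((Set.ncard_insert_le _ _).trans ?_)
        rw [Set.ncard_singleton]
  have hVn : V.Normal := hPn.map f (QuotientGroup.mk'_surjective _)
  have hAut : Group.IsSolvable (MulAut V) := by
    apply solvable_of_not_four_dvd FT
    intro h4
    have h1 := h4.trans (Cfsg.Agent.SmallSimple.KleinFourAut.card_mulAut_dvd V)
    have h2 : (Nat.card V - 1).factorial ∣ Nat.factorial 3 := Nat.factorial_dvd_factorial (by omega)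
    have h3 := h1.trans h2
    have h5 : Nat.factorial 3 = 6 := rfl
    rw [h5] at h3
    omega
  let ψ : G →* MulAut V := (MulAut.conjNormal (H := V)).comp f
  have hψ : ψ.ker ≤ kerP P := by
    intro g hg d hd
    rw [MonoidHom.mem_ker] at hg
    have h1 := congrArg (fun e : MulAut V => ((e ⟨f d, ⟨d, hd, rfl⟩⟩ : V) : G ⧸ center G)) hg
    have h2 : f g * f d * (f g)⁻¹ = f d := h1
    rw [← hker, map_mul, map_mul, map_mul, map_inv, map_inv, h2, mul_inv_cancel]
  have hψs : Group.IsSolvable ψ.ker := solvable_of_le hψ (h.kerP_le_solvable FT hm hns)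
  exact hns (Group.isSolvable_of_ker_le_range ψ.ker.subtype ψ (by rw [range_subtype]))

end RadP

/-- **The solvable radical of a nonsolvable minimal non-CA group is its centre.** -/
theorem solvable_le_center [Finite G] (FT : FTh.{u}) (hm : MinCA G) (hns : ¬ Group.IsSolvable G)
    (N : Subgroup G) (hN : N.Normal) (hNs : Group.IsSolvable N) : N ≤ center G := by
  by_contra hNc
  obtain ⟨p, hp, P, hP⟩ := exists_radP N hN hNs hNc
  by_cases hp2 : p = 2
  · subst hp2
    exact hP.false_of_two FT hm hns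
  · exact hP.false_of_odd hp hp2 FT hm hns

end Cfsg.Agent.H577
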