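import Cfsg.Agent.H577.CARad
import Cfsg.Agent.Characters.CNBasic
import Cfsg.Agent.Involutions.BaerSuzuki

/-!
# Minimal non-CA groups: the solvable radical is the centre (`p = 2`)
-/

set_option autoImplicit false

namespace Cfsg.Agent.H577

open Subgroup

universe u

variable {G : Type u} [Group G]

/-- the elements that centralize `P` modulo the centre of `G` -/
def kerP (P : Subgroup G) [hP : P.Normal] : Subgroup G where
  carrier := {g | ∀ d ∈ P, g * d * g⁻¹ * d⁻¹ ∈ center G}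
  one_mem' := by
    intro d _
    rw [one_mul, inv_one, mul_one, mul_inv_cancel]
    exact one_mem _
  mul_mem' := by
    intro a b ha hb d hd
    have h1 := hb d hd
    have h2 := ha _ (hP.conj_mem d hd b)
    have h4 : a * b * d * (a * b)⁻¹ * d⁻¹ =
      (a * (b * d * b⁻¹) * a⁻¹ * (b * d * b⁻¹)⁻¹) * (b * d * b⁻¹ * d⁻¹) := by group
    rw [h4]
    exact mul_mem h2 h1
  inv_mem' := by
    intro a ha d hd
    have h1 := ha _ (hP.conj_mem d hd a⁻¹)
    have h4 : a⁻¹ * d * a⁻¹⁻¹ * d⁻¹ = (a * (a⁻¹ * d * a⁻¹⁻¹) * a⁻¹ * (a⁻¹ * d * a⁻¹⁻¹)⁻¹)⁻¹ := by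
      group
    rw [h4]
    exact inv_mem h1

theorem mem_kerP {P : Subgroup G} [hP : P.Normal] {g : G} :
    g ∈ kerP P ↔ ∀ d ∈ P, g * d * g⁻¹ * d⁻¹ ∈ center G := Iff.rfl

instance kerP_normal (P : Subgroup G) [hP : P.Normal] : (kerP P).Normal := by
  refine ⟨fun a ha g d hd => ?_⟩
  have h1 := ha _ (hP.conj_mem d hd g⁻¹)
  have h4 : g * a * g⁻¹ * d * (g * a * g⁻¹)⁻¹ * d⁻¹ =
      g * (a * (g⁻¹ * d * g⁻¹⁻¹) * a⁻¹ * (g⁻¹ * d * g⁻¹⁻¹)⁻¹) * g⁻¹ := by group
  rw [h4]
  exact (inferInstance : (center G).Normal).conj_mem _ h1 g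

/-- commutators of elements of `kerP` centralize `P` -/
theorem kerP_comm {P : Subgroup G} [hP : P.Normal] {g h : G} (hg : g ∈ kerP P) (hh : h ∈ kerP P)
    {d : G} (hd : d ∈ P) : Commute (g * h * g⁻¹ * h⁻¹) d := by
  have hzc : ∀ {z : G}, z ∈ center G → ∀ g, g * z = z * g := fun {z} hz g => mem_center_iff.1 hz g
  have key : ∀ g ∈ kerP P, ∀ h ∈ kerP P, ∀ d ∈ P, g * h * d * (g * h)⁻¹ =
      (h * d * h⁻¹ * d⁻¹) * (g * d * g⁻¹ * d⁻¹) * d := by
    intro g hg h hh d hd
    have h1 := hzc (hh d hd) g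
    calc g * h * d * (g * h)⁻¹ = (g * (h * d * h⁻¹ * d⁻¹)) * d * g⁻¹ := by group
      _ = _ := by rw [h1]; group
  have hd' : g⁻¹ * (h⁻¹ * d * h) * g ∈ P := by
    have := hP.conj_mem _ (hP.conj_mem d hd h⁻¹) g⁻¹
    rwa [inv_inv, inv_inv] at this
  have h1 := key g hg h hh _ hd'
  have h2 := key h hh g hg _ hd'
  have h3 : g * h * (g⁻¹ * (h⁻¹ * d * h) * g) * (g * h)⁻¹ =
      h * g * (g⁻¹ * (h⁻¹ * d * h) * g) * (h * g)⁻¹ := by
    rw [h1, h2]
    congr 1
    exact (hzc (hg _ hd') _)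
  have h4 : h * g * (g⁻¹ * (h⁻¹ * d * h) * g) * (h * g)⁻¹ = d := by group
  rw [h4] at h3
  change g * h * g⁻¹ * h⁻¹ * d = d * (g * h * g⁻¹ * h⁻¹)
  calc g * h * g⁻¹ * h⁻¹ * d =
      (g * h * (g⁻¹ * (h⁻¹ * d * h) * g) * (g * h)⁻¹) * (g * h * g⁻¹ * h⁻¹) := by group
    _ = d * (g * h * g⁻¹ * h⁻¹) := by rw [h3]

/-- Commutation with `w` is surjective modulo the centre when it is injective. -/
theorem exists_comm_mul [Finite G] (A : Subgroup G) [hA : A.Normal]
    (hAc : ∀ a ∈ A, ∀ b ∈ A, a * b * a⁻¹ * b⁻¹ ∈ center G) (w : G)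
    (hw : ∀ a ∈ A, w * a * w⁻¹ * a⁻¹ ∈ center G → a ∈ center G) :
    ∀ b ∈ A, ∃ a ∈ A, b⁻¹ * (w * a * w⁻¹ * a⁻¹) ∈ center G := by
  set Z : Subgroup A := (center G).subgroupOf A with hZ
  have hZn : Z.Normal := inferInstance
  have hV : ∀ u v : A ⧸ Z, u * v = v * u := by
    intro u v
    obtain ⟨x, rfl⟩ := QuotientGroup.mk'_surjective _ u
    obtain ⟨y, rfl⟩ := QuotientGroup.mk'_surjective _ v
    rw [← map_mul, ← map_mul, eq_comm, QuotientGroup.mk'_apply, QuotientGroup.mk'_apply,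
      QuotientGroup.eq, hZ, mem_subgroupOf]
    have h1 := hAc _ (inv_mem x.2) _ (inv_mem y.2)
    have h2 : (((y * x)⁻¹ * (x * y) : A) : G) = (x : G)⁻¹ * (y : G)⁻¹ * (x : G)⁻¹⁻¹ * (y : G)⁻¹⁻¹ := by
      push_cast
      group
    rw [h2]
    exact h1
  let cj : A →* A := (MulAut.conjNormal w : MulAut A).toMonoidHom
  have hcj : ∀ a : A, ((cj a : A) : G) = w * a * w⁻¹ := fun a => MulAut.conjNormal_apply w a
  have hcjZ : Z ≤ Z.comap cj := by
    intro a ha
    rw [mem_comap, hZ, mem_subgroupOf, hcj]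
    exact (inferInstance : (center G).Normal).conj_mem _ ha w
  let cb : A ⧸ Z →* A ⧸ Z := QuotientGroup.map Z Z cj hcjZ
  let T : A ⧸ Z → A ⧸ Z := fun v => cb v * v⁻¹
  have hinj : Function.Injective T := by
    intro u v huv
    change cb u * u⁻¹ = cb v * v⁻¹ at huv
    have h1 : cb (v⁻¹ * u) * (v⁻¹ * u)⁻¹ = 1 := by
      rw [map_mul, map_inv, mul_inv_rev, inv_inv]
      calc (cb v)⁻¹ * cb u * (u⁻¹ * v) = (cb v)⁻¹ * (cb u * u⁻¹) * v := by group
        _ = 1 := by rw [huv]; group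
    obtain ⟨x, hx⟩ := QuotientGroup.mk'_surjective _ (v⁻¹ * u)
    rw [← hx] at h1
    have h2 : (QuotientGroup.mk' Z) (cj x * x⁻¹) = 1 := by
      rw [map_mul, map_inv]; exact h1
    have h3 : cj x * x⁻¹ ∈ Z := (QuotientGroup.eq_one_iff _).1 h2
    have h4 : w * x * w⁻¹ * (x : G)⁻¹ ∈ center G := by
      have := h3
      rw [hZ, mem_subgroupOf] at this
      push_cast [hcj] at this
      exact this
    have h5 : x ∈ Z := hw x x.2 h4
    have h6 : QuotientGroup.mk' Z x = 1 := (QuotientGroup.eq_one_iff _).2 h5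
    rw [hx] at h6
    exact (inv_mul_eq_one.1 h6).symm
  have hsurj := Finite.surjective_of_injective hinj
  intro b hb
  obtain ⟨v, hv⟩ := hsurj (QuotientGroup.mk' Z ⟨b, hb⟩)
  obtain ⟨a, rfl⟩ := QuotientGroup.mk'_surjective _ v
  refine ⟨a, a.2, ?_⟩
  have h1 : QuotientGroup.mk' Z (cj a * a⁻¹) = QuotientGroup.mk' Z ⟨b, hb⟩ := by
    rw [← hv, map_mul, map_inv]; rfl
  rw [QuotientGroup.mk'_apply, QuotientGroup.mk'_apply, eq_comm, QuotientGroup.eq, hZ,
    mem_subgroupOf] at h1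
  push_cast [hcj] at h1
  exact h1

namespace RadP

variable {P : Subgroup G}

theorem kerP_le_solvable [Finite G] (h : RadP G P 2) (FT : FTh.{u}) (hm : MinCA G)
    (hns : ¬ Group.IsSolvable G) [P.Normal] : Group.IsSolvable (kerP P) := by
  apply solvable_of_quot ((center G).subgroupOf (kerP P))
  · exact solvable_of_comm fun a b => by
      apply Subtype.ext
      apply Subtype.ext
      exact mem_center_iff.1 (mem_subgroupOf.1 b.2) _
  · apply solvable_of_comm
    intro a b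
    obtain ⟨x, rfl⟩ := QuotientGroup.mk'_surjective _ a
    obtain ⟨y, rfl⟩ := QuotientGroup.mk'_surjective _ b
    change QuotientGroup.mk' _ x * QuotientGroup.mk' _ y = QuotientGroup.mk' _ y * QuotientGroup.mk' _ x
    rw [← map_mul, ← map_mul, eq_comm, QuotientGroup.mk'_apply, QuotientGroup.mk'_apply,
      QuotientGroup.eq, mem_subgroupOf]
    have h1 : (x : G)⁻¹ * (y : G)⁻¹ * (x : G)⁻¹⁻¹ * (y : G)⁻¹⁻¹ ∈ center G :=
      h.mem_center_of_centralizer Nat.prime_two FT hm hns fun d hd =>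
        kerP_comm (inv_mem x.2) (inv_mem y.2) hd
    have h2 : (((y * x)⁻¹ * (x * y) : kerP P) : G) =
        (x : G)⁻¹ * (y : G)⁻¹ * (x : G)⁻¹⁻¹ * (y : G)⁻¹⁻¹ := by
      push_cast
      group
    rw [h2]
    exact h1

theorem kerP_sq [Finite G] (h : RadP G P 2) (FT : FTh.{u}) (hm : MinCA G)
    (hns : ¬ Group.IsSolvable G) [P.Normal] {k : G} (hk : k ∈ kerP P) : k * k ∈ center G := by
  apply h.mem_center_of_centralizer Nat.prime_two FT hm hns
  intro x hx
  have hz := hk x hx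
  set z := k * x * k⁻¹ * x⁻¹ with hzdef
  have h1 : k * x * k⁻¹ = z * x := by rw [hzdef]; group
  have hx2 : x * x ∈ center G := by rw [← pow_two]; exact h.pow x hx
  have h2 : z * z = 1 := by
    have h3 : k * (x * x) * k⁻¹ = x * x := by
      rw [mem_center_iff.1 hx2 k, mul_inv_cancel_right]
    have h4 : k * (x * x) * k⁻¹ = z * z * (x * x) := by
      calc k * (x * x) * k⁻¹ = (k * x * k⁻¹) * (k * x * k⁻¹) := by group
        _ = z * (x * z) * x := by rw [h1]; group
        _ = z * z * (x * x) := by rw [mem_center_iff.1 hz x]; group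
    have h5 : z * z * (x * x) = 1 * (x * x) := by rw [← h4, h3, one_mul]
    exact mul_right_cancel h5
  have h3 : k * k * x * (k * k)⁻¹ = x := by
    calc k * k * x * (k * k)⁻¹ = k * (k * x * k⁻¹) * k⁻¹ := by group
      _ = (k * z) * x * k⁻¹ := by rw [h1]; group
      _ = z * (k * x * k⁻¹) := by rw [mem_center_iff.1 hz k]; group
      _ = z * z * x := by rw [h1]; exact (mul_assoc z z x).symm
      _ = x := by rw [h2, one_mul]
  change k * k * x = x * (k * k)
  calc k * k * x = (k * k * x * (k * k)⁻¹) * (k * k) := by group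
    _ = x * (k * k) := by rw [h3]

/-- commutators with an element of odd order modulo the centre -/
theorem aux_fixed [Finite G] (h : RadP G P 2) (FT : FTh.{u}) (hm : MinCA G)
    (hns : ¬ Group.IsSolvable G) {w : G} {n : ℕ} (hn : Odd n)
    (hwn : w ^ n ∈ center G) (hwc : w ∉ center G) {x : G} (hx : x ∈ P)
    (hwx : w * x * w⁻¹ * x⁻¹ ∈ center G) : x ∈ center G := by
  have hPn := h.normal
  set z := w * x * w⁻¹ * x⁻¹ with hz
  have hzP : z ∈ P := mul_mem (hPn.conj_mem x hx w) (inv_mem hx)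
  have h1 : w * x * w⁻¹ = z * x := by rw [hz]; group
  have hit : ∀ k : ℕ, w ^ k * x * (w ^ k)⁻¹ = z ^ k * x := by
    intro k
    induction k with
    | zero => simp
    | succ k ih =>
      calc w ^ (k + 1) * x * (w ^ (k + 1))⁻¹ = w * (w ^ k * x * (w ^ k)⁻¹) * w⁻¹ := by
            rw [pow_succ']; group
        _ = (w * z ^ k) * x * w⁻¹ := by rw [ih]; group
        _ = z ^ k * (w * x * w⁻¹) := by rw [mem_center_iff.1 (pow_mem hwx k) w]; group
        _ = z ^ (k + 1) * x := by rw [h1, pow_succ, ← mul_assoc]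
  have h2 := hit n
  rw [← mem_center_iff.1 hwn x, mul_inv_cancel_right] at h2
  have h3 : z ^ n = 1 := by
    have : z ^ n * x = 1 * x := by rw [← h2, one_mul]
    exact mul_right_cancel this
  obtain ⟨m, hm'⟩ := h.isPGroup ⟨z, hzP⟩
  have h4 : z ^ 2 ^ m = 1 := congrArg Subtype.val hm'
  have hc : Nat.Coprime n 2 := Nat.coprime_two_right.2 hn
  have h5 : orderOf z = 1 := Nat.eq_one_of_dvd_coprimes (hc.pow_right m)
    (orderOf_dvd_of_pow_eq_one h3) (orderOf_dvd_of_pow_eq_one h4)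
  have h6 : z = 1 := orderOf_eq_one_iff.1 h5
  refine h.mem_center_of_fixed Nat.prime_two FT hm hns hwc hc hwn hx ?_
  change x * w = w * x
  rw [h6, one_mul] at h1
  calc x * w = (w * x * w⁻¹) * w := by rw [h1]
    _ = w * x := by group

/-- elements of `kerP` commuting with `w` modulo the centre -/
theorem aux_kerP [Finite G] (h : RadP G P 2) (FT : FTh.{u}) (hm : MinCA G)
    (hns : ¬ Group.IsSolvable G) [P.Normal] {w : G} {n : ℕ} (hn : Odd n)
    (hwn : w ^ n ∈ center G) (hwc : w ∉ center G) {k : G} (hk : k ∈ kerP P)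
    (hwk : w * k * w⁻¹ * k⁻¹ ∈ center G) : k ∈ center G := by
  set z := w * k * w⁻¹ * k⁻¹ with hz
  have h1 : w * k * w⁻¹ = z * k := by rw [hz]; group
  have hit : ∀ j : ℕ, w ^ j * k * (w ^ j)⁻¹ = z ^ j * k := by
    intro j
    induction j with
    | zero => simp
    | succ j ih =>
      calc w ^ (j + 1) * k * (w ^ (j + 1))⁻¹ = w * (w ^ j * k * (w ^ j)⁻¹) * w⁻¹ := by
            rw [pow_succ']; group
        _ = (w * z ^ j) * k * w⁻¹ := by rw [ih]; group
        _ = z ^ j * (w * k * w⁻¹) := by rw [mem_center_iff.1 (pow_mem hwk j) w]; group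
        _ = z ^ (j + 1) * k := by rw [h1, pow_succ, ← mul_assoc]
  have h2 := hit n
  rw [← mem_center_iff.1 hwn k, mul_inv_cancel_right] at h2
  have h3 : z ^ n = 1 := by
    have : z ^ n * k = 1 * k := by rw [← h2, one_mul]
    exact mul_right_cancel this
  have h4 : z ^ 2 = 1 := by
    have hk2 := h.kerP_sq FT hm hns hk
    have h5 : w * (k * k) * w⁻¹ = k * k := by
      rw [mem_center_iff.1 hk2 w, mul_inv_cancel_right]
    have h6 : w * (k * k) * w⁻¹ = z * z * (k * k) := by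
      calc w * (k * k) * w⁻¹ = (w * k * w⁻¹) * (w * k * w⁻¹) := by group
        _ = z * (k * z) * k := by rw [h1]; group
        _ = z * z * (k * k) := by rw [mem_center_iff.1 hwk k]; group
    have h7 : z * z * (k * k) = 1 * (k * k) := by rw [← h6, h5, one_mul]
    rw [pow_two]
    exact mul_right_cancel h7
  have hc : Nat.Coprime n 2 := Nat.coprime_two_right.2 hn
  have h5 : orderOf z = 1 := Nat.eq_one_of_dvd_coprimes hc
    (orderOf_dvd_of_pow_eq_one h3) (orderOf_dvd_of_pow_eq_one h4)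
  have h6 : z = 1 := orderOf_eq_one_iff.1 h5
  rw [h6, one_mul] at h1
  -- `k` commutes with the commutators `[w, x]`
  have h7 : ∀ x ∈ P, Commute k (w * x * w⁻¹ * x⁻¹) := by
    intro x hx
    have hzx := hk x hx
    set y := k * x * k⁻¹ * x⁻¹ with hy
    have h8 : k * x * k⁻¹ = y * x := by rw [hy]; group
    have h10 : w * k = k * w := by
      calc w * k = (w * k * w⁻¹) * w := by group
        _ = k * w := by rw [h1]
    have h9 : k * w * k⁻¹ = w := by rw [← h10, mul_inv_cancel_right]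
    have h11 : k * (w * x * w⁻¹ * x⁻¹) * k⁻¹ = w * x * w⁻¹ * x⁻¹ := by
      calc k * (w * x * w⁻¹ * x⁻¹) * k⁻¹ =
          (k * w * k⁻¹) * (k * x * k⁻¹) * (k * w * k⁻¹)⁻¹ * (k * x * k⁻¹)⁻¹ := by group
        _ = (w * y) * x * w⁻¹ * (x⁻¹ * y⁻¹) := by rw [h9, h8]; group
        _ = y * (w * x * w⁻¹ * (x⁻¹ * y⁻¹)) := by rw [mem_center_iff.1 hzx w]; group
        _ = (w * x * w⁻¹ * (x⁻¹ * y⁻¹)) * y := (mem_center_iff.1 hzx _).symm
        _ = w * x * w⁻¹ * x⁻¹ := by group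
    change k * (w * x * w⁻¹ * x⁻¹) = w * x * w⁻¹ * x⁻¹ * k
    calc k * (w * x * w⁻¹ * x⁻¹) = (k * (w * x * w⁻¹ * x⁻¹) * k⁻¹) * k := by group
      _ = _ := by rw [h11]
  apply h.mem_center_of_centralizer Nat.prime_two FT hm hns
  intro b hb
  obtain ⟨a, ha, hab⟩ := exists_comm_mul P h.comm w
    (fun a ha h1 => h.aux_fixed FT hm hns hn hwn hwc ha h1) b hb
  have h8 := h7 a ha
  have h9 : b = (w * a * w⁻¹ * a⁻¹) * (b⁻¹ * (w * a * w⁻¹ * a⁻¹))⁻¹ := by group
  rw [h9]
  exact h8.mul_right (mem_center_iff.1 (inv_mem hab) k)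

/-- an element outside `kerP` with central square -/
theorem exists_sq_center [Finite G] (h : RadP G P 2) (FT : FTh.{u}) (hm : MinCA G)
    (hns : ¬ Group.IsSolvable G) [P.Normal] : ∃ s : G, s ∉ kerP P ∧ s * s ∈ center G := by
  set K := kerP P with hK
  have hKs : Group.IsSolvable K := h.kerP_le_solvable FT hm hns
  set f := QuotientGroup.mk' K with hf
  have hker : ∀ x : G, f x = 1 ↔ x ∈ K := fun x => QuotientGroup.eq_one_iff x
  -- an involution of the quotient
  obtain ⟨s₀, hs₀⟩ : ∃ s : G ⧸ K, orderOf s = 2 := by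
    apply exists_prime_orderOf_dvd_card' 2
    by_contra hcon
    exact hns (solvable_of_quot K hKs (FT _ (by rwa [← Nat.not_even_iff_odd, even_iff_two_dvd])))
  have hs₀1 : s₀ ≠ 1 := by
    rintro rfl
    rw [orderOf_one] at hs₀
    omega
  have hss : s₀ * s₀ = 1 := by rw [← pow_two, ← hs₀]; exact pow_orderOf_eq_one s₀
  have hnp : ¬ IsPGroup 2 (normalClosure {s₀} : Subgroup (G ⧸ K)) := by
    intro hp
    obtain ⟨S⟩ : Nonempty (Sylow 2 G) := Sylow.nonempty
    -- the normal closure is contained in the image of `S`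
    have hle : (normalClosure {s₀} : Subgroup (G ⧸ K)) ≤ (S : Subgroup G).map f := by
      obtain ⟨Q, hQ⟩ := hp.exists_le_sylow
      obtain ⟨g, hg⟩ := MulAction.exists_smul_eq (G ⧸ K) Q
        (S.mapSurjective (QuotientGroup.mk'_surjective K))
      intro x hx
      have h1 : g⁻¹ * x * g ∈ (normalClosure {s₀} : Subgroup (G ⧸ K)) := by
        have := (normalClosure_normal (s := {s₀})).conj_mem x hx g⁻¹
        rwa [inv_inv] at this
      have h2 : x ∈ (g • Q : Sylow 2 (G ⧸ K)) := by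
        rw [Sylow.smul_def] 
        exact ⟨g⁻¹ * x * g, hQ h1, by
          change g * (g⁻¹ * x * g) * g⁻¹ = x
          group⟩
      rw [hg] at h2
      exact h2
    -- a fixed point of `S`
    obtain ⟨x₀, hx₀P, hx₀c, hx₀⟩ : ∃ x ∈ P, x ∉ center G ∧
        ∀ σ ∈ (S : Subgroup G), σ * x * σ⁻¹ * x⁻¹ ∈ center G := by
      set c := QuotientGroup.mk' (center G) with hc
      have hcker : ∀ x : G, c x = 1 ↔ x ∈ center G := fun x => QuotientGroup.eq_one_iff x
      obtain ⟨w, ⟨x, hx, rfl⟩, hw1, hw⟩ := Cfsg.Agent.Characters.CNBasic.exists_mem_center_of_normal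
        ((S : Subgroup G).map c) (S.isPGroup'.map c) (P.map c) (h.isPGroup.map c) (by
          intro hbot
          apply h.noncentral
          intro y hy
          rw [← hcker]
          have : c y ∈ P.map c := ⟨y, hy, rfl⟩
          rwa [hbot, mem_bot] at this) (by
          rintro _ ⟨t, ht, rfl⟩ _ ⟨d, hd, rfl⟩
          exact ⟨t * d * t⁻¹, h.normal.conj_mem d hd t, by simp⟩)
      refine ⟨x, hx, fun hxc => hw1 ((hcker x).2 hxc), fun σ hσ => ?_⟩
      rw [← hcker]
      have := hw (c σ) ⟨σ, hσ, rfl⟩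
      rw [map_mul, map_mul, map_mul, map_inv, map_inv, this]
      group
    -- the subgroup of points fixed modulo the centre
    let W : Subgroup G :=
      { carrier := {x | x ∈ P ∧ ∀ n : G, f n ∈ (normalClosure {s₀} : Subgroup (G ⧸ K)) →
          n * x * n⁻¹ * x⁻¹ ∈ center G}
        one_mem' := ⟨one_mem _, fun n _ => by
          rw [mul_one, mul_inv_cancel, inv_one, one_mul]; exact one_mem _⟩
        mul_mem' := by
          rintro a b ⟨ha, ha'⟩ ⟨hb, hb'⟩
          refine ⟨mul_mem ha hb, fun n hn => ?_⟩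
          have h1 := hb' n hn
          have h2 := ha' n hn
          have h3 : n * (a * b) * n⁻¹ * (a * b)⁻¹ =
              (n * a * n⁻¹) * (n * b * n⁻¹ * b⁻¹) * a⁻¹ := by group
          rw [h3, mem_center_iff.1 h1, mul_assoc]
          exact mul_mem h1 h2
        inv_mem' := by
          rintro a ⟨ha, ha'⟩
          refine ⟨inv_mem ha, fun n hn => ?_⟩
          have h2 := ha' n hn
          have h3 : n * a⁻¹ * n⁻¹ * a⁻¹⁻¹ = a⁻¹ * ((n * a * n⁻¹ * a⁻¹)⁻¹ * a) := by group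
          rw [h3, ← mem_center_iff.1 (inv_mem h2) a, inv_mul_cancel_left]
          exact inv_mem h2 }
    have hWn : W.Normal := by
      refine ⟨fun x hx g => ⟨h.normal.conj_mem x hx.1 g, fun n hn => ?_⟩⟩
      have hn' : f (g⁻¹ * n * g) ∈ (normalClosure {s₀} : Subgroup (G ⧸ K)) := by
        have := (normalClosure_normal (s := {s₀})).conj_mem _ hn (f g)⁻¹
        rw [map_mul, map_mul, map_inv]
        rwa [inv_inv] at this
      have h1 := hx.2 _ hn'
      have h2 : n * (g * x * g⁻¹) * n⁻¹ * (g * x * g⁻¹)⁻¹ =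
          g * (g⁻¹ * n * g * x * (g⁻¹ * n * g)⁻¹ * x⁻¹) * g⁻¹ := by group
      rw [h2]
      exact (inferInstance : (center G).Normal).conj_mem _ h1 g
    have hx₀W : x₀ ∈ W := by
      refine ⟨hx₀P, fun n hn => ?_⟩
      obtain ⟨σ, hσ, hσn⟩ := hle hn
      -- `n = σ k`
      have hk : σ⁻¹ * n ∈ K := by
        rw [← hker, map_mul, map_inv, hσn, inv_mul_cancel]
      have h1 := hk x₀ hx₀P
      have h2 := hx₀ σ hσ
      have h3 : n * x₀ * n⁻¹ * x₀⁻¹ =
          σ * (σ⁻¹ * n * x₀ * (σ⁻¹ * n)⁻¹ * x₀⁻¹) * (x₀ * σ⁻¹ * x₀⁻¹) := by group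
      rw [h3, mem_center_iff.1 h1 σ, mul_assoc]
      refine mul_mem h1 ?_
      have h4 : σ * (x₀ * σ⁻¹ * x₀⁻¹) = σ * x₀ * σ⁻¹ * x₀⁻¹ := by group
      rw [h4]
      exact h2
    have hWP : W = P := by
      rcases h.min W hWn (fun x hx => hx.1) with h1 | h1
      · exact h1
      · exact absurd (h1 hx₀W) hx₀c
    obtain ⟨s, rfl⟩ := QuotientGroup.mk'_surjective K s₀
    apply hs₀1
    rw [← hf, hker]
    intro x hx
    have hxW : x ∈ W := by rw [hWP]; exact hx
    exact hxW.2 s (subset_normalClosure (by simp [hf]))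
  -- an inverted element of odd order
  obtain ⟨h₀, hh1, hho, hh⟩ := Cfsg.Agent.Involutions.BaerSuzuki.exists_odd_inverted s₀ hss hnp
  obtain ⟨s, hs⟩ := QuotientGroup.mk'_surjective K s₀
  obtain ⟨g, hg⟩ := QuotientGroup.mk'_surjective K h₀
  rw [← hf] at hs hg
  set n := orderOf h₀ with hn
  set w := g * g with hw
  have hwn : w ^ n ∈ center G := by
    have h1 : g ^ n ∈ K := by
      rw [← hker, map_pow, hg, hn, pow_orderOf_eq_one]
    have h2 := h.kerP_sq FT hm hns h1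
    rwa [← (Commute.refl g).mul_pow] at h2
  have hwK : w ∉ K := by
    intro h1
    rw [← hker, hw, map_mul, hg] at h1
    apply hh1
    have h2 : orderOf h₀ ∣ 2 := orderOf_dvd_of_pow_eq_one (by rw [pow_two]; exact h1)
    obtain ⟨k, hk⟩ := hho
    have h3 : orderOf h₀ = 1 := by
      rcases (Nat.dvd_prime Nat.prime_two).1 h2 with h3 | h3
      · exact h3
      · rw [← hn] at h3; omega
    exact orderOf_eq_one_iff.1 h3
  have hcK : center G ≤ K := by
    intro z hz d _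
    rw [← mem_center_iff.1 hz d, mul_inv_cancel_right, mul_inv_cancel]
    exact one_mem _
  have hwc : w ∉ center G := fun h1 => hwK (hcK h1)
  -- `s w s⁻¹ = w⁻¹ k₁`
  have hk₁ : w * (s * w * s⁻¹) ∈ K := by
    rw [← hker, hw]
    simp only [map_mul, map_inv, hs, hg]
    calc h₀ * h₀ * (s₀ * (h₀ * h₀) * s₀⁻¹) = h₀ * h₀ * ((s₀ * h₀ * s₀⁻¹) * (s₀ * h₀ * s₀⁻¹)) := by
          group
      _ = 1 := by rw [hh]; group
  set k₁ := w * (s * w * s⁻¹) with hk₁def
  have hKc : ∀ a ∈ K, ∀ b ∈ K, a * b * a⁻¹ * b⁻¹ ∈ center G := fun a ha b hb =>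
    h.mem_center_of_centralizer Nat.prime_two FT hm hns fun d hd => kerP_comm ha hb hd
  obtain ⟨k, hk, hkk⟩ := exists_comm_mul K hKc w
    (fun a ha h1 => h.aux_kerP FT hm hns hho hwn hwc ha h1) _ (inv_mem hk₁)
  rw [inv_inv] at hkk
  -- `hkk : k₁ [w, k] ∈ Z(G)`
  refine ⟨k * s, ?_, ?_⟩
  · intro h1
    apply hs₀1
    have h2 : s ∈ K := by
      have := mul_mem (inv_mem hk) h1
      rwa [inv_mul_cancel_left] at this
    rw [← hs, hker]
    exact h2
  · -- `n w n⁻¹ = w⁻¹ z`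
    have hz : w * (k * s * w * (k * s)⁻¹) ∈ center G := by
      -- `w k s w s⁻¹ k⁻¹ = (w k w⁻¹ k⁻¹) (k k₁ k⁻¹)`
      have h1 : w * (k * s * w * (k * s)⁻¹) = (w * k * w⁻¹ * k⁻¹) * (k * k₁ * k⁻¹) := by
        rw [hk₁def]; group
      have h2 : (w * k * w⁻¹ * k⁻¹) * (k * k₁ * k⁻¹) =
          (k₁⁻¹ * (k₁ * (w * k * w⁻¹ * k⁻¹)) * k₁) * (k₁⁻¹ * k * k₁ * k⁻¹) := by group
      rw [h1, h2]
      refine mul_mem ?_ ?_
      · rw [mem_center_iff.1 hkk, mul_assoc, inv_mul_cancel, mul_one]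
        exact hkk
      · have := hKc _ (inv_mem hk₁) _ hk
        rwa [inv_inv] at this
    set z := w * (k * s * w * (k * s)⁻¹) with hzdef
    set m := k * s with hmdef
    have h1 : m * w * m⁻¹ = w⁻¹ * z := by rw [hzdef]; group
    have hmm : m * m ∈ K := by
      rw [← hker, hmdef]
      have hfk : f k = 1 := (hker k).2 hk
      simp only [map_mul, hs, hfk, one_mul]
      exact hss
    apply h.aux_kerP FT hm hns hho hwn hwc hmm
    have h2 : m * m * w * (m * m)⁻¹ = w := by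
      calc m * m * w * (m * m)⁻¹ = m * (m * w * m⁻¹) * m⁻¹ := by group
        _ = m * (w⁻¹ * z) * m⁻¹ := by rw [h1]
        _ = (m * w * m⁻¹)⁻¹ * (m * z) * m⁻¹ := by group
        _ = (m * w * m⁻¹)⁻¹ * z := by rw [mem_center_iff.1 hz m]; group
        _ = z⁻¹ * (w * z) := by rw [h1]; group
        _ = w := by rw [mem_center_iff.1 hz w]; group
    have h3 : w * (m * m) * w⁻¹ * (m * m)⁻¹ = w * (m * m * w * (m * m)⁻¹)⁻¹ := by
      generalize m * m = y
      group
    rw [h3, h2, mul_inv_cancel]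
    exact one_mem _

end RadP

end Cfsg.Agent.H577
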