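import Cfsg.Agent.H577.CAComp
import Cfsg.Agent.S0215

/-!
# Minimal non-CA groups: the centre of a nonabelian Sylow 2-subgroup
-/

set_option autoImplicit false

namespace Cfsg.Agent.H577

open Subgroup Cfsg

universe u

variable {G : Type u} [Group G]

/-- Sylow subgroups of an overgroup of a Sylow subgroup -/
theorem exists_sylow_between [Finite G] {p : ℕ} [Fact p.Prime] {H : Subgroup G} (T : Sylow p G)
    (hT : (T : Subgroup G) ≤ H) {Q : Subgroup G} (hQ : IsPGroup p Q) (hQH : Q ≤ H) :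
    ∃ T' : Sylow p G, Q ≤ T' ∧ (T' : Subgroup G) ≤ H := by
  have hQ' : IsPGroup p (Q.subgroupOf H) := hQ.comap_subtype
  obtain ⟨R, hR⟩ := hQ'.exists_le_sylow
  obtain ⟨h, hh⟩ := MulAction.exists_smul_eq H (T.subtype hT) R
  refine ⟨(h : G) • T, ?_, ?_⟩
  · intro x hx
    have h1 : (⟨x, hQH hx⟩ : H) ∈ R := hR hx
    rw [← hh] at h1
    have h2 : (h⁻¹ * ⟨x, hQH hx⟩ * h : H) ∈ (T.subtype hT : Subgroup H) := by
      rw [Sylow.smul_def] at h1
      obtain ⟨y, hy, hyx⟩ := h1
      have h3 : h * y * h⁻¹ = ⟨x, hQH hx⟩ := hyx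
      have h4 : h⁻¹ * ⟨x, hQH hx⟩ * h = y := by rw [← h3]; group
      rw [h4]
      exact hy
    rw [Sylow.smul_def]
    exact ⟨(h : G)⁻¹ * x * h, h2, by
      change (h : G) * ((h : G)⁻¹ * x * h) * (h : G)⁻¹ = x
      group⟩
  · intro x hx
    have hx' : x ∈ (((h : G) • T : Sylow p G) : Subgroup G) := hx
    rw [Sylow.smul_def] at hx'
    obtain ⟨y, hy, rfl⟩ := hx'
    exact mul_mem (mul_mem h.2 (hT hy)) (inv_mem h.2)

/-- **C.** If the Sylow 2-subgroup `S` is not abelian, its centre is central in `G`. -/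
theorem sylow_center_le [Finite G] (FT : FTh.{u}) (hm : MinCA G) (hns : ¬ Group.IsSolvable G)
    (S : Sylow 2 G) {a₀ b₀ : G} (ha₀ : a₀ ∈ (S : Subgroup G)) (hb₀ : b₀ ∈ (S : Subgroup G))
    (hab₀ : ¬ Commute a₀ b₀) {z : G} (hz : z ∈ (S : Subgroup G))
    (hzS : ∀ s ∈ (S : Subgroup G), Commute s z) : z ∈ center G := by
  by_contra hzc
  -- `z` with central square
  obtain ⟨z, hz, hzS, hzc, hzz⟩ : ∃ z ∈ (S : Subgroup G), (∀ s ∈ (S : Subgroup G), Commute s z) ∧
      z ∉ center G ∧ z * z ∈ center G := by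
    obtain ⟨n, hn⟩ := S.isPGroup' ⟨z, hz⟩
    have hn' : z ^ 2 ^ n = 1 := congrArg Subtype.val hn
    have hex : ∃ m : ℕ, z ^ 2 ^ m ∈ center G := ⟨n, by rw [hn']; exact one_mem _⟩
    classical
    set m := Nat.find hex with hmdef
    have hm1 : z ^ 2 ^ m ∈ center G := Nat.find_spec hex
    have hm0 : m ≠ 0 := by
      intro h
      rw [h, pow_zero, pow_one] at hm1
      exact hzc hm1
    refine ⟨z ^ 2 ^ (m - 1), pow_mem hz _, fun s hs => (hzS s hs).pow_right _,
      Nat.find_min hex (by omega), ?_⟩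
    rw [← pow_add, ← two_mul, ← pow_succ', show m - 1 + 1 = m by omega]
    exact hm1
  set E : Subgroup G := (S : Subgroup G) ⊓ center G with hE
  have hEn : E.Normal := by
    refine ⟨fun x hx g => ?_⟩
    rw [mem_center_iff.1 hx.2 g, mul_inv_cancel_right]
    exact hx
  set f := QuotientGroup.mk' E with hf
  have hker : ∀ x : G, f x = 1 ↔ x ∈ E := fun x => QuotientGroup.eq_one_iff x
  have hfsurj : Function.Surjective f := QuotientGroup.mk'_surjective E
  set Sh := S.mapSurjective hfsurj with hSh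
  have hzE : z ∉ E := fun h => hzc h.2
  have hord : orderOf (f z) = 2 := by
    apply orderOf_eq_prime
    · rw [← map_pow, hker, pow_two]
      exact ⟨mul_mem hz hz, hzz⟩
    · exact fun h => hzE ((hker z).1 h)
  have hcn : (center G).Normal := inferInstance
  by_cases hiso : ∀ g : G ⧸ E, g * f z * g⁻¹ ∈ Sh → g * f z * g⁻¹ = f z
  · -- the `Z*`-theorem
    obtain ⟨N, hN, hNo, hNz⟩ := Cfsg.Agent.S0215.result Sh (f z) hord ⟨z, hz, rfl⟩ hiso
    have hNs : Group.IsSolvable N := FT N hNo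
    have hEs : Group.IsSolvable E := solvable_sub_of_comm fun a _ b hb => mem_center_iff.1 hb.2 a
    have hN'n : (N.comap f).Normal := hN.comap f
    have hN's : Group.IsSolvable (N.comap f) := by
      apply solvable_of_map E hEs
      rw [← hf, map_comap_eq_self_of_surjective hfsurj]
      exact hNs
    have hN'c := solvable_le_center FT hm hns _ hN'n hN's
    have hzg : ∀ g : G, z * g * z⁻¹ * g⁻¹ ∈ center G := by
      intro g
      apply hN'c
      rw [mem_comap]
      have := hNz (f g)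
      simpa using this
    let D : Subgroup G := zpowers z ⊔ center G
    have hDn : D.Normal := by
      refine ⟨fun y hy g => ?_⟩
      obtain ⟨w, hw, v, hv, rfl⟩ := mem_sup_of_normal_right.1 hy
      obtain ⟨i, rfl⟩ := mem_zpowers_iff.1 hw
      have h1 : g * (z ^ i * v) * g⁻¹ = (g * z * g⁻¹) ^ i * v := by
        rw [conj_zpow]
        calc g * (z ^ i * v) * g⁻¹ = g * z ^ i * (v * g⁻¹) := by group
          _ = g * z ^ i * g⁻¹ * v := by rw [← mem_center_iff.1 hv]; group
      have h2 : g * z * g⁻¹ = (z * g * z⁻¹ * g⁻¹)⁻¹ * z := by group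
      rw [h1, h2]
      have h7 : z ∈ D := (le_sup_left : zpowers z ≤ D) (mem_zpowers z)
      have h8 : (z * g * z⁻¹ * g⁻¹)⁻¹ ∈ D := (le_sup_right : center G ≤ D) (inv_mem (hzg g))
      exact mul_mem (zpow_mem (mul_mem h8 h7) i) ((le_sup_right : center G ≤ D) hv)
    have hDab : ∀ a ∈ D, ∀ b ∈ D, Commute a b := by
      intro a ha b hb
      obtain ⟨w, hw, v, hv, rfl⟩ := mem_sup_of_normal_right.1 ha
      obtain ⟨w', hw', v', hv', rfl⟩ := mem_sup_of_normal_right.1 hb
      obtain ⟨i, rfl⟩ := mem_zpowers_iff.1 hw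
      obtain ⟨j, rfl⟩ := mem_zpowers_iff.1 hw'
      have h1 : Commute (z ^ i) (z ^ j) := (Commute.refl z).zpow_zpow i j
      have h2 : ∀ y, Commute v y := fun y => (mem_center_iff.1 hv y).symm
      have h3 : ∀ y, Commute v' y := fun y => (mem_center_iff.1 hv' y).symm
      exact ((h1.mul_right (h3 _).symm).mul_left (h2 _))
    exact hzc (abelian_le_center FT hm hns D hDab ((le_sup_left : zpowers z ≤ D) (mem_zpowers z)))
  · -- a second conjugate
    push Not at hiso
    obtain ⟨gh, hgS, hgne⟩ := hiso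
    obtain ⟨g, rfl⟩ := hfsurj gh
    set z' := g * z * g⁻¹ with hz'
    have hfz' : f g * f z * (f g)⁻¹ = f z' := by rw [hz']; simp
    rw [hfz'] at hgS hgne
    have hz'S : z' ∈ (S : Subgroup G) := by
      obtain ⟨s, hs, hsz⟩ := hgS
      have h1 : s⁻¹ * z' ∈ E := by
        rw [← hker, map_mul, map_inv, hsz, inv_mul_cancel]
      have h2 := mul_mem hs h1.1
      rwa [mul_inv_cancel_left] at h2
    have hne : z' ≠ z := fun h => hgne (by rw [h])
    have hzz' : Commute z' z := hzS z' hz'S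
    set Cz := centralizer ({z} : Set G) with hCz
    set Cz' := centralizer ({z'} : Set G) with hCz'
    have hmz : ∀ {x : G}, x ∈ Cz ↔ Commute x z := mem_centralizer_singleton_iff
    have hmz' : ∀ {x : G}, x ∈ Cz' ↔ Commute x z' := mem_centralizer_singleton_iff
    have h2z : IsPGroup 2 (zpowers z) := S.isPGroup'.to_le (zpowers_le.2 hz)
    have h2z' : IsPGroup 2 (zpowers z') := S.isPGroup'.to_le (zpowers_le.2 hz'S)
    -- a maximal 2-subgroup of `C(z) ∩ C(z')`
    obtain ⟨Q, hQmax⟩ := Set.Finite.exists_maximal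
      (s := {Q : Subgroup G | IsPGroup 2 Q ∧ Q ≤ Cz ⊓ Cz'}) (Set.toFinite _)
      ⟨⊥, IsPGroup.of_bot, bot_le⟩
    obtain ⟨hQ2, hQC⟩ := hQmax.prop
    have hQm : ∀ R : Subgroup G, IsPGroup 2 R → R ≤ Cz ⊓ Cz' → Q ≤ R → R ≤ Q := fun R hR hRC hQR =>
      hQmax.le_of_ge ⟨hR, hRC⟩ hQR
    have hcent : ∀ x : G, x ∈ Cz → x ∈ Cz' → IsPGroup 2 (zpowers x) → (∀ y ∈ Q, x * y * x⁻¹ ∈ Q) →
        x ∈ Q := by
      intro x hx hx' hxp hxn
      have hxN : zpowers x ≤ normalizer (Q : Set G) := by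
        rw [zpowers_le]
        have hle : Q.map (MulAut.conj x).toMonoidHom ≤ Q := by
          rintro _ ⟨y, hy, rfl⟩
          exact hxn y hy
        have heq : Q.map (MulAut.conj x).toMonoidHom = Q := by
          apply Subgroup.eq_of_le_of_card_ge hle
          rw [card_map_of_injective (MulAut.conj x).injective]
        rw [mem_normalizer_iff]
        intro y
        refine ⟨fun hy => hxn y hy, fun hy => ?_⟩
        have hy' : x * y * x⁻¹ ∈ Q.map (MulAut.conj x).toMonoidHom := by rw [heq]; exact hy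
        obtain ⟨w, hw, hwy⟩ := hy'
        have : w = y := (MulAut.conj x).injective hwy
        rwa [← this]
      have h1 : IsPGroup 2 (zpowers x ⊔ Q : Subgroup G) := hxp.to_sup_of_normal_right' hQ2 hxN
      have h2 : zpowers x ⊔ Q ≤ Cz ⊓ Cz' := sup_le (zpowers_le.2 ⟨hx, hx'⟩) hQC
      exact hQm _ h1 h2 le_sup_right ((le_sup_left : zpowers x ≤ zpowers x ⊔ Q) (mem_zpowers x))
    have hzQ : z ∈ Q := by
      refine hcent z (hmz.2 (Commute.refl z)) (hmz'.2 hzz'.symm) h2z fun y hy => ?_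
      have h1 : Commute y z := hmz.1 (hQC hy).1
      rw [h1.symm.eq, mul_inv_cancel_right]
      exact hy
    have hz'Q : z' ∈ Q := by
      refine hcent z' (hmz.2 hzz') (hmz'.2 (Commute.refl z')) h2z' fun y hy => ?_
      have h1 : Commute y z' := hmz'.1 (hQC hy).2
      rw [h1.symm.eq, mul_inv_cancel_right]
      exact hy
    -- its normalizer is proper
    set M := normalizer (Q : Set G) with hM
    have hMtop : M ≠ ⊤ := by
      intro h
      have hQn : Q.Normal := normalizer_eq_top_iff.1 h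
      exact hzc (solvable_le_center FT hm hns Q hQn (solvable_of_isPGroup hQ2) hzQ)
    have hQM : Q ≤ M := le_normalizer
    have hSCz : (S : Subgroup G) ≤ Cz := fun s hs => hmz.2 (hzS s hs)
    have hgSCz' : ((g • S : Sylow 2 G) : Subgroup G) ≤ Cz' := by
      intro x hx
      rw [Sylow.smul_def] at hx
      obtain ⟨y, hy, rfl⟩ := hx
      apply hmz'.2
      have h1 : y * z = z * y := hzS y hy
      change g * y * g⁻¹ * z' = z' * (g * y * g⁻¹)
      rw [hz']
      calc g * y * g⁻¹ * (g * z * g⁻¹) = g * (y * z) * g⁻¹ := by group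
        _ = g * z * g⁻¹ * (g * y * g⁻¹) := by rw [h1]; group
    obtain ⟨T₁, hQT₁, hT₁⟩ := exists_sylow_between S hSCz hQ2 (fun x hx => (hQC hx).1)
    obtain ⟨T₂, hQT₂, hT₂⟩ := exists_sylow_between (g • S) hgSCz' hQ2 (fun x hx => (hQC hx).2)
    have hcard : ∀ T₁ T₂ : Sylow 2 G, Nat.card T₁ = Nat.card T₂ := fun T₁ T₂ => by
      rw [T₁.card_eq_multiplicity, T₂.card_eq_multiplicity]
    by_cases hQT : Q = T₁
    · -- `Q` is a Sylow subgroup
      have hQT2 : Q = T₂ := by
        apply Subgroup.eq_of_le_of_card_ge hQT₂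
        rw [hQT]
        exact (hcard T₂ T₁).le
      -- `Q` is not abelian
      obtain ⟨a, ha, b, hb, hab⟩ : ∃ a ∈ Q, ∃ b ∈ Q, ¬ Commute a b := by
        obtain ⟨h, hh⟩ := MulAction.exists_smul_eq G S T₁
        have hmem : ∀ x ∈ (S : Subgroup G), h * x * h⁻¹ ∈ Q := by
          intro x hx
          rw [hQT, ← hh, Sylow.smul_def]
          exact ⟨x, hx, rfl⟩
        refine ⟨_, hmem a₀ ha₀, _, hmem b₀ hb₀, fun hc => hab₀ ?_⟩
        have h1 : h * a₀ * h⁻¹ * (h * b₀ * h⁻¹) = h * b₀ * h⁻¹ * (h * a₀ * h⁻¹) := hc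
        change a₀ * b₀ = b₀ * a₀
        calc a₀ * b₀ = h⁻¹ * (h * a₀ * h⁻¹ * (h * b₀ * h⁻¹)) * h := by group
          _ = b₀ * a₀ := by rw [h1]; group
      have hzM : ∀ y ∈ M, Commute y z := fun y hy =>
        hm.fact hMtop (hQM hzQ) (hQM ha) (hQM hb) (hmz.1 (hQC ha).1) (hmz.1 (hQC hb).1) hab hy
      -- `g Q g⁻¹` and `Q` are conjugate in `C(z')`
      have hgT : ((g • T₁ : Sylow 2 G) : Subgroup G) ≤ Cz' := by
        intro x hx
        rw [Sylow.smul_def] at hx
        obtain ⟨y, hy, rfl⟩ := hx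
        apply hmz'.2
        have h1 : y * z = z * y := hmz.1 (hT₁ hy)
        change g * y * g⁻¹ * z' = z' * (g * y * g⁻¹)
        rw [hz']
        calc g * y * g⁻¹ * (g * z * g⁻¹) = g * (y * z) * g⁻¹ := by group
          _ = g * z * g⁻¹ * (g * y * g⁻¹) := by rw [h1]; group
      obtain ⟨c, hc⟩ := MulAction.exists_smul_eq Cz' ((g • T₁).subtype hgT) (T₂.subtype hT₂)
      have hcg : (c : G) * g ∈ M := by
        have hle : Q.map (MulAut.conj ((c : G) * g)).toMonoidHom ≤ Q := by
          rintro _ ⟨y, hy, rfl⟩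
          have h1 : g * y * g⁻¹ ∈ ((g • T₁ : Sylow 2 G) : Subgroup G) := by
            rw [Sylow.smul_def]
            exact ⟨y, by rw [← hQT]; exact hy, rfl⟩
          have h2 : c * ⟨g * y * g⁻¹, hgT h1⟩ * c⁻¹ ∈ (T₂.subtype hT₂ : Subgroup Cz') := by
            rw [← hc, Sylow.smul_def]
            exact ⟨⟨g * y * g⁻¹, hgT h1⟩, h1, rfl⟩
          have h3 : (c : G) * (g * y * g⁻¹) * (c : G)⁻¹ ∈ (T₂ : Subgroup G) := h2
          rw [← hQT2] at h3
          change (c : G) * g * y * ((c : G) * g)⁻¹ ∈ Q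
          have h4 : (c : G) * g * y * ((c : G) * g)⁻¹ = (c : G) * (g * y * g⁻¹) * (c : G)⁻¹ := by group
          rw [h4]
          exact h3
        have heq : Q.map (MulAut.conj ((c : G) * g)).toMonoidHom = Q := by
          apply Subgroup.eq_of_le_of_card_ge hle
          rw [card_map_of_injective (MulAut.conj ((c : G) * g)).injective]
        rw [hM, mem_normalizer_iff]
        intro y
        refine ⟨fun hy => hle ⟨y, hy, rfl⟩, fun hy => ?_⟩
        have hy' : (c : G) * g * y * ((c : G) * g)⁻¹ ∈ Q.map (MulAut.conj ((c : G) * g)).toMonoidHom := by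
          rw [heq]; exact hy
        obtain ⟨w, hw, hwy⟩ := hy'
        have : w = y := (MulAut.conj ((c : G) * g)).injective hwy
        rwa [← this]
      apply hne
      have h1 : (c : G) * g * z = z * ((c : G) * g) := hzM _ hcg
      have h2 : (c : G) * z' = z' * c := hmz'.1 c.2
      have h3 : (c : G) * z' = z * c := by
        calc (c : G) * z' = ((c : G) * g * z) * g⁻¹ := by rw [hz']; group
          _ = z * c := by rw [h1]; group
      rw [h2] at h3
      exact mul_right_cancel h3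
    · have hlt₁ : Q < T₁ := lt_of_le_of_ne hQT₁ hQT
      have hQT2 : Q ≠ T₂ := by
        intro h
        apply hQT
        apply Subgroup.eq_of_le_of_card_ge hQT₁
        rw [h]
        exact (hcard T₁ T₂).le
      have hlt₂ : Q < T₂ := lt_of_le_of_ne hQT₂ hQT2
      obtain ⟨u, huT, huQ, huN⟩ := Cfsg.Agent.Involutions.BaerSuzuki.exists_mem_normalizer_of_lt
        T₁.isPGroup' hlt₁
      obtain ⟨u', huT', huQ', huN'⟩ := Cfsg.Agent.Involutions.BaerSuzuki.exists_mem_normalizer_of_lt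
        T₂.isPGroup' hlt₂
      have hu1 : ¬ Commute u z' := by
        intro h
        apply huQ
        exact hcent u (hT₁ huT) (hmz'.2 h) (T₁.isPGroup'.to_le (zpowers_le.2 huT))
          fun y hy => (mem_normalizer_iff.1 huN y).1 hy
      have hu2 : ¬ Commute u' z := by
        intro h
        apply huQ'
        exact hcent u' (hmz.2 h) (hT₂ huT') (T₂.isPGroup'.to_le (zpowers_le.2 huT'))
          fun y hy => (mem_normalizer_iff.1 huN' y).1 hy
      exact hu1 (hm M hMtop z (hQM hzQ) u' huN' u huN z' (hQM hz'Q) (hmz.1 (hT₁ huT)) hzz' hu2)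

/-- the structure of a nonabelian Sylow 2-subgroup -/
structure SylStr (G : Type*) [Group G] (S : Subgroup G) (z : G) : Prop where
  mem : z ∈ S
  not_center : z ∉ center G
  sq : z * z ∈ center G
  comm : ∀ s ∈ S, z * s * z⁻¹ * s⁻¹ ∈ center G
  exists_not : ∃ s ∈ S, ¬ Commute s z
  abel : ∀ a ∈ S, Commute a z → ∀ b ∈ S, Commute b z → Commute a b
  sq_out : ∀ y ∈ S, ¬ Commute y z → y * y ∈ center G
  inv_out : ∀ y ∈ S, ¬ Commute y z → ∀ a ∈ S, Commute a z → y * a * y⁻¹ * a ∈ center G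
  fix_out : ∀ y ∈ S, ¬ Commute y z → ∀ a ∈ S, Commute a z → Commute a y → a ∈ center G

/-- **C2.** -/
theorem exists_sylStr [Finite G] (FT : FTh.{u}) (hm : MinCA G) (hns : ¬ Group.IsSolvable G)
    (S : Sylow 2 G) {a₀ b₀ : G} (ha₀ : a₀ ∈ (S : Subgroup G)) (hb₀ : b₀ ∈ (S : Subgroup G))
    (hab₀ : ¬ Commute a₀ b₀) : ∃ z, SylStr G (S : Subgroup G) z := by
  have hSc : ∀ z ∈ (S : Subgroup G), z ∉ center G → ∃ s ∈ (S : Subgroup G), ¬ Commute s z := by
    intro z hz hzc
    by_contra hcon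
    push Not at hcon
    exact hzc (sylow_center_le FT hm hns S ha₀ hb₀ hab₀ hz hcon)
  have hStop : (S : Subgroup G) ≠ ⊤ := ne_top_of_solvable hns (solvable_of_isPGroup S.isPGroup')
  have hcn : (center G).Normal := inferInstance
  have hzc : ∀ {z : G}, z ∈ center G → ∀ g, g * z = z * g := fun {z} hz g => mem_center_iff.1 hz g
  set f := QuotientGroup.mk' (center G) with hf
  have hker : ∀ x : G, f x = 1 ↔ x ∈ center G := fun x => QuotientGroup.eq_one_iff x
  obtain ⟨w, ⟨x, hx, rfl⟩, hw1, hw⟩ := Cfsg.Agent.Characters.CNBasic.exists_mem_center_of_normal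
    ((S : Subgroup G).map f) (S.isPGroup'.map f) ((S : Subgroup G).map f) (S.isPGroup'.map f) (by
      intro hbot
      apply hab₀
      have h1 : f a₀ = 1 := by
        have : f a₀ ∈ (S : Subgroup G).map f := ⟨a₀, ha₀, rfl⟩
        rwa [hbot, mem_bot] at this
      exact (hzc ((hker a₀).1 h1) b₀).symm) (by
      rintro _ ht _ hd
      exact mul_mem (mul_mem ht hd) (inv_mem ht))
  have hxc : x ∉ center G := fun h => hw1 ((hker x).2 h)
  obtain ⟨z, hz, hznc, hzz, hzcomm⟩ : ∃ z ∈ (S : Subgroup G), z ∉ center G ∧ z * z ∈ center G ∧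
      ∀ s ∈ (S : Subgroup G), f s * f z = f z * f s := by
    obtain ⟨n, hn⟩ := S.isPGroup' ⟨x, hx⟩
    have hn' : x ^ 2 ^ n = 1 := congrArg Subtype.val hn
    have hex : ∃ m : ℕ, x ^ 2 ^ m ∈ center G := ⟨n, by rw [hn']; exact one_mem _⟩
    classical
    set m := Nat.find hex with hmdef
    have hm1 : x ^ 2 ^ m ∈ center G := Nat.find_spec hex
    have hm0 : m ≠ 0 := by
      intro h
      rw [h, pow_zero, pow_one] at hm1
      exact hxc hm1
    refine ⟨x ^ 2 ^ (m - 1), pow_mem hx _, Nat.find_min hex (by omega), ?_, ?_⟩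
    · rw [← pow_add, ← two_mul, ← pow_succ', show m - 1 + 1 = m by omega]
      exact hm1
    · intro s hs
      rw [map_pow]
      have h1 : Commute (f s) (f x) := hw (f s) ⟨s, hs, rfl⟩
      exact (h1.pow_right _).eq
  have hcomm : ∀ s ∈ (S : Subgroup G), z * s * z⁻¹ * s⁻¹ ∈ center G := by
    intro s hs
    rw [← hker, map_mul, map_mul, map_mul, map_inv, map_inv, ← hzcomm s hs]
    group
  obtain ⟨s₀, hs₀, hs₀z⟩ := hSc z hz hznc
  have habel : ∀ a ∈ (S : Subgroup G), Commute a z → ∀ b ∈ (S : Subgroup G), Commute b z →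
      Commute a b := fun a ha haz b hb hbz => hm _ hStop z hz s₀ hs₀ a ha b hb haz hbz hs₀z
  have hsq : ∀ y ∈ (S : Subgroup G), ¬ Commute y z → y * y ∈ center G := by
    intro y hy hyz
    by_contra hyc
    obtain ⟨s, hs, hsy⟩ := hSc (y * y) (mul_mem hy hy) hyc
    apply hyz
    refine hm _ hStop (y * y) (mul_mem hy hy) s hs y hy z hz
      ((Commute.refl y).mul_right (Commute.refl y)) ?_ hsy
    have hc := hcomm y hy
    set c := z * y * z⁻¹ * y⁻¹ with hcdef
    have h1 : z * y * z⁻¹ = c * y := by rw [hcdef]; group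
    have h2 : c * c = 1 := by
      have h3 : z * (z * y * z⁻¹) * z⁻¹ = y := by
        calc z * (z * y * z⁻¹) * z⁻¹ = (z * z) * y * (z * z)⁻¹ := by group
          _ = y := by rw [← hzc hzz y, mul_inv_cancel_right]
      have h4 : z * (z * y * z⁻¹) * z⁻¹ = c * c * y := by
        calc z * (z * y * z⁻¹) * z⁻¹ = (z * c) * y * z⁻¹ := by rw [h1]; group
          _ = c * (z * y * z⁻¹) := by rw [hzc hc z]; group
          _ = c * c * y := by rw [h1]; exact (mul_assoc c c y).symm
      have h5 : c * c * y = 1 * y := by rw [← h4, h3, one_mul]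
      exact mul_right_cancel h5
    have h3 : z * (y * y) * z⁻¹ = y * y := by
      calc z * (y * y) * z⁻¹ = (z * y * z⁻¹) * (z * y * z⁻¹) := by group
        _ = c * (y * c) * y := by rw [h1]; group
        _ = c * c * (y * y) := by rw [hzc hc y]; group
        _ = y * y := by rw [h2, one_mul]
    change z * (y * y) = y * y * z
    calc z * (y * y) = (z * (y * y) * z⁻¹) * z := by group
      _ = y * y * z := by rw [h3]
  refine ⟨z, hz, hznc, hzz, hcomm, ⟨s₀, hs₀, hs₀z⟩, habel, hsq, ?_, ?_⟩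
  · intro y hy hyz a ha haz
    have hya : ¬ Commute (y * a) z := by
      intro h
      apply hyz
      have := h.mul_left haz.inv_left
      rwa [mul_inv_cancel_right] at this
    have h1 := hsq _ (mul_mem hy ha) hya
    have h2 := hsq y hy hyz
    have h3 : y * a * y⁻¹ * a = (y * a * (y * a)) * (y * y)⁻¹ := by
      have h4 := hzc (inv_mem h2) (y * a * (y * a))
      have h5 : y * a * y⁻¹ * a = y * a * y * ((y * y)⁻¹ * a) := by group
      rw [h5, ← hzc (inv_mem h2) a]
      group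
    rw [h3]
    exact mul_mem h1 (inv_mem h2)
  · intro y hy hyz a ha haz hay
    by_contra hac
    obtain ⟨s, hs, hsa⟩ := hSc a ha hac
    exact hyz (hm _ hStop a ha s hs y hy z hz hay.symm haz.symm hsa)

end Cfsg.Agent.H577
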