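import Cfsg.Agent.H577.CAAbelEnd
import Cfsg.Agent.H577.CASyl

/-!
# Minimal non-CA groups: matrices for the elements, commuting elements have commuting matrices
-/

set_option autoImplicit false
set_option linter.unusedSectionVars false

namespace Cfsg.Agent.H577

open Matrix Subgroup Cfsg
open Cfsg.Agent.ClassicalGeometry.AutPSL.Root (pr pr_surjective)
open Cfsg.Agent.ClassicalGeometry.AutPSL.Auto (cj fld lift itr coe_cj coe_fld_apply lift_pr)
open Cfsg.Agent.ClassicalGeometry.AutPSL.Main (cj_eq_one_of_scalar injective_aux surj_two surj_three)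
open Psl2

universe u

section mat

variable {F : Type*} [Field F]

abbrev M2 (F : Type*) := Matrix (Fin 2) (Fin 2) F

theorem scalar_of_comm {X B N : M2 F} (h2 : (2 : F) ≠ 0) (hX : X.det ≠ 0) (hB : B.det ≠ 0)
    (hXB : X * B = -(B * X)) (h1 : N * X = X * N) (h3 : N * B = B * N) :
    ∃ r : F, scalar (Fin 2) r = N := by
  by_contra hcon
  have h4 := mat_comm hcon h1.symm h3.symm
  rw [hXB] at h4
  have h5 : (2 : F) • (B * X) = 0 := by
    have h6 : B * X + B * X = 0 := by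
      nth_rewrite 1 [← h4]
      rw [neg_add_cancel]
    rw [two_smul, h6]
  rw [smul_eq_zero] at h5
  have h6 := h5.resolve_left h2
  have h7 : (B * X).det = 0 := by rw [h6, det_zero]
  rw [det_mul] at h7
  exact (mul_ne_zero hB hX) h7

theorem mat_klein {X B M : M2 F} (h2 : (2 : F) ≠ 0) (hX : X.det ≠ 0) (hB : B.det ≠ 0)
    (hXB : X * B = -(B * X)) (h1 : M * X = X * M ∨ M * X = -(X * M))
    (h3 : M * B = B * M ∨ M * B = -(B * M)) :
    (∃ r : F, scalar (Fin 2) r = M) ∨ (∃ r : F, scalar (Fin 2) r = M * X) ∨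
      (∃ r : F, scalar (Fin 2) r = M * B) ∨ ∃ r : F, scalar (Fin 2) r = M * (X * B) := by
  have hBX : B * X = -(X * B) := by rw [hXB, neg_neg]
  rcases h1 with h1 | h1 <;> rcases h3 with h3 | h3
  · exact Or.inl (scalar_of_comm h2 hX hB hXB h1 h3)
  · right; left
    apply scalar_of_comm h2 hX hB hXB
    · rw [h1, mul_assoc, h1]
    · rw [mul_assoc, hXB, mul_neg, ← mul_assoc, h3, neg_mul, neg_neg, mul_assoc]
  · right; right; left
    apply scalar_of_comm h2 hX hB hXB
    · rw [mul_assoc, hBX, mul_neg, ← mul_assoc, h1, neg_mul, neg_neg, mul_assoc]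
    · rw [h3, mul_assoc, h3]
  · right; right; right
    apply scalar_of_comm h2 hX hB hXB
    · calc M * (X * B) * X = M * X * (B * X) := by simp only [mul_assoc]
        _ = X * (M * (X * B)) := by rw [h1, hBX, neg_mul_neg, mul_assoc]
    · calc M * (X * B) * B = M * (-(B * X)) * B := by rw [hXB]
        _ = -(M * B * (X * B)) := by simp only [mul_assoc, mul_neg, neg_mul]
        _ = B * (M * (X * B)) := by rw [h3, neg_mul, neg_neg, mul_assoc]

end mat

section

variable {G : Type*} [Group G] {L : Subgroup G} {F : Type*} [Field F] [Fintype F]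

theorem lift_cj_eq_one {M : GL (Fin 2) F} :
    lift (cj M) = 1 ↔ ∃ r : F, scalar (Fin 2) r = (M : M2 F) := by
  constructor
  · intro h
    by_contra hcon
    exact cj_ne_one hcon h
  · rintro ⟨r, hr⟩
    rw [cj_eq_one_of_scalar hr, map_one]

namespace Act

/-- `M` represents the action of `g` -/
def Rep (A : Act G L F) (g : G) (M : GL (Fin 2) F) : Prop := A.Φ g = lift (cj M)

variable {A : Act G L F} {g h : G} {M N : GL (Fin 2) F}

theorem Rep.mul (hg : A.Rep g M) (hh : A.Rep h N) : A.Rep (g * h) (M * N) := by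
  rw [Rep, map_mul, hg, hh, map_mul, map_mul]

theorem Rep.inv (hg : A.Rep g M) : A.Rep g⁻¹ M⁻¹ := by
  rw [Rep, map_inv, hg, map_inv, map_inv]

theorem Rep.center_iff (hg : A.Rep g M) : g ∈ center G ↔ ∃ r : F, scalar (Fin 2) r = (M : M2 F) := by
  rw [← A.kerΦ, hg, lift_cj_eq_one]

theorem Rep.mul_center (hg : A.Rep g M) {z : G} (hz : z ∈ center G) : A.Rep (g * z) M := by
  rw [Rep, map_mul, A.kerΦ.2 hz, mul_one, hg]

theorem Rep.of_sl {l : L} {Y : SL2 F} (h : A.p l = pr Y) : A.Rep (l : G) (sg Y) := by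
  rw [Rep, A.Φ_coe, h, lift_cj_sg]

theorem Rep.comm_cases (hg : A.Rep g M) (hh : A.Rep h N) (hc : g * h * g⁻¹ * h⁻¹ ∈ center G) :
    (M : M2 F) * N = N * M ∨ (M : M2 F) * N = -(N * M) := by
  obtain ⟨r, hr⟩ := (((hg.mul hh).mul hg.inv).mul hh.inv).center_iff.1 hc
  have h1 : M * N * M⁻¹ * N⁻¹ * (N * M) = M * N := by group
  have h2 : (M : M2 F) * N = scalar (Fin 2) r * (N * M) := by
    rw [hr]
    have := congrArg (fun x : GL (Fin 2) F => (x : M2 F)) h1
    simp only [Units.val_mul] at this ⊢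
    exact this.symm
  have h3 : r ^ 2 = 1 := by
    have h4 : (M * N * M⁻¹ * N⁻¹ : GL (Fin 2) F).det = 1 := by
      rw [map_mul, map_mul, map_mul, map_inv, map_inv, mul_comm (Matrix.GeneralLinearGroup.det M)]
      group
    have h5 : ((M * N * M⁻¹ * N⁻¹ : GL (Fin 2) F) : M2 F).det = 1 := congrArg Units.val h4
    rw [← hr] at h5
    simpa [det_fin_two, pow_two] using h5
  have h4 : (r - 1) * (r + 1) = 0 := by linear_combination h3
  rcases mul_eq_zero.1 h4 with h5 | h5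
  · left
    have : r = 1 := by linear_combination h5
    rw [h2, this, map_one, one_mul]
  · right
    have : r = -1 := by linear_combination h5
    rw [h2, this, map_neg, map_one, neg_mul, one_mul]

theorem commute_center {g h : G} (hc : Commute g h) : g * h * g⁻¹ * h⁻¹ ∈ center G := by
  rw [hc.eq, mul_inv_cancel_right, mul_inv_cancel]
  exact one_mem _

theorem klein {x a m : G} {X B M : GL (Fin 2) F} (h2 : (2 : F) ≠ 0) (hx : A.Rep x X) (ha : A.Rep a B)
    (hm : A.Rep m M) (hXB : (X : M2 F) * B = -(B * X)) (c1 : m * x * m⁻¹ * x⁻¹ ∈ center G)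
    (c2 : m * a * m⁻¹ * a⁻¹ ∈ center G) :
    m ∈ center G ∨ m * x ∈ center G ∨ m * a ∈ center G ∨ m * (x * a) ∈ center G := by
  rw [hm.center_iff, (hm.mul hx).center_iff, (hm.mul ha).center_iff, (hm.mul (hx.mul ha)).center_iff]
  exact mat_klein h2 (det_gl_ne X) (det_gl_ne B) hXB (hm.comm_cases hx c1) (hm.comm_cases ha c2)

theorem sq_center {x : G} {X B : GL (Fin 2) F} (h2 : (2 : F) ≠ 0) (hx : A.Rep x X)
    (hXB : (X : M2 F) * B = -(B * X)) : x * x ∈ center G := by
  rw [(hx.mul hx).center_iff]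
  apply scalar_of_comm h2 (det_gl_ne X) (det_gl_ne B) hXB
  · rw [Units.val_mul, mul_assoc]
  · have hBX : (B : M2 F) * X = -(X * B) := by rw [hXB, neg_neg]
    rw [Units.val_mul, mul_assoc, hXB, mul_neg, ← mul_assoc, hXB, neg_mul, neg_neg, mul_assoc]

/-- an odd power which is a 2-element -/
theorem exists_two_part [Finite G] {x : G} {X : GL (Fin 2) F} (hx : A.Rep x X)
    (hxx : x * x ∈ center G) : ∃ k n : ℕ, A.Rep (x ^ k) X ∧ (x ^ k) ^ 2 ^ n = 1 := by
  obtain ⟨n, k, hk, hnk⟩ := Nat.exists_eq_two_pow_mul_odd (orderOf_pos x).ne'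
  obtain ⟨j, rfl⟩ := hk
  refine ⟨2 * j + 1, n, ?_, ?_⟩
  · have h1 : x ^ (2 * j + 1) = x * (x * x) ^ j := by rw [pow_succ', pow_mul, pow_two]
    rw [h1]
    exact hx.mul_center (pow_mem hxx j)
  · rw [← pow_mul, mul_comm, ← hnk, pow_orderOf_eq_one]

theorem conj_neg {X B H : GL (Fin 2) F} (hXB : (X : M2 F) * B = -(B * X)) :
    ((H * X * H⁻¹ : GL (Fin 2) F) : M2 F) * ((H * B * H⁻¹ : GL (Fin 2) F) : M2 F) =
      -(((H * B * H⁻¹ : GL (Fin 2) F) : M2 F) * ((H * X * H⁻¹ : GL (Fin 2) F) : M2 F)) := by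
  rw [← Units.val_mul, ← Units.val_mul]
  have h1 : H * X * H⁻¹ * (H * B * H⁻¹) = H * (X * B) * H⁻¹ := by group
  have h2 : H * B * H⁻¹ * (H * X * H⁻¹) = H * (B * X) * H⁻¹ := by group
  rw [h1, h2]
  simp only [Units.val_mul]
  rw [hXB]
  simp only [mul_neg, neg_mul]

/-- **commuting elements have commuting matrices** -/
theorem no_minus [Finite G] (A : Act G L F) (h2 : (2 : F) ≠ 0)
    (hrep : ∀ g, ∃ M, A.Rep g M) (S : Sylow 2 G) {z : G} (hS : SylStr G (S : Subgroup G) z)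
    {x a : G} {X B : GL (Fin 2) F} (hx : A.Rep x X) (ha : A.Rep a B) (hc : Commute x a) :
    (X : M2 F) * B = B * X := by
  have hf : Fact (Nat.Prime 2) := ⟨Nat.prime_two⟩
  have hzc : ∀ {z : G}, z ∈ center G → ∀ g, g * z = z * g := fun {z} hz g => mem_center_iff.1 hz g
  rcases hx.comm_cases ha (commute_center hc) with h | hXB
  · exact h
  exfalso
  have hBX : (B : M2 F) * X = -(X * B) := by rw [hXB, neg_neg]
  have hxx := sq_center h2 hx hXB
  have haa := sq_center h2 ha hBX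
  obtain ⟨k, n, hx', hxn⟩ := exists_two_part hx hxx
  obtain ⟨l, m, ha', ham⟩ := exists_two_part ha haa
  have hc' : Commute (x ^ k) (a ^ l) := hc.pow_pow k l
  generalize x ^ k = x' at hx' hxn hc'
  generalize a ^ l = a' at ha' ham hc'
  have hzp : ∀ {w : G} {n : ℕ}, w ^ 2 ^ n = 1 → IsPGroup 2 (zpowers w) := by
    intro w n hw
    rw [IsPGroup.iff_card]
    have h4 : Nat.card (zpowers w) ∣ 2 ^ n := by
      rw [Nat.card_zpowers]
      exact orderOf_dvd_of_pow_eq_one hw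
    obtain ⟨k, -, hk⟩ := (Nat.dvd_prime_pow Nat.prime_two).1 h4
    exact ⟨k, hk⟩
  have hnorm : zpowers x' ≤ normalizer (zpowers a' : Set G) := by
    rw [zpowers_le, mem_normalizer_iff]
    intro w
    constructor
    · rintro ⟨k, rfl⟩
      refine ⟨k, ?_⟩
      change a' ^ k = x' * a' ^ k * x'⁻¹
      rw [(hc'.zpow_right k).eq, mul_inv_cancel_right]
    · rintro ⟨k, hk⟩
      refine ⟨k, ?_⟩
      change a' ^ k = x' * w * x'⁻¹ at hk
      change a' ^ k = w
      have h1 : w = x'⁻¹ * (a' ^ k) * x' := by rw [hk]; group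
      rw [h1, (hc'.inv_left.zpow_right k).eq, inv_mul_cancel_right]
  have hE : IsPGroup 2 (zpowers x' ⊔ zpowers a' : Subgroup G) :=
    (hzp hxn).to_sup_of_normal_right' (hzp ham) hnorm
  obtain ⟨h, -, hh⟩ := exists_conj_le_sylow S (H := ⊤) le_top hE le_top
  have hx₁S := hh x' ((le_sup_left : zpowers x' ≤ _) (mem_zpowers _))
  have ha₁S := hh a' ((le_sup_right : zpowers a' ≤ _) (mem_zpowers _))
  obtain ⟨H, hH⟩ := hrep h
  have hx₁ := (hH.mul hx').mul hH.inv
  have ha₁ := (hH.mul ha').mul hH.inv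
  have hXB₁ := conj_neg (H := H) hXB
  have hBX₁ := conj_neg (H := H) hBX
  have hc₁ : Commute (h * x' * h⁻¹) (h * a' * h⁻¹) := by
    change h * x' * h⁻¹ * (h * a' * h⁻¹) = h * a' * h⁻¹ * (h * x' * h⁻¹)
    calc h * x' * h⁻¹ * (h * a' * h⁻¹) = h * (x' * a') * h⁻¹ := by group
      _ = h * (a' * x') * h⁻¹ := by rw [hc'.eq]
      _ = _ := by group
  generalize h * x' * h⁻¹ = x₁ at *
  generalize h * a' * h⁻¹ = a₁ at *
  generalize H * X * H⁻¹ = X₁ at *
  generalize H * B * H⁻¹ = B₁ at *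
  have hxx₁ := sq_center h2 hx₁ hXB₁
  have haa₁ := sq_center h2 ha₁ hBX₁
  -- elements commuting modulo the centre with `x₁` and `a₁` commute with them
  have key : ∀ m : G, m * x₁ * m⁻¹ * x₁⁻¹ ∈ center G → m * a₁ * m⁻¹ * a₁⁻¹ ∈ center G →
      Commute m x₁ ∧ Commute m a₁ := by
    intro m c1 c2
    obtain ⟨M, hM⟩ := hrep m
    have h3 : ∀ w : G, m * w ∈ center G → Commute w x₁ → Commute w a₁ → Commute m x₁ ∧ Commute m a₁ := by
      intro w hw h4 h5
      have h6 : m = (m * w) * w⁻¹ := by group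
      have h7 : ∀ v, Commute (m * w) v := fun v => (hzc hw v).symm
      constructor
      · rw [h6]; exact (h7 x₁).mul_left h4.inv_left
      · rw [h6]; exact (h7 a₁).mul_left h5.inv_left
    rcases klein h2 hx₁ ha₁ hM hXB₁ c1 c2 with h4 | h4 | h4 | h4
    · exact h3 1 (by rwa [mul_one]) (Commute.one_left _) (Commute.one_left _)
    · exact h3 x₁ h4 (Commute.refl _) hc₁
    · exact h3 a₁ h4 hc₁.symm (Commute.refl _)
    · exact h3 (x₁ * a₁) h4 ((Commute.refl _).mul_left hc₁.symm) (hc₁.mul_left (Commute.refl _))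
  obtain ⟨hzx, hza⟩ := key z (hS.comm _ hx₁S) (hS.comm _ ha₁S)
  obtain ⟨y, hyS, hyz⟩ := hS.exists_not
  have hinv : ∀ w ∈ (S : Subgroup G), w * w ∈ center G → Commute w z → y * w * y⁻¹ * w⁻¹ ∈ center G := by
    intro w hw hww hwz
    have h3 := hS.inv_out y hyS hyz w hw hwz
    have h4 : y * w * y⁻¹ * w⁻¹ = (y * w * y⁻¹ * w) * (w * w)⁻¹ := by group
    rw [h4]
    exact mul_mem h3 (inv_mem hww)
  obtain ⟨hyx, hya⟩ := key y (hinv _ hx₁S hxx₁ hzx.symm) (hinv _ ha₁S haa₁ hza.symm)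
  -- `x₁` is fixed by `y`
  have h3 := hS.fix_out y hyS hyz _ hx₁S hzx.symm hyx.symm
  obtain ⟨r, hr⟩ := hx₁.center_iff.1 h3
  have h4 : (X₁ : M2 F) * B₁ = B₁ * X₁ := by
    rw [← hr]
    exact (scalar_commute r (Commute.all r) _)
  rw [hXB₁] at h4
  have h5 : (2 : F) • ((B₁ : M2 F) * X₁) = 0 := by
    rw [two_smul]
    nth_rewrite 1 [← h4]
    rw [neg_add_cancel]
  rw [smul_eq_zero] at h5
  have h6 := h5.resolve_left h2
  have h7 : ((B₁ : M2 F) * X₁).det = 0 := by rw [h6, det_zero]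
  rw [det_mul] at h7
  exact (mul_ne_zero (det_gl_ne B₁) (det_gl_ne X₁)) h7

end Act

end

end Cfsg.Agent.H577
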