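import Cfsg.Agent.H577.CARep

/-!
# Minimal non-CA groups: nonabelian Sylow 2-subgroups
-/

set_option autoImplicit false
set_option linter.unusedSectionVars false

namespace Cfsg.Agent.H577

open Matrix Subgroup Cfsg
open Cfsg.Agent.ClassicalGeometry.AutPSL.Root (pr pr_surjective)
open Cfsg.Agent.ClassicalGeometry.AutPSL.Auto (cj fld lift itr coe_cj coe_fld_apply lift_pr)
open Cfsg.Agent.ClassicalGeometry.AutPSL.Main (cj_eq_one_of_scalar injective_aux surj_two surj_three)
open Psl2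

universe u

section mat

variable {F : Type*} [Field F] [Fintype F]

/-- a matrix of determinant one anticommuting with a given invertible matrix of trace zero -/
theorem exists_anti (hodd : Odd (Fintype.card F)) {p q r : F} (hδ : p * p + q * r ≠ 0) :
    ∃ Y : SL2 F, (Y : M2 F) * !![p, q; r, -p] = -(!![p, q; r, -p] * (Y : M2 F)) := by
  obtain ⟨s, t, hst⟩ := exists_norm hodd hδ (-1)
  by_cases hr : r = 0
  · by_cases hq : q = 0
    · subst hr; subst hq
      refine ⟨⟨!![0, s + t * p; s - t * p, 0], by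
        rw [det_fin_two_of]; linear_combination -hst⟩, ?_⟩
      change !![0, s + t * p; s - t * p, 0] * !![p, 0; 0, -p] =
        -(!![p, 0; 0, -p] * !![0, s + t * p; s - t * p, 0])
      rw [mul_fin_two, mul_fin_two]
      ext i j
      fin_cases i <;> fin_cases j <;> simp <;> ring
    · subst hr
      have e : q * q⁻¹ = 1 := mul_inv_cancel₀ hq
      refine ⟨⟨!![s + t * p, t * q; 0, s - t * p] * !![1, 0; -(2 * p * q⁻¹), -1], by
        rw [det_mul, det_fin_two_of, det_fin_two_of]; linear_combination -hst⟩, ?_⟩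
      change !![s + t * p, t * q; 0, s - t * p] * !![1, 0; -(2 * p * q⁻¹), -1] * !![p, q; 0, -p] =
        -(!![p, q; 0, -p] * (!![s + t * p, t * q; 0, s - t * p] * !![1, 0; -(2 * p * q⁻¹), -1]))
      rw [mul_fin_two, mul_fin_two, mul_fin_two]
      ext i j
      fin_cases i <;> fin_cases j <;> simp
      · linear_combination (-2 * p * (s + t * p)) * e
      · linear_combination (-2 * t * p * q) * e
      · ring
      · linear_combination (-2 * p * (s - t * p)) * e
  · have e : r * r⁻¹ = 1 := mul_inv_cancel₀ hr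
    refine ⟨⟨!![s + t * p, t * q; t * r, s - t * p] * !![1, -(2 * p * r⁻¹); 0, -1], by
      rw [det_mul, det_fin_two_of, det_fin_two_of]; linear_combination -hst⟩, ?_⟩
    change !![s + t * p, t * q; t * r, s - t * p] * !![1, -(2 * p * r⁻¹); 0, -1] * !![p, q; r, -p] =
      -(!![p, q; r, -p] * (!![s + t * p, t * q; t * r, s - t * p] * !![1, -(2 * p * r⁻¹); 0, -1]))
    rw [mul_fin_two, mul_fin_two, mul_fin_two]
    ext i j
    fin_cases i <;> fin_cases j <;> simp
    · linear_combination (-2 * p * (s + t * p)) * e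
    · linear_combination (-2 * t * p * q) * e
    · linear_combination (-2 * t * r * p) * e
    · linear_combination (-2 * p * (s - t * p)) * e

/-- a nonscalar matrix with a double eigenvalue is conjugate to a triangular matrix -/
theorem exists_upper (h2 : (2 : F) ≠ 0) {X : M2 F}
    (hδ : (X 0 0 - X 1 1) * (X 0 0 - X 1 1) + 2 * X 0 1 * (2 * X 1 0) = 0) :
    ∃ (C : SL2 F) (s c : F), (C : M2 F) * X * ((C⁻¹ : SL2 F) : M2 F) = !![s, c; 0, s] := by
  by_cases hr : X 1 0 = 0
  · have h1 : X 0 0 = X 1 1 := by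
      rw [hr, mul_zero, mul_zero, add_zero] at hδ
      exact sub_eq_zero.1 (mul_self_eq_zero.1 hδ)
    refine ⟨1, X 0 0, X 0 1, ?_⟩
    rw [inv_one]
    change 1 * X * 1 = _
    rw [one_mul, mul_one]
    ext i j
    fin_cases i <;> fin_cases j <;> simp [hr, h1]
  · obtain ⟨k, hk⟩ : ∃ k : F, k * (2 * X 1 0) = X 0 0 - X 1 1 :=
      ⟨(X 0 0 - X 1 1) / (2 * X 1 0), div_mul_cancel₀ _ (mul_ne_zero h2 hr)⟩
    refine ⟨m2 0 1 (-1) k (by ring), X 1 0 * k + X 1 1, -X 1 0, ?_⟩
    rw [m2_inv]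
    change !![0, 1; -1, k] * X * !![k, -1; -(-1), 0] = _
    rw [eta_fin_two X, mul_fin_two, mul_fin_two]
    have e1 : k * (X 0 0 - X 1 1) + 2 * X 0 1 = 0 := by
      have h3 : (2 * X 1 0) * (k * (X 0 0 - X 1 1) + 2 * X 0 1) = 0 := by
        linear_combination hδ + (X 0 0 - X 1 1) * hk
      exact (mul_eq_zero.1 h3).resolve_left (mul_ne_zero h2 hr)
    have e2 : -(k * X 0 0) + k * k * X 1 0 - X 0 1 + k * X 1 1 = 0 := by
      have h3 : 2 * (-(k * X 0 0) + k * k * X 1 0 - X 0 1 + k * X 1 1) = 0 := by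
        linear_combination k * hk - e1
      exact (mul_eq_zero.1 h3).resolve_left h2
    ext i j
    fin_cases i <;> fin_cases j <;> simp
    · linear_combination e2
    · linear_combination -hk

end mat

section

variable {G : Type*} [Group G] {L : Subgroup G} {F : Type*} [Field F] [Fintype F]

namespace Act

/-- commuting elements have commuting matrices -/
def Comm (A : Act G L F) : Prop :=
  ∀ (x a : G) (X B : GL (Fin 2) F), A.Rep x X → A.Rep a B → Commute x a → (X : M2 F) * B = B * X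

theorem false_of_semisimple [Finite G] (A : Act G L F) (hm : MinCA G) (hodd : Odd (Fintype.card F))
    (h4 : 4 ≤ Fintype.card F) (hrep : ∀ g, ∃ M, A.Rep g M) (hco : A.Comm) {x a b : G}
    {X : GL (Fin 2) F} (hx : A.Rep x X) (hax : Commute a x) (hbx : Commute b x) (hab : ¬ Commute a b)
    (hδ : ((X : M2 F) 0 0 - (X : M2 F) 1 1) * ((X : M2 F) 0 0 - (X : M2 F) 1 1) +
      2 * (X : M2 F) 0 1 * (2 * (X : M2 F) 1 0) ≠ 0) : False := by
  have h2 := two_ne_zero_of_odd hodd
  obtain ⟨A₁, hA₁⟩ := hrep a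
  obtain ⟨B₁, hB₁⟩ := hrep b
  have hA₁X := hco _ _ _ _ hA₁ hx hax
  have hB₁X := hco _ _ _ _ hB₁ hx hbx
  set p := (X : M2 F) 0 0 - (X : M2 F) 1 1 with hp
  set q := 2 * (X : M2 F) 0 1 with hq
  set r := 2 * (X : M2 F) 1 0 with hr
  have hX₀ : !![p, q; r, -p] = (2 : F) • (X : M2 F) - scalar (Fin 2) ((X : M2 F) 0 0 + (X : M2 F) 1 1) := by
    ext i j
    fin_cases i <;> fin_cases j <;> simp [hp, hq, hr] <;> ring
  have hdet : (!![p, q; r, -p] : M2 F).det ≠ 0 := by
    rw [det_fin_two_of]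
    intro h
    apply hδ
    linear_combination -h
  let X₀ : GL (Fin 2) F := Matrix.GeneralLinearGroup.mkOfDetNeZero !![p, q; r, -p] hdet
  have hX₀c : (X₀ : M2 F) = !![p, q; r, -p] := rfl
  -- matrices commuting with `X` commute with `X₀`
  have hcomm : ∀ M : M2 F, M * X = X * M → M * X₀ = X₀ * M := by
    intro M hM
    rw [hX₀c, hX₀, mul_sub, sub_mul, mul_smul_comm, smul_mul_assoc, hM]
    congr 1
    exact (scalar_commute _ (Commute.all _) M).symm
  set H := (centralizer ({lift (cj X₀)} : Set (MulAut (P2 F)))).comap A.Φ with hH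
  have hmem : ∀ {g : G} {M : GL (Fin 2) F}, A.Rep g M → ((M : M2 F) * X₀ = X₀ * M ∨ (M : M2 F) * X₀ = -(X₀ * M)) →
      g ∈ H := by
    intro g M hg hM
    rw [hH, mem_comap, mem_centralizer_singleton_iff, hg, ← map_mul, ← map_mul, ← map_mul, ← map_mul]
    congr 1
    rcases hM with hM | hM
    · congr 1
      exact Units.ext (by rw [Units.val_mul, Units.val_mul, hM])
    · apply cj_eq_of_smul (r := -1)
      rw [Units.val_mul, Units.val_mul, hM, neg_smul, one_smul]
  have hxH : x ∈ H := hmem hx (Or.inl (hcomm _ rfl))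
  have haH : a ∈ H := hmem hA₁ (Or.inl (hcomm _ hA₁X))
  have hbH : b ∈ H := hmem hB₁ (Or.inl (hcomm _ hB₁X))
  have hHtop : H ≠ ⊤ := by
    intro htop
    have hs := TwoFusion.SLTwoFacts.isSimpleGroup_psl (F := F) (by omega)
    have hi := conj_injective (exists_noncomm (F := F) h4)
    have h1 : lift (cj X₀) = 1 := by
      apply MulEquiv.ext
      intro y
      obtain ⟨l, rfl⟩ := A.surj y
      have h3 : (l : G) ∈ H := by rw [htop]; exact mem_top _
      rw [hH, mem_comap, mem_centralizer_singleton_iff, A.Φ_coe, aut_mul_conj] at h3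
      have h5 := hi (mul_right_cancel h3)
      exact h5.symm
    obtain ⟨w, hw⟩ := lift_cj_eq_one.1 h1
    rw [hX₀c] at hw
    have e1 := congrFun (congrFun hw 0) 1
    have e2 := congrFun (congrFun hw 0) 0
    have e3 := congrFun (congrFun hw 1) 1
    simp at e1 e2 e3
    apply hδ
    rw [← e1]
    have e4 : 2 * p = 0 := by linear_combination e3 - e2
    have e5 := (mul_eq_zero.1 e4).resolve_left h2
    rw [e5]
    ring
  obtain ⟨Y, hY⟩ := exists_anti hodd hδ
  obtain ⟨l, hl⟩ := A.surj (pr Y)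
  have hlY := Rep.of_sl hl
  have h1 := hm.fact hHtop hxH haH hbH hax hbx hab (hmem hlY (Or.inr hY))
  have h3 := hcomm _ (hco _ _ _ _ hlY hx h1)
  have h5 : (2 : F) • (!![p, q; r, -p] * (Y : M2 F)) = 0 := by
    have h6 : (Y : M2 F) * !![p, q; r, -p] = !![p, q; r, -p] * (Y : M2 F) := h3
    rw [two_smul]
    nth_rewrite 1 [← h6]
    rw [hY, neg_add_cancel]
  rw [smul_eq_zero] at h5
  have h6 := h5.resolve_left h2
  have h7 : (!![p, q; r, -p] * (Y : M2 F)).det = 0 := by rw [h6, det_zero]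
  rw [det_mul, Y.2, mul_one] at h7
  exact hdet h7

theorem of_upper (A : Act G L F) {x : G} {X : GL (Fin 2) F} (hx : A.Rep x X) {s c : F}
    (hX : (X : M2 F) = !![s, c; 0, s]) :
    ∃ v : L, A.p v = pr (uu (Multiplicative.ofAdd (c / s))) ∧ A.Φ x = A.Φ v := by
  have hs : s ≠ 0 := by
    intro h
    apply det_gl_ne X
    rw [hX, det_fin_two_of, h]
    ring
  obtain ⟨v, hv⟩ := A.surj (pr (uu (Multiplicative.ofAdd (c / s))))
  refine ⟨v, hv, ?_⟩
  rw [hx, A.Φ_coe, hv, ← lift_cj_sg]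
  congr 1
  apply cj_eq_of_smul (r := s)
  rw [hX]
  change _ = s • (!![1, c / s; 0, 1] : M2 F)
  ext i j
  fin_cases i <;> fin_cases j <;> simp
  field_simp

theorem false_of_upper [Finite G] (A : Act G L F) (hm : MinCA G) (h4 : 4 ≤ Fintype.card F)
    (hrep : ∀ g, ∃ M, A.Rep g M) (hco : A.Comm) {x a b : G}
    {X : GL (Fin 2) F} (hx : A.Rep x X) (hax : Commute a x) (hbx : Commute b x) (hab : ¬ Commute a b)
    {s c : F} (hX : (X : M2 F) = !![s, c; 0, s]) (hc : c ≠ 0) : False := by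
  have hs : s ≠ 0 := by
    intro h
    apply det_gl_ne X
    rw [hX, det_fin_two_of, h]
    ring
  have hbor : ∀ (a : G) (A₁ : GL (Fin 2) F), A.Rep a A₁ → (A₁ : M2 F) * X = X * A₁ → a ∈ A.borel := by
    intro a A₁ hA₁ h
    have h1 : (A₁ : M2 F) = !![(A₁ : M2 F) 0 0, (A₁ : M2 F) 0 1; 0, (A₁ : M2 F) 0 0] := by
      rw [hX, eta_fin_two (A₁ : M2 F), mul_fin_two, mul_fin_two] at h
      have e1 := congrFun (congrFun h 0) 0
      have e2 := congrFun (congrFun h 0) 1
      simp at e1 e2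
      have e3 : (A₁ : M2 F) 1 0 = 0 := by
        have : c * (A₁ : M2 F) 1 0 = 0 := by linear_combination -e1
        exact (mul_eq_zero.1 this).resolve_left hc
      have e4 : (A₁ : M2 F) 1 1 = (A₁ : M2 F) 0 0 := by
        have : c * ((A₁ : M2 F) 1 1 - (A₁ : M2 F) 0 0) = 0 := by linear_combination -e2
        exact sub_eq_zero.1 ((mul_eq_zero.1 this).resolve_left hc)
      nth_rewrite 1 [eta_fin_two (A₁ : M2 F)]
      rw [e3, e4]
    obtain ⟨v, hv, hva⟩ := A.of_upper hA₁ h1
    have h3 := A.mem_borel_of_uu hv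
    rw [mem_borel] at h3 ⊢
    rwa [hva]
  obtain ⟨v, hv, hvx⟩ := A.of_upper hx hX
  obtain ⟨A₁, hA₁⟩ := hrep a
  obtain ⟨B₁, hB₁⟩ := hrep b
  obtain ⟨h, hhB, hhv⟩ := A.exists_torus h4 (div_ne_zero hc hs) hv
  have h1 := hm.fact A.borel_ne_top (hbor x X hx rfl) (hbor a A₁ hA₁ (hco _ _ _ _ hA₁ hx hax))
    (hbor b B₁ hB₁ (hco _ _ _ _ hB₁ hx hbx)) hax hbx hab hhB
  apply hhv
  have h3 : (v : G)⁻¹ * x ∈ center G := by
    rw [← A.kerΦ, map_mul, map_inv, hvx, inv_mul_cancel]
  have h5 : (v : G) = x * ((v : G)⁻¹ * x)⁻¹ := by group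
  rw [h5]
  exact h1.mul_right (mem_center_iff.1 (inv_mem h3) _)

theorem conj_commute {g a x : G} : Commute (g * a * g⁻¹) (g * x * g⁻¹) ↔ Commute a x := by
  constructor
  · intro h
    have h1 : g * (a * x) * g⁻¹ = g * (x * a) * g⁻¹ := by
      calc g * (a * x) * g⁻¹ = g * a * g⁻¹ * (g * x * g⁻¹) := by group
        _ = g * x * g⁻¹ * (g * a * g⁻¹) := h
        _ = _ := by group
    exact mul_left_cancel (mul_right_cancel h1)
  · intro h
    change g * a * g⁻¹ * (g * x * g⁻¹) = g * x * g⁻¹ * (g * a * g⁻¹)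
    calc g * a * g⁻¹ * (g * x * g⁻¹) = g * (a * x) * g⁻¹ := by group
      _ = g * (x * a) * g⁻¹ := by rw [h.eq]
      _ = _ := by group

/-- **`G` is a CA-group.** -/
theorem ca_of_comm [Finite G] (A : Act G L F) (hm : MinCA G) (hodd : Odd (Fintype.card F))
    (h4 : 4 ≤ Fintype.card F) (hrep : ∀ g, ∃ M, A.Rep g M) (hco : A.Comm) : CA G := by
  intro x y a b hax hbx hyx
  by_contra hab
  have h2 := two_ne_zero_of_odd hodd
  obtain ⟨X, hx⟩ := hrep x
  by_cases hδ : ((X : M2 F) 0 0 - (X : M2 F) 1 1) * ((X : M2 F) 0 0 - (X : M2 F) 1 1) +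
      2 * (X : M2 F) 0 1 * (2 * (X : M2 F) 1 0) = 0
  · obtain ⟨C, s, c, hC⟩ := exists_upper h2 hδ
    obtain ⟨l, hl⟩ := A.surj (pr C)
    have hlC := Rep.of_sl hl
    have hx' := (hlC.mul hx).mul hlC.inv
    have hX' : ((sg C * X * (sg C)⁻¹ : GL (Fin 2) F) : M2 F) = !![s, c; 0, s] := hC
    refine A.false_of_upper hm h4 hrep hco hx' (a := l * a * (l : G)⁻¹) (b := l * b * (l : G)⁻¹)
      (conj_commute.2 hax) (conj_commute.2 hbx) (fun h => hab (conj_commute.1 h)) hX' ?_
    intro hc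
    apply hyx
    have h3 : l * x * (l : G)⁻¹ ∈ center G := by
      rw [hx'.center_iff, hX', hc]
      refine ⟨s, ?_⟩
      ext i j
      fin_cases i <;> fin_cases j <;> simp
    have h5 : x ∈ center G := by
      have h6 := (inferInstance : (center G).Normal).conj_mem _ h3 (l : G)⁻¹
      have h7 : (l : G)⁻¹ * (l * x * (l : G)⁻¹) * (l : G)⁻¹⁻¹ = x := by group
      rwa [h7] at h6
    exact mem_center_iff.1 h5 y
  · exact A.false_of_semisimple hm hodd h4 hrep hco hx hax hbx hab hδ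

end Act

end

end Cfsg.Agent.H577
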