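import Mathlib.GroupTheory.OrderOfElement
import Mathlib.GroupTheory.Sylow
import Mathlib.GroupTheory.QuotientGroup.Basic
import Mathlib.GroupTheory.Solvable
import Mathlib.Data.Nat.Factors
import Mathlib.Tactic

/-!
# Groups in which no prime divides three distinct element orders

`Few G` : no prime divides three distinct orders of elements of `G`.
`Ord G n` : `G` has an element of order `n`.
-/

set_option autoImplicit false

namespace Cfsg.Agent.H577

/-- No prime divides three pairwise distinct element orders. -/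
def Few (G : Type*) [Group G] : Prop :=
  ∀ p : ℕ, p.Prime → ∀ a b c : G, orderOf a ≠ orderOf b → orderOf b ≠ orderOf c →
    orderOf a ≠ orderOf c → ¬ (p ∣ orderOf a ∧ p ∣ orderOf b ∧ p ∣ orderOf c)

/-- `G` has an element of order `n`. -/
def Ord (G : Type*) [Group G] (n : ℕ) : Prop := ∃ g : G, orderOf g = n

variable {G H : Type*} [Group G] [Group H]

theorem Ord.of_injective {n : ℕ} (h : Ord H n) (f : H →* G) (hf : Function.Injective f) : Ord G n := by
  obtain ⟨x, rfl⟩ := h
  exact ⟨f x, orderOf_injective f hf x⟩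

theorem Ord.of_subgroup {n : ℕ} {K : Subgroup G} (h : Ord K n) : Ord G n :=
  h.of_injective K.subtype K.subtype_injective

theorem Ord.dvd [Finite G] {n d : ℕ} (h : Ord G n) (hd : d ∣ n) : Ord G d := by
  obtain ⟨x, rfl⟩ := h
  have h0 : orderOf x ≠ 0 := (orderOf_pos x).ne'
  exact ⟨x ^ (orderOf x / d), orderOf_pow_orderOf_div h0 hd⟩

theorem Ord.of_surjective [Finite G] {n : ℕ} (h : Ord H n) (f : G →* H) (hf : Function.Surjective f) :
    Ord G n := by
  obtain ⟨x, rfl⟩ := h
  obtain ⟨g, rfl⟩ := hf x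
  exact Ord.dvd ⟨g, rfl⟩ (orderOf_map_dvd f g)

theorem Ord.of_equiv {n : ℕ} (h : Ord H n) (e : H ≃* G) : Ord G n :=
  h.of_injective e.toMonoidHom e.injective

theorem Ord.pos [Finite G] {n : ℕ} (h : Ord G n) : 0 < n := by
  obtain ⟨x, rfl⟩ := h
  exact orderOf_pos x

theorem ord_of_prime_dvd_card [Finite G] {p : ℕ} (hp : p.Prime) (h : p ∣ Nat.card G) : Ord G p := by
  have := Fact.mk hp
  exact exists_prime_orderOf_dvd_card' p h

theorem Ord.dvd_card {n : ℕ} (h : Ord G n) : n ∣ Nat.card G := by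
  obtain ⟨x, rfl⟩ := h
  exact orderOf_dvd_natCard x

/-- commuting elements of coprime orders -/
theorem ord_mul {x y : G} (h : Commute x y) (hc : (orderOf x).Coprime (orderOf y)) :
    Ord G (orderOf x * orderOf y) :=
  ⟨x * y, h.orderOf_mul_eq_mul_orderOf_of_coprime hc⟩

theorem Few.of_injective (h : Few G) (f : H →* G) (hf : Function.Injective f) : Few H := by
  intro p hp a b c h1 h2 h3 h4
  refine h p hp (f a) (f b) (f c) ?_ ?_ ?_ ?_
  · rw [orderOf_injective f hf, orderOf_injective f hf]; exact h1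
  · rw [orderOf_injective f hf, orderOf_injective f hf]; exact h2
  · rw [orderOf_injective f hf, orderOf_injective f hf]; exact h3
  · rw [orderOf_injective f hf, orderOf_injective f hf, orderOf_injective f hf]; exact h4

theorem Few.of_surjective [Finite G] (h : Few G) (f : G →* H) (hf : Function.Surjective f) : Few H := by
  intro p hp a b c h1 h2 h3 h4
  obtain ⟨a', ha⟩ := Ord.of_surjective (H := H) ⟨a, rfl⟩ f hf
  obtain ⟨b', hb⟩ := Ord.of_surjective (H := H) ⟨b, rfl⟩ f hf
  obtain ⟨c', hc⟩ := Ord.of_surjective (H := H) ⟨c, rfl⟩ f hf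
  refine h p hp a' b' c' ?_ ?_ ?_ ?_
  · rw [ha, hb]; exact h1
  · rw [hb, hc]; exact h2
  · rw [ha, hc]; exact h3
  · rw [ha, hb, hc]; exact h4

theorem Few.quotient [Finite G] (h : Few G) (N : Subgroup G) [N.Normal] : Few (G ⧸ N) :=
  h.of_surjective (QuotientGroup.mk' N) (QuotientGroup.mk'_surjective N)

theorem Few.subgroup (h : Few G) (K : Subgroup G) : Few K :=
  h.of_injective K.subtype K.subtype_injective

/-- three distinct orders divisible by a prime -/
theorem Few.false (h : Few G) {p n₁ n₂ n₃ : ℕ} (hp : p.Prime) (h1 : Ord G n₁) (h2 : Ord G n₂)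
    (h3 : Ord G n₃) (h12 : n₁ ≠ n₂) (h23 : n₂ ≠ n₃) (h13 : n₁ ≠ n₃) (d1 : p ∣ n₁) (d2 : p ∣ n₂)
    (d3 : p ∣ n₃) : False := by
  obtain ⟨a, rfl⟩ := h1
  obtain ⟨b, rfl⟩ := h2
  obtain ⟨c, rfl⟩ := h3
  exact h p hp a b c h12 h23 h13 ⟨d1, d2, d3⟩

/-- no element order is a product of three primes -/
theorem Few.length_le_two [Finite G] (h : Few G) {n : ℕ} (hn : Ord G n) :
    n.primeFactorsList.length ≤ 2 := by
  by_contra hcon
  push Not at hcon
  have hn0 : n ≠ 0 := hn.pos.ne'
  obtain ⟨p, q, r, l, hl⟩ : ∃ (p q r : ℕ) (l : List ℕ), n.primeFactorsList = p :: q :: r :: l := by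
    rcases hL : n.primeFactorsList with _ | ⟨p, _ | ⟨q, _ | ⟨r, l⟩⟩⟩
    · rw [hL] at hcon; simp at hcon
    · rw [hL] at hcon; simp at hcon
    · rw [hL] at hcon; simp at hcon
    · exact ⟨p, q, r, l, rfl⟩
  have hprod := Nat.prod_primeFactorsList hn0
  rw [hl] at hprod
  simp only [List.prod_cons] at hprod
  have hp : p.Prime := Nat.prime_of_mem_primeFactorsList (n := n) (by rw [hl]; simp)
  have hq : q.Prime := Nat.prime_of_mem_primeFactorsList (n := n) (by rw [hl]; simp)
  have hr : r.Prime := Nat.prime_of_mem_primeFactorsList (n := n) (by rw [hl]; simp)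
  have d1 : p ∣ n := ⟨_, hprod.symm⟩
  have d2 : p * q ∣ n := ⟨r * l.prod, by rw [← hprod]; ring⟩
  have d3 : p * q * r ∣ n := ⟨l.prod, by rw [← hprod]; ring⟩
  have hpp := hp.pos
  have hqq := hq.one_lt
  have hrr := hr.one_lt
  refine h.false hp (hn.dvd d1) (hn.dvd d2) (hn.dvd d3) ?_ ?_ ?_ dvd_rfl (Dvd.intro _ rfl)
    (Dvd.intro (q * r) (by ring))
  · nlinarith
  · have : 0 < p * q := Nat.mul_pos hpp hq.pos
    nlinarith
  · have : 1 < q * r := by nlinarith
    nlinarith

end Cfsg.Agent.H577
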