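import Mathlib.GroupTheory.OrderOfElement
import Mathlib.GroupTheory.QuotientGroup.Basic
import Mathlib.GroupTheory.Subgroup.Centralizer
import Mathlib.Tactic
import Cfsg.Agent.H577.Few

/-!
# Norms in Frobenius actions

* `exists_norm_ne_one`: if `E` acts nontrivially on the abelian group `V` without `|E|`-torsion, and `c` normalises `E`
  with `c ^ i` fixed-point-free on `E` for `0 < i < l`, then `∏_{i < l} c ^ i v ≠ 1` for some `v`.
* `ord_mul_of_norm`: a nontrivial norm gives an element of order `l s` in an extension of a group of exponent `s`.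
-/

set_option autoImplicit false

namespace Cfsg.Agent.H577

open Finset
open scoped IsMulCommutative

/-- **Norm lemma** (Frobenius groups acting on abelian groups). -/
theorem exists_norm_ne_one {Q V : Type*} [Group Q] [CommGroup V] (ρ : Q →* MulAut V) (E : Subgroup Q)
    [Finite E] (htor : ∀ v : V, v ^ Nat.card E = 1 → v = 1) (c : Q) {l : ℕ} (hl : 0 < l)
    (hnorm : ∀ e ∈ E, c * e * c⁻¹ ∈ E)
    (hsemi : ∀ i : ℕ, 0 < i → i < l → ∀ e ∈ E, c ^ i * e * (c ^ i)⁻¹ = e → e = 1)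
    (hact : ∃ e ∈ E, ∃ v : V, ρ e v ≠ v) : ∃ v : V, ∏ i ∈ range l, ρ (c ^ i) v ≠ 1 := by
  classical
  by_contra hcon
  push Not at hcon
  obtain ⟨e₀, he₀, v, hv⟩ := hact
  have := Fintype.ofFinite E
  have hnormi : ∀ i : ℕ, ∀ e ∈ E, c ^ i * e * (c ^ i)⁻¹ ∈ E := by
    intro i
    induction i with
    | zero => intro e he; simpa using he
    | succ i ih =>
      intro e he
      have h1 := hnorm _ (ih e he)
      have h2 : c * (c ^ i * e * (c ^ i)⁻¹) * c⁻¹ = c ^ (i + 1) * e * (c ^ (i + 1))⁻¹ := by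
        rw [pow_succ']; group
      rwa [h2] at h1
  -- conjugate norms
  have hconj : ∀ e : Q, ∏ i ∈ range l, ρ (e * c ^ i * e⁻¹) v = 1 := by
    intro e
    have h1 := hcon (ρ e⁻¹ v)
    have h2 : ∏ i ∈ range l, ρ (e * c ^ i * e⁻¹) v = ρ e (∏ i ∈ range l, ρ (c ^ i) (ρ e⁻¹ v)) := by
      rw [map_prod]
      refine prod_congr rfl fun i _ => ?_
      rw [map_mul, map_mul]
      rfl
    rw [h2, h1, map_one]
  -- the key bijection
  have hbij : ∀ i ∈ range l, i ≠ 0 → ∏ e : E, ρ ((e : Q) * c ^ i) v = ∏ e : E, ρ ((e : Q) * c ^ i * (e : Q)⁻¹) v := by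
    intro i hi hi0
    let φ : E → E := fun e => ⟨(e : Q) * (c ^ i * (e : Q)⁻¹ * (c ^ i)⁻¹),
      E.mul_mem e.2 (hnormi i _ (E.inv_mem e.2))⟩
    have hφ : Function.Bijective φ := by
      rw [← Finite.injective_iff_bijective]
      intro a b hab
      have h1 : (a : Q) * (c ^ i * (a : Q)⁻¹ * (c ^ i)⁻¹) = (b : Q) * (c ^ i * (b : Q)⁻¹ * (c ^ i)⁻¹) :=
        congrArg Subtype.val hab
      have h2 : c ^ i * ((b : Q)⁻¹ * a) * (c ^ i)⁻¹ = (b : Q)⁻¹ * a := by
        have h3 : (b : Q)⁻¹ * a * (c ^ i * (a : Q)⁻¹ * (c ^ i)⁻¹) = c ^ i * (b : Q)⁻¹ * (c ^ i)⁻¹ := by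
          rw [mul_assoc, h1]; group
        calc c ^ i * ((b : Q)⁻¹ * a) * (c ^ i)⁻¹
            = (c ^ i * (b : Q)⁻¹ * (c ^ i)⁻¹) * (c ^ i * a * (c ^ i)⁻¹) := by group
          _ = ((b : Q)⁻¹ * a * (c ^ i * (a : Q)⁻¹ * (c ^ i)⁻¹)) * (c ^ i * a * (c ^ i)⁻¹) := by rw [h3]
          _ = (b : Q)⁻¹ * a := by group
      have h3 := hsemi i (Nat.pos_of_ne_zero hi0) (mem_range.1 hi) _ (E.mul_mem (E.inv_mem b.2) a.2) h2
      apply Subtype.ext
      exact (inv_mul_eq_one.1 h3).symm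
    rw [← Function.Bijective.prod_comp hφ (fun e : E => ρ ((e : Q) * c ^ i) v)]
    refine prod_congr rfl fun e _ => ?_
    congr 2
    show (e : Q) * (c ^ i * (e : Q)⁻¹ * (c ^ i)⁻¹) * c ^ i = (e : Q) * c ^ i * (e : Q)⁻¹
    group
  -- the double product
  have h1 : ∏ e : E, ∏ i ∈ range l, ρ ((e : Q) * c ^ i) v = 1 := by
    refine prod_eq_one fun e _ => ?_
    have h2 : ∏ i ∈ range l, ρ ((e : Q) * c ^ i) v = ρ (e : Q) (∏ i ∈ range l, ρ (c ^ i) v) := by
      rw [map_prod]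
      refine prod_congr rfl fun i _ => ?_
      rw [map_mul]; rfl
    rw [h2, hcon v, map_one]
  have h2 : ∏ e : E, ∏ i ∈ range l, ρ ((e : Q) * c ^ i * (e : Q)⁻¹) v = 1 :=
    prod_eq_one fun e _ => hconj e
  obtain ⟨l', rfl⟩ : ∃ l', l = l' + 1 := ⟨l - 1, by omega⟩
  rw [prod_comm, prod_range_succ'] at h1 h2
  have h3 : ∏ i ∈ range l', ∏ e : E, ρ ((e : Q) * c ^ (i + 1)) v =
      ∏ i ∈ range l', ∏ e : E, ρ ((e : Q) * c ^ (i + 1) * (e : Q)⁻¹) v := by
    refine prod_congr rfl fun i hi => ?_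
    exact hbij (i + 1) (mem_range.2 (by have := mem_range.1 hi; omega)) (by omega)
  rw [h3] at h1
  have h4 : ∏ e : E, ρ ((e : Q) * c ^ 0) v = ∏ e : E, ρ ((e : Q) * c ^ 0 * (e : Q)⁻¹) v :=
    mul_left_cancel (h1.trans h2.symm)
  have h5 : ∏ e : E, ρ (e : Q) v = v ^ Nat.card E := by
    have h6 : ∏ e : E, ρ ((e : Q) * c ^ 0) v = ∏ e : E, ρ (e : Q) v := by
      refine prod_congr rfl fun e _ => ?_
      rw [pow_zero, mul_one]
    rw [← h6, h4]
    have h7 : ∀ e : E, ρ ((e : Q) * c ^ 0 * (e : Q)⁻¹) v = v := by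
      intro e
      rw [pow_zero, mul_one, mul_inv_cancel, map_one]; rfl
    rw [prod_congr rfl fun e _ => h7 e, prod_const, card_univ, Nat.card_eq_fintype_card]
  have h6 : ρ e₀ (v ^ Nat.card E) = v ^ Nat.card E := by
    rw [← h5, map_prod]
    rw [← Function.Bijective.prod_comp (Group.mulLeft_bijective (⟨e₀, he₀⟩ : E)) (fun e : E => ρ (e : Q) v)]
    refine prod_congr rfl fun e _ => ?_
    show ρ e₀ (ρ (e : Q) v) = ρ (e₀ * (e : Q)) v
    rw [map_mul]; rfl
  apply hv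
  have h8 : (ρ e₀ v * v⁻¹) ^ Nat.card E = 1 := by
    rw [mul_pow, ← map_pow, h6, inv_pow, mul_inv_cancel]
  exact mul_inv_eq_one.1 (htor _ h8)

/-- `(v x) ^ n = (∏ x ^ i v x ^ {-i}) x ^ n`. -/
theorem mul_pow_eq_norm {G : Type*} [Group G] {U : Subgroup G} [hUn : U.Normal] [IsMulCommutative U] (x : G) (v : U)
    (n : ℕ) : ((v : G) * x) ^ n =
      ((∏ i ∈ range n, MulAut.conjNormal (x ^ i) v : U) : G) * x ^ n := by
  induction n with
  | zero => simp
  | succ n ih =>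
    rw [pow_succ, ih, prod_range_succ, Subgroup.coe_mul, MulAut.conjNormal_apply, pow_succ x n]
    group

/-- A nontrivial norm gives an element of order `l s`. -/
theorem ord_mul_of_norm {G : Type*} [Group G] [Finite G] {U : Subgroup G} [hUn : U.Normal] [IsMulCommutative U]
    {s l : ℕ} (hs : s.Prime) (hU : ∀ u ∈ U, u ^ s = 1) (x : G)
    (hl : orderOf (QuotientGroup.mk' U x) = l)
    (v : U) (hv : ∏ i ∈ range l, MulAut.conjNormal (x ^ i) v ≠ (1 : U)) : Ord G (l * s) := by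
  have hl0 : 0 < l := by rw [← hl]; exact orderOf_pos _
  have key : ∀ y : G, QuotientGroup.mk' U y = QuotientGroup.mk' U x → y ^ l ≠ 1 → Ord G (l * s) := by
    intro y hy hyl
    have h1 : y ^ l ∈ U := by
      rw [← QuotientGroup.ker_mk' U, MonoidHom.mem_ker, map_pow, hy, ← hl, pow_orderOf_eq_one]
    have h2 : l ∣ orderOf y := by
      rw [← hl, ← hy]; exact orderOf_map_dvd _ _
    have h3 : orderOf y ∣ l * s := by
      rw [orderOf_dvd_iff_pow_eq_one, pow_mul]; exact hU _ h1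
    obtain ⟨m, hm⟩ := h2
    rw [hm] at h3
    have h4 : m ∣ s := Nat.dvd_of_mul_dvd_mul_left hl0 h3
    rcases (Nat.dvd_prime hs).1 h4 with h5 | h5
    · exfalso
      apply hyl
      rw [h5, mul_one] at hm
      rw [← hm, pow_orderOf_eq_one]
    · exact ⟨y, by rw [hm, h5]⟩
  by_cases hx : x ^ l = 1
  · refine key ((v : G) * x) ?_ ?_
    · rw [map_mul]
      have : QuotientGroup.mk' U (v : G) = 1 := by
        rw [← MonoidHom.mem_ker, QuotientGroup.ker_mk']; exact v.2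
      rw [this, one_mul]
    · rw [mul_pow_eq_norm, hx, mul_one]
      intro h
      exact hv (Subtype.ext h)
  · exact key x rfl hx

end Cfsg.Agent.H577
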