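import Mathlib.GroupTheory.Sylow
import Mathlib.GroupTheory.SchurZassenhaus
import Mathlib.Tactic
import Cfsg.Agent.H577.Norm
import Cfsg.Agent.Lib.Cores

/-!
# The solvable radical of a group in which no prime divides three element orders
-/

set_option autoImplicit false

namespace Cfsg.Agent.H577

open Subgroup Cfsg
open scoped IsMulCommutative

/-- A nontrivial solvable normal subgroup contains a nontrivial abelian subgroup of prime exponent, normal in the
group. -/
theorem exists_normal_elem {G : Type*} [Group G] [Finite G] (K : Subgroup G) [K.Normal]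
    (hK : K ≠ ⊥) (hs : Group.IsSolvable K) :
    ∃ (p : ℕ) (V : Subgroup G), p.Prime ∧ V.Normal ∧ V ≠ ⊥ ∧ V ≤ K ∧ IsMulCommutative V ∧
      ∀ x ∈ V, x ^ p = 1 := by
  classical
  have hA : ∃ A : Subgroup G, A.Normal ∧ A ≠ ⊥ ∧ A ≤ K ∧ ∀ x ∈ A, ∀ y ∈ A, x * y = y * x := by
    obtain ⟨n, hn⟩ := (Group.isSolvable_def K).1 hs
    have hex : ∃ n, derivedSeries K n = ⊥ := ⟨n, hn⟩
    set m := Nat.find hex with hm
    have hmspec : derivedSeries K m = ⊥ := Nat.find_spec hex
    have hm0 : m ≠ 0 := by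
      intro h0
      rw [h0, derivedSeries_zero] at hmspec
      apply hK
      rw [eq_bot_iff]
      intro x hx
      have : (⟨x, hx⟩ : K) ∈ (⊤ : Subgroup K) := Subgroup.mem_top _
      rw [hmspec, Subgroup.mem_bot] at this
      simpa using congrArg Subtype.val this
    obtain ⟨l, hl⟩ := Nat.exists_eq_succ_of_ne_zero hm0
    have hlne : derivedSeries K l ≠ ⊥ := by
      apply Nat.find_min hex
      omega
    have hchar : (derivedSeries K l).Characteristic := inferInstance
    refine ⟨(derivedSeries K l).map K.subtype, inferInstance, ?_, Subgroup.map_subtype_le _, ?_⟩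
    · intro h
      apply hlne
      exact (Subgroup.map_eq_bot_iff_of_injective _ K.subtype_injective).1 h
    · have hcomm : ⁅derivedSeries K l, derivedSeries K l⁆ = ⊥ := by
        rw [← derivedSeries_succ]
        have : l + 1 = m := by omega
        rw [this]; exact hmspec
      rintro _ ⟨x, hx, rfl⟩ _ ⟨y, hy, rfl⟩
      have := Subgroup.commutator_mem_commutator hx hy
      rw [hcomm, Subgroup.mem_bot, commutatorElement_eq_one_iff_mul_comm] at this
      rw [← map_mul, this, map_mul]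
  obtain ⟨A, hAn, hA0, hAK, hAc⟩ := hA
  have : Nontrivial A := (Subgroup.nontrivial_iff_ne_bot A).2 hA0
  have hcard : Nat.card A ≠ 1 := by
    have := Finite.one_lt_card (α := A); omega
  obtain ⟨p, hp, hpd⟩ := Nat.exists_prime_and_dvd hcard
  have := Fact.mk hp
  obtain ⟨x, hx⟩ := exists_prime_orderOf_dvd_card' (G := A) p hpd
  refine ⟨p, ?_, hp, ?_, ?_, ?_, ?_, ?_⟩
  · exact
      { carrier := {x | x ∈ A ∧ x ^ p = 1}
        one_mem' := ⟨A.one_mem, one_pow _⟩
        mul_mem' := by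
          rintro a b ⟨ha, ha'⟩ ⟨hb, hb'⟩
          refine ⟨A.mul_mem ha hb, ?_⟩
          have hc : Commute a b := hAc a ha b hb
          rw [hc.mul_pow, ha', hb', one_mul]
        inv_mem' := by
          rintro a ⟨ha, ha'⟩
          refine ⟨A.inv_mem ha, ?_⟩
          rw [inv_pow, ha', inv_one] }
  · constructor
    rintro a ⟨ha, ha'⟩ g
    refine ⟨hAn.conj_mem a ha g, ?_⟩
    rw [conj_pow, ha', mul_one, mul_inv_cancel]
  · intro h
    have hxm : (x : G) ∈ (⊥ : Subgroup G) := by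
      rw [← h]
      refine ⟨x.2, ?_⟩
      have := pow_orderOf_eq_one x
      rw [hx] at this
      simpa using congrArg Subtype.val this
    rw [Subgroup.mem_bot] at hxm
    have hx1 : x = 1 := Subtype.ext hxm
    rw [hx1, orderOf_one] at hx
    exact hp.one_lt.ne hx
  · rintro a ⟨ha, _⟩
    exact hAK ha
  · refine ⟨⟨fun a b => Subtype.ext (hAc _ a.2.1 _ b.2.1)⟩⟩
  · rintro a ⟨_, ha'⟩
    exact ha'

theorem exists_order_of_map_top {G T : Type*} [Group G] [Finite G] [Group T] (f : G →* T) (K : Subgroup G)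
    (hK : K.map f = ⊤) {l : ℕ} (hl : l.Prime) (hd : l ∣ Nat.card T) : ∃ x ∈ K, orderOf x = l := by
  have := Fact.mk hl
  have h1 : l ∣ Nat.card K := by
    refine hd.trans ?_
    have h2 := Subgroup.card_map_dvd (H := K) f
    rw [hK, Subgroup.card_top] at h2
    exact h2
  obtain ⟨x, hx⟩ := exists_prime_orderOf_dvd_card' (G := K) l h1
  exact ⟨x, x.2, by rw [Subgroup.orderOf_coe]; exact hx⟩

/-- two different primes dividing `n`, different from a given one -/
theorem exists_two_primes {n s l₁ l₂ : ℕ} (h2 : 2 ∣ n) (hl₁ : l₁.Prime) (hl₂ : l₂.Prime)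
    (h12 : l₁ ≠ 2) (h22 : l₂ ≠ 2) (hne : l₁ ≠ l₂) (hd₁ : l₁ ∣ n) (hd₂ : l₂ ∣ n) :
    ∃ a b : ℕ, a.Prime ∧ b.Prime ∧ a ≠ b ∧ a ≠ s ∧ b ≠ s ∧ a ∣ n ∧ b ∣ n := by
  by_cases h1 : s = l₁
  · exact ⟨2, l₂, Nat.prime_two, hl₂, h22.symm, by rw [h1]; exact h12.symm, by rw [h1]; exact hne.symm, h2, hd₂⟩
  · by_cases h2' : s = l₂
    · exact ⟨2, l₁, Nat.prime_two, hl₁, h12.symm, by rw [h2']; exact h22.symm, by rw [h2']; exact hne, h2, hd₁⟩
    · exact ⟨l₁, l₂, hl₁, hl₂, hne, Ne.symm h1, Ne.symm h2', hd₁, hd₂⟩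

section

variable {G T : Type*} [Group G] [Group T]

/-- A prime `s` with `s`, `s a`, `s b` element orders -/
theorem false_of_commute (hG : Few G) {s a b : ℕ} (hs : s.Prime) (ha : a.Prime) (hb : b.Prime) (hab : a ≠ b)
    (h1 : Ord G s) (h2 : Ord G (s * a)) (h3 : Ord G (s * b)) : False := by
  refine hG.false hs h1 h2 h3 ?_ ?_ ?_ dvd_rfl (dvd_mul_right _ _) (dvd_mul_right _ _)
  · intro h
    have := hs.pos
    have := ha.one_lt
    nlinarith
  · intro h
    exact hab (Nat.eq_of_mul_eq_mul_left hs.pos h)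
  · intro h
    have := hs.pos
    have := hb.one_lt
    nlinarith

/-- If a subgroup maps onto `T` and commutes with an element of prime order, there is a contradiction. -/
theorem false_of_centralizer [Finite G] (hG : Few G) (f : G →* T) (K : Subgroup G) (hK : K.map f = ⊤)
    (h2 : 2 ∣ Nat.card T) {l₁ l₂ : ℕ} (hl₁ : l₁.Prime) (hl₂ : l₂.Prime)
    (h12 : l₁ ≠ 2) (h22 : l₂ ≠ 2) (hne : l₁ ≠ l₂) (hd₁ : l₁ ∣ Nat.card T) (hd₂ : l₂ ∣ Nat.card T)
    {s : ℕ} (hs : s.Prime) (u : G) (hu : orderOf u = s) (hc : ∀ x ∈ K, Commute x u) : False := by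
  obtain ⟨a, b, ha, hb, hab, has, hbs, hda, hdb⟩ := exists_two_primes (s := s) h2 hl₁ hl₂ h12 h22 hne hd₁ hd₂
  obtain ⟨x, hx, hxa⟩ := exists_order_of_map_top f K hK ha hda
  obtain ⟨y, hy, hyb⟩ := exists_order_of_map_top f K hK hb hdb
  refine false_of_commute hG hs ha hb hab ⟨u, hu⟩ ?_ ?_
  · have := ord_mul (hc x hx).symm (by rw [hu, hxa]; exact (Nat.coprime_primes hs ha).2 has.symm)
    rwa [hu, hxa] at this
  · have := ord_mul (hc y hy).symm (by rw [hu, hyb]; exact (Nat.coprime_primes hs hb).2 hbs.symm)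
    rwa [hu, hyb] at this

end

end Cfsg.Agent.H577
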