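import Cfsg.Agent.H577.FewRadTwo

/-!
# The solvable radical of a group in which no prime divides three element orders is a 2-group: conclusion
-/

set_option autoImplicit false

namespace Cfsg.Agent.H577

open Subgroup Cfsg
open scoped IsMulCommutative

variable {G T : Type*} [Group G] [Finite G] [Group T]

/-- `(ii-a)`: no elements of order `2 s`. -/
theorem aux_no_two_s (hT : TopFactor T) (hG : Few G) (f : G →* T) (hf : Function.Surjective f)
    {s : ℕ} (hs : s.Prime) (hs2 : s ≠ 2) (U : Subgroup G) [hUn : U.Normal] [hUc : IsMulCommutative U]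
    (hU1 : U ≠ ⊥) (hUe : ∀ x ∈ U, x ^ s = 1)
    (hC : Subgroup.centralizer (U : Set G) ≤ f.ker) (h2s : ¬ Ord G (2 * s)) : False := by
  classical
  have hTs := hT.simple
  have hTf : Finite T := Finite.of_surjective f hf
  have h2' : Fact (Nat.Prime 2) := ⟨Nat.prime_two⟩
  obtain ⟨l₁, l₂, hl₁, hl₂, h12, h22, hne, hd₁, hd₂⟩ := hT.odd
  -- involutions invert `U`
  have hinv : ∀ t : G, orderOf t = 2 → ∀ u ∈ U, t * u * t⁻¹ = u⁻¹ := by
    intro t ht u hu
    have htt : t * t = 1 := by rw [← pow_two, ← ht, pow_orderOf_eq_one]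
    have hti : t⁻¹ = t := inv_eq_of_mul_eq_one_left htt
    have hu' : t * u * t⁻¹ ∈ U := hUn.conj_mem u hu t
    have hcomm : u * (t * u * t⁻¹) = (t * u * t⁻¹) * u := congrArg Subtype.val (mul_comm (⟨u, hu⟩ : U) ⟨_, hu'⟩)
    set w := u * (t * u * t⁻¹) with hw
    have hwU : w ∈ U := U.mul_mem hu hu'
    have htw : t * w = w * t := by
      calc t * w = t * u * t⁻¹ * (t * t * u * t⁻¹) := by rw [hw]; group
        _ = t * u * t⁻¹ * (u * t) := by rw [htt, one_mul, hti]
        _ = (t * u * t⁻¹ * u) * t := by group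
        _ = w * t := by rw [← hcomm]
    by_cases hw1 : w = 1
    · rw [hw] at hw1
      exact eq_inv_of_mul_eq_one_right hw1
    · exfalso
      apply h2s
      have how : orderOf w = s := by
        have := Fact.mk hs
        exact orderOf_eq_prime (hUe w hwU) hw1
      have := ord_mul (x := t) (y := w) htw (by rw [ht, how]; exact (Nat.coprime_primes Nat.prime_two hs).2 hs2.symm)
      rwa [ht, how] at this
  have hcent : ∀ t : G, orderOf t = 2 → ∀ g : G, t * (g * t * g⁻¹) ∈ centralizer (U : Set G) := by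
    intro t ht g
    have ht' : orderOf (g * t * g⁻¹) = 2 := by
      have h1 : orderOf (MulAut.conj g t) = orderOf t := orderOf_injective (MulAut.conj g).toMonoidHom
        (MulAut.conj g).injective t
      rw [MulAut.conj_apply] at h1
      rw [h1, ht]
    rw [Subgroup.mem_centralizer_iff]
    intro u hu
    have h1 := hinv _ ht' u hu
    have h3 := hinv t ht _ (U.inv_mem hu)
    rw [inv_inv] at h3
    have h5 : t * (g * t * g⁻¹) * u * (t * (g * t * g⁻¹))⁻¹ = u := by
      calc t * (g * t * g⁻¹) * u * (t * (g * t * g⁻¹))⁻¹ =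
            t * ((g * t * g⁻¹) * u * (g * t * g⁻¹)⁻¹) * t⁻¹ := by group
        _ = t * u⁻¹ * t⁻¹ := by rw [h1]
        _ = u := h3
    rw [mul_inv_eq_iff_eq_mul] at h5
    exact h5.symm
  -- an involution
  have h2G : 2 ∣ Nat.card G := hT.two.trans (Subgroup.card_dvd_of_surjective f hf)
  obtain ⟨t, ht⟩ := exists_prime_orderOf_dvd_card' (G := G) 2 h2G
  have htt : t * t = 1 := by rw [← pow_two, ← ht, pow_orderOf_eq_one]
  have hti : t⁻¹ = t := inv_eq_of_mul_eq_one_left htt
  -- `t` is not in the centralizer of `U`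
  have htC : t ∉ centralizer (U : Set G) := by
    intro htC
    obtain ⟨u, hu1⟩ := Subgroup.ne_bot_iff_exists_ne_one.1 hU1
    have h1 := hinv t ht u.1 u.2
    rw [Subgroup.mem_centralizer_iff] at htC
    rw [← htC u.1 u.2, mul_inv_cancel_right] at h1
    have h3 : (u : G) ^ 2 = 1 := by rw [pow_two]; nth_rw 1 [h1]; rw [inv_mul_cancel]
    have h5 : orderOf (u : G) ∣ 1 := by
      have h6 : Nat.Coprime 2 s := (Nat.coprime_primes Nat.prime_two hs).2 hs2.symm
      rw [← h6]
      exact Nat.dvd_gcd (orderOf_dvd_of_pow_eq_one h3) (orderOf_dvd_of_pow_eq_one (hUe _ u.2))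
    apply hu1
    exact Subtype.ext (orderOf_eq_one_iff.1 (Nat.dvd_one.1 h5))
  -- the quotient by the centralizer
  set C : Subgroup G := centralizer (U : Set G) with hCdef
  have hCn : C.Normal := inferInstance
  have hGC := hG.quotient C
  let f' : G ⧸ C →* T := QuotientGroup.lift C f (fun x hx => hC hx)
  have hf' : Function.Surjective f' := by
    intro y
    obtain ⟨x, rfl⟩ := hf y
    exact ⟨QuotientGroup.mk x, rfl⟩
  have htop : (⊤ : Subgroup (G ⧸ C)).map f' = ⊤ := Subgroup.map_top_of_surjective f' hf'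
  have ho : orderOf (QuotientGroup.mk' C t) = 2 := by
    have h1 : orderOf (QuotientGroup.mk' C t) ∣ 2 := by rw [← ht]; exact orderOf_map_dvd _ _
    rcases (Nat.dvd_prime Nat.prime_two).1 h1 with h | h
    · exfalso
      rw [orderOf_eq_one_iff, ← MonoidHom.mem_ker, QuotientGroup.ker_mk'] at h
      exact htC h
    · exact h
  refine false_of_centralizer hGC f' ⊤ htop hT.two hl₁ hl₂ h12 h22 hne hd₁ hd₂ Nat.prime_two
    (QuotientGroup.mk' C t) ho ?_
  intro x _
  obtain ⟨g, rfl⟩ := QuotientGroup.mk'_surjective C x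
  show QuotientGroup.mk' C g * QuotientGroup.mk' C t = QuotientGroup.mk' C t * QuotientGroup.mk' C g
  rw [← map_mul, ← map_mul]
  have h1 : (t * g)⁻¹ * (g * t) ∈ C := by
    have h3 := hcent t ht g⁻¹
    rw [inv_inv] at h3
    have h5 : (t * g)⁻¹ * (g * t) = (t * (g⁻¹ * t * g))⁻¹ := by
      calc (t * g)⁻¹ * (g * t) = g⁻¹ * t⁻¹ * g * t := by group
        _ = g⁻¹ * t⁻¹ * g * t⁻¹ := by rw [hti]
        _ = (t * (g⁻¹ * t * g))⁻¹ := by group
    rw [h5]
    exact C.inv_mem h3
  exact (QuotientGroup.eq.2 h1).symm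

/-- The case `O₂(G) = 1`. -/
theorem ker_eq_bot (hT : TopFactor T) (hG : Few G) (f : G →* T) (hf : Function.Surjective f)
    (hsolv : Group.IsSolvable f.ker) (hcore : pCore 2 G = ⊥) : f.ker = ⊥ := by
  classical
  by_contra hne
  have hTs := hT.simple
  have hTf : Finite T := Finite.of_surjective f hf
  obtain ⟨l₁, l₂, hl₁, hl₂, h12, h22, hnel, hd₁, hd₂⟩ := hT.odd
  obtain ⟨s, U, hs, hUn, hU1, hUk, hUc, hUe⟩ := exists_normal_elem f.ker hne hsolv
  have hsf := Fact.mk hs
  have hs2 : s ≠ 2 := by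
    rintro rfl
    apply hU1
    rw [eq_bot_iff, ← hcore]
    apply Cfsg.Agent.Lib.Cores.le_pCore hUn
    intro x
    exact ⟨1, Subtype.ext (by simpa using hUe x x.2)⟩
  obtain ⟨u, hu1⟩ := Subgroup.ne_bot_iff_exists_ne_one.1 hU1
  have huo : orderOf (u : G) = s := by
    refine orderOf_eq_prime (hUe _ u.2) ?_
    intro h
    exact hu1 (Subtype.ext h)
  have hCn : ((centralizer (U : Set G)).map f).Normal :=
    Cfsg.Agent.Lib.Cores.map_normal_of_surjective hf inferInstance
  rcases hTs.eq_bot_or_eq_top_of_normal _ hCn with h | h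
  · have hC : centralizer (U : Set G) ≤ f.ker := (Subgroup.map_eq_bot_iff _).1 h
    by_cases h2s : Ord G (2 * s)
    · exact aux_two_s hT hG f hf hs hs2 U hUk hUe hC h2s
    · exact aux_no_two_s hT hG f hf hs hs2 U hU1 hUe hC h2s
  · refine false_of_centralizer hG f _ h hT.two hl₁ hl₂ h12 h22 hnel hd₁ hd₂ hs (u : G) huo ?_
    intro x hx
    exact (Subgroup.mem_centralizer_iff.1 hx _ u.2).symm

/-- **The kernel is `O₂(G)`.** -/
theorem ker_eq_pCore (hT : TopFactor T) (hG : Few G) (f : G →* T) (hf : Function.Surjective f)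
    (hsolv : Group.IsSolvable f.ker) : f.ker = pCore 2 G := by
  classical
  have hTs := hT.simple
  have hTf : Finite T := Finite.of_surjective f hf
  have h2' : Fact (Nat.Prime 2) := ⟨Nat.prime_two⟩
  obtain ⟨l₁, l₂, hl₁, hl₂, h12, h22, hnel, hd₁, hd₂⟩ := hT.odd
  -- `O₂(G) ≤ ker f`
  have hle : pCore 2 G ≤ f.ker := by
    have hn : ((pCore 2 G).map f).Normal :=
      Cfsg.Agent.Lib.Cores.map_normal_of_surjective hf (Cfsg.Agent.Lib.Cores.pCore_normal 2)
    rcases hTs.eq_bot_or_eq_top_of_normal _ hn with h | h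
    · exact (Subgroup.map_eq_bot_iff _).1 h
    · exfalso
      have h1 : IsPGroup 2 ((pCore 2 G).map f) := (Cfsg.Agent.Lib.Cores.pCore_isPGroup 2).map f
      rw [h] at h1
      obtain ⟨n, hn⟩ := IsPGroup.iff_card.1 h1
      rw [Subgroup.card_top] at hn
      rw [hn] at hd₁
      exact h12 ((Nat.prime_dvd_prime_iff_eq hl₁ Nat.prime_two).1 (hl₁.dvd_of_dvd_pow hd₁))
  let f' : G ⧸ pCore 2 G →* T := QuotientGroup.lift (pCore 2 G) f (fun x hx => hle hx)
  have hf' : Function.Surjective f' := by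
    intro y
    obtain ⟨x, rfl⟩ := hf y
    exact ⟨QuotientGroup.mk x, rfl⟩
  have hker : f'.ker = f.ker.map (QuotientGroup.mk' (pCore 2 G)) := by
    ext x
    obtain ⟨g, rfl⟩ := QuotientGroup.mk'_surjective _ x
    constructor
    · intro hx
      exact ⟨g, hx, rfl⟩
    · rintro ⟨y, hy, hyx⟩
      rw [← hyx]
      exact hy
  have hsolv' : Group.IsSolvable f'.ker := by
    rw [hker]
    exact Group.isSolvable_of_surjective (f := (QuotientGroup.mk' (pCore 2 G)).subgroupMap f.ker)
      ((QuotientGroup.mk' (pCore 2 G)).subgroupMap_surjective f.ker)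
  have h1 := ker_eq_bot hT (hG.quotient (pCore 2 G)) f' hf' hsolv'
    (Cfsg.Agent.Lib.Cores.pCore_quotient_pCore 2)
  refine le_antisymm ?_ hle
  intro x hx
  have h3 : QuotientGroup.mk' (pCore 2 G) x ∈ f'.ker := hx
  rw [h1, Subgroup.mem_bot, ← MonoidHom.mem_ker, QuotientGroup.ker_mk'] at h3
  exact h3

end Cfsg.Agent.H577
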