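import Cfsg.Agent.H577.FewRad

/-!
# The solvable radical of a group in which no prime divides three element orders is a 2-group
-/

set_option autoImplicit false

namespace Cfsg.Agent.H577

open Subgroup Cfsg
open scoped IsMulCommutative

/-- Hypotheses on the simple top factor. -/
structure TopFactor (T : Type*) [Group T] : Prop where
  simple : IsSimpleGroup T
  nonab : ∃ a b : T, a * b ≠ b * a
  two : 2 ∣ Nat.card T
  odd : ∃ l₁ l₂ : ℕ, l₁.Prime ∧ l₂.Prime ∧ l₁ ≠ 2 ∧ l₂ ≠ 2 ∧ l₁ ≠ l₂ ∧ l₁ ∣ Nat.card T ∧ l₂ ∣ Nat.card T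
  alt : Ord T 4 ∨ ∃ (S : Sylow 2 T) (l : ℕ) (c : T), l.Prime ∧ l ≠ 2 ∧ orderOf c = l ∧
    (∀ e ∈ S, c * e * c⁻¹ ∈ S) ∧ ∀ e ∈ S, c * e * c⁻¹ = e → e = 1

theorem center_eq_one {T : Type*} [Group T] [hs : IsSimpleGroup T] (hna : ∃ a b : T, a * b ≠ b * a) {z : T}
    (hz : ∀ g : T, g * z * g⁻¹ = z) : z = 1 := by
  have hzc : z ∈ Subgroup.center T := by
    rw [Subgroup.mem_center_iff]
    intro g
    have := hz g
    rw [mul_inv_eq_iff_eq_mul] at this
    exact this
  rcases hs.eq_bot_or_eq_top_of_normal (Subgroup.center T) inferInstance with h | h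
  · rw [h, Subgroup.mem_bot] at hzc
    exact hzc
  · exfalso
    obtain ⟨a, b, hab⟩ := hna
    have ha : a ∈ Subgroup.center T := by rw [h]; exact Subgroup.mem_top a
    rw [Subgroup.mem_center_iff] at ha
    exact hab (ha b).symm

variable {G T : Type*} [Group G] [Finite G] [Group T]

/-- `(ii-b)`: the case with elements of order `2 s`. -/
theorem aux_two_s (hT : TopFactor T) (hG : Few G) (f : G →* T) (hf : Function.Surjective f)
    {s : ℕ} (hs : s.Prime) (hs2 : s ≠ 2) (U : Subgroup G) [hUn : U.Normal] [hUc : IsMulCommutative U]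
    (hUk : U ≤ f.ker) (hUe : ∀ x ∈ U, x ^ s = 1)
    (hC : Subgroup.centralizer (U : Set G) ≤ f.ker) (h2s : Ord G (2 * s)) : False := by
  classical
  have hTs := hT.simple
  have hTf : Finite T := Finite.of_surjective f hf
  have h2' : Fact (Nat.Prime 2) := ⟨Nat.prime_two⟩
  obtain ⟨l₁, l₂, hl₁, hl₂, h12, h22, hne, hd₁, hd₂⟩ := hT.odd
  have hoS : Ord G s := h2s.dvd (dvd_mul_left _ _)
  -- no elements of order four
  have h4 : ¬ Ord G 4 := by
    intro h4
    refine hG.false Nat.prime_two (h4.dvd (by norm_num : 2 ∣ 4)) h4 h2s (by norm_num) ?_ ?_ (by norm_num)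
      (by norm_num) (dvd_mul_right _ _)
    · intro h; apply hs2; omega
    · intro h; have := hs.one_lt; omega
  obtain ⟨S, l, c, hl, hl2, hcl, hcS, hcf⟩ : ∃ (S : Sylow 2 T) (l : ℕ) (c : T), l.Prime ∧ l ≠ 2 ∧
      orderOf c = l ∧ (∀ e ∈ S, c * e * c⁻¹ ∈ S) ∧ ∀ e ∈ S, c * e * c⁻¹ = e → e = 1 := by
    rcases hT.alt with h | h
    · exact absurd (h.of_surjective f hf) h4
    · exact h
  -- 2-subgroups have exponent 2
  have hexp : ∀ x : G, (∃ k : ℕ, x ^ 2 ^ k = 1) → x ^ 2 = 1 := by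
    rintro x ⟨k, hk⟩
    obtain ⟨j, hj, hj'⟩ := (Nat.dvd_prime_pow Nat.prime_two).1 (orderOf_dvd_of_pow_eq_one hk)
    rcases Nat.lt_or_ge j 2 with h | h
    · rw [← orderOf_dvd_iff_pow_eq_one, hj']
      exact pow_dvd_pow 2 (by omega : j ≤ 1)
    · exfalso
      apply h4
      refine Ord.dvd ⟨x, rfl⟩ ?_
      rw [hj']
      exact pow_dvd_pow 2 h
  have hexpP : ∀ P : Sylow 2 G, ∀ x ∈ P, x ^ 2 = 1 := by
    intro P x hx
    apply hexp
    obtain ⟨k, hk⟩ := P.isPGroup' ⟨x, hx⟩
    exact ⟨k, congrArg Subtype.val hk⟩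
  have hcommP : ∀ P : Sylow 2 G, ∀ x ∈ P, ∀ y ∈ P, x * y = y * x := by
    intro P x hx y hy
    have h1 := hexpP P x hx
    have h3 := hexpP P y hy
    have h5 := hexpP P (x * y) (P.mul_mem hx hy)
    rw [pow_two] at h1 h3 h5
    have hxi : x⁻¹ = x := inv_eq_of_mul_eq_one_left h1
    have hyi : y⁻¹ = y := inv_eq_of_mul_eq_one_left h3
    have h6 : (x * y)⁻¹ = x * y := inv_eq_of_mul_eq_one_left h5
    rw [mul_inv_rev, hxi, hyi] at h6
    exact h6.symm
  -- images of Sylow 2-subgroups are nontrivial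
  have hPne : ∀ P : Sylow 2 G, ∃ x ∈ P, f x ≠ 1 := by
    intro P
    by_contra hcon
    push Not at hcon
    have h1 : (P.mapSurjective hf : Subgroup T) = ⊥ := by
      rw [eq_bot_iff]
      rintro _ ⟨x, hx, rfl⟩
      rw [Subgroup.mem_bot]
      exact hcon x hx
    have h3 := (P.mapSurjective hf).card_eq_multiplicity
    have h5 : Nat.card (P.mapSurjective hf : Subgroup T) = 1 := by
      rw [h1, Subgroup.card_bot]
    rw [h5] at h3
    have h6 : 0 < (Nat.card T).factorization 2 :=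
      Nat.prime_two.factorization_pos_of_dvd Nat.card_pos.ne' hT.two
    have h7 : 1 < 2 ^ (Nat.card T).factorization 2 := Nat.one_lt_two_pow h6.ne'
    omega
  -- the kernel has odd order
  have hodd : ¬ 2 ∣ Nat.card f.ker := by
    intro hdvd
    obtain ⟨Q⟩ : Nonempty (Sylow 2 f.ker) := inferInstance
    set Q' : Subgroup G := (Q : Subgroup f.ker).map f.ker.subtype with hQ'
    have hQ'p : IsPGroup 2 Q' := Q.isPGroup'.map _
    obtain ⟨P, hP⟩ := hQ'p.exists_le_sylow
    have hfr : normalizer (Q' : Set G) ⊔ f.ker = ⊤ := Sylow.normalizer_sup_eq_top Q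
    have hM : (normalizer (Q' : Set G)).map f = ⊤ := by
      have h1 := congrArg (Subgroup.map f) hfr
      rw [Subgroup.map_sup, (Subgroup.map_eq_bot_iff _).2 le_rfl, sup_bot_eq,
        Subgroup.map_top_of_surjective f hf] at h1
      exact h1
    -- the centralizer of `Q'`
    have hCn : ((centralizer (Q' : Set G)).map f).Normal := by
      constructor
      rintro _ ⟨x, hx, rfl⟩ t
      have ht : t ∈ (normalizer (Q' : Set G)).map f := by rw [hM]; exact Subgroup.mem_top t
      obtain ⟨m, hm, rfl⟩ := ht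
      refine ⟨m * x * m⁻¹, ?_, by simp⟩
      rw [SetLike.mem_coe, Subgroup.mem_centralizer_iff]
      intro q hq
      have hq' : m⁻¹ * q * m ∈ Q' := by
        have := (Subgroup.mem_normalizer_iff.1 (Subgroup.inv_mem _ hm) q).1 hq
        simpa using this
      have h1 := Subgroup.mem_centralizer_iff.1 hx _ hq'
      calc q * (m * x * m⁻¹) = m * ((m⁻¹ * q * m) * x) * m⁻¹ := by group
        _ = m * (x * (m⁻¹ * q * m)) * m⁻¹ := by rw [h1]
        _ = m * x * m⁻¹ * q := by group
    have hCtop : (centralizer (Q' : Set G)).map f = ⊤ := by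
      rcases hTs.eq_bot_or_eq_top_of_normal _ hCn with h | h
      · exfalso
        obtain ⟨x, hx, hx1⟩ := hPne P
        apply hx1
        have : f x ∈ (centralizer (Q' : Set G)).map f := by
          refine ⟨x, ?_, rfl⟩
          rw [SetLike.mem_coe, Subgroup.mem_centralizer_iff]
          intro q hq
          exact hcommP P q (hP hq) x hx
        rw [h, Subgroup.mem_bot] at this
        exact this
      · exact h
    -- an involution of `Q'`
    have hQne : 2 ∣ Nat.card Q := by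
      have h3 := Q.card_eq_multiplicity
      have h6 : 0 < (Nat.card f.ker).factorization 2 :=
        Nat.prime_two.factorization_pos_of_dvd Nat.card_pos.ne' hdvd
      rw [h3]
      exact dvd_pow_self 2 h6.ne'
    obtain ⟨z, hz⟩ := exists_prime_orderOf_dvd_card' (G := Q) 2 hQne
    have hzo : orderOf (((z : f.ker) : G)) = 2 := by
      rw [Subgroup.orderOf_coe, Subgroup.orderOf_coe]; exact hz
    refine false_of_centralizer hG f _ hCtop hT.two hl₁ hl₂ h12 h22 hne hd₁ hd₂ Nat.prime_two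
      ((z : f.ker) : G) hzo ?_
    intro x hx
    exact (Subgroup.mem_centralizer_iff.1 hx _ ⟨z, z.2, rfl⟩).symm
  -- a Sylow 2-subgroup above `S`
  obtain ⟨P, hPS⟩ := Sylow.mapSurjective_surjective hf 2 S
  have hPS' : (P : Subgroup G).map f = S := by rw [← hPS]; rfl
  have hPinf : ∀ x ∈ P, f x = 1 → x = 1 := by
    intro x hx hfx
    have h1 : orderOf x ∣ 2 := orderOf_dvd_of_pow_eq_one (hexpP P x hx)
    rcases (Nat.dvd_prime Nat.prime_two).1 h1 with h | h
    · exact orderOf_eq_one_iff.1 h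
    · exfalso
      apply hodd
      have h3 := orderOf_dvd_natCard (⟨x, MonoidHom.mem_ker.2 hfx⟩ : f.ker)
      rw [Subgroup.orderOf_mk, h] at h3
      exact h3
  -- lift `c` to an element normalising `P`
  obtain ⟨x₂, hx₂P, hx₂c⟩ : ∃ x : G, (∀ y ∈ P, x * y * x⁻¹ ∈ P) ∧ f x = c := by
    obtain ⟨x₀, hx₀⟩ := hf c
    set L : Subgroup G := (S : Subgroup T).comap f with hL
    have hPL : (P : Subgroup G) ≤ L := by
      intro y hy
      show f y ∈ S
      have : f y ∈ (P : Subgroup G).map f := ⟨y, hy, rfl⟩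
      rw [hPS'] at this
      exact this
    have hPL' : ((x₀ • P : Sylow 2 G) : Subgroup G) ≤ L := by
      rintro _ ⟨y, hy, rfl⟩
      show f (x₀ * y * x₀⁻¹) ∈ S
      rw [map_mul, map_mul, map_inv, hx₀]
      exact hcS _ (hPL hy)
    obtain ⟨g, hg⟩ := MulAction.exists_smul_eq L (P.subtype hPL) ((x₀ • P).subtype hPL')
    rw [Sylow.smul_subtype] at hg
    have hg' : (g • P : Sylow 2 G) = x₀ • P := Sylow.subtype_injective hg
    have hx₁ : ∀ y ∈ P, ((g : G)⁻¹ * x₀) * y * ((g : G)⁻¹ * x₀)⁻¹ ∈ P := by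
      intro y hy
      have h1 : x₀ * y * x₀⁻¹ ∈ (x₀ • P : Sylow 2 G) := ⟨y, hy, rfl⟩
      rw [← hg'] at h1
      obtain ⟨w, hw, hw'⟩ := h1
      have h3 : (g : G) * w * (g : G)⁻¹ = x₀ * y * x₀⁻¹ := hw'
      have h5 : ((g : G)⁻¹ * x₀) * y * ((g : G)⁻¹ * x₀)⁻¹ = w := by
        calc ((g : G)⁻¹ * x₀) * y * ((g : G)⁻¹ * x₀)⁻¹ = (g : G)⁻¹ * (x₀ * y * x₀⁻¹) * g := by group
          _ = (g : G)⁻¹ * ((g : G) * w * (g : G)⁻¹) * g := by rw [h3]
          _ = w := by group
      rw [h5]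
      exact hw
    have hgS : f (g : G) ∈ (P : Subgroup G).map f := by
      rw [hPS']
      exact g.2
    obtain ⟨y, hy, hyg⟩ := hgS
    refine ⟨y * ((g : G)⁻¹ * x₀), ?_, ?_⟩
    · intro w hw
      have h1 := P.mul_mem (P.mul_mem hy (hx₁ w hw)) (P.inv_mem hy)
      have h3 : y * (((g : G)⁻¹ * x₀) * w * ((g : G)⁻¹ * x₀)⁻¹) * y⁻¹ =
          y * ((g : G)⁻¹ * x₀) * w * (y * ((g : G)⁻¹ * x₀))⁻¹ := by group
      rwa [h3] at h1
    · rw [map_mul, map_mul, map_inv, hyg, hx₀, mul_inv_cancel_left]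
  -- an `l`-element
  obtain ⟨x, hxP, hxc, k, hxl⟩ : ∃ x : G, (∀ y ∈ P, x * y * x⁻¹ ∈ P) ∧ f x = c ∧ ∃ k, orderOf x = l ^ k := by
    have hlf := Fact.mk hl
    have hpow : ∀ n : ℕ, ∀ y ∈ P, x₂ ^ n * y * (x₂ ^ n)⁻¹ ∈ P := by
      intro n
      induction n with
      | zero => intro y hy; simpa using hy
      | succ n ih =>
        intro y hy
        have h1 := hx₂P _ (ih y hy)
        have h3 : x₂ * (x₂ ^ n * y * (x₂ ^ n)⁻¹) * x₂⁻¹ = x₂ ^ (n + 1) * y * (x₂ ^ (n + 1))⁻¹ := by
          rw [pow_succ']; group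
        rwa [h3] at h1
    have hn0 : orderOf x₂ ≠ 0 := (orderOf_pos x₂).ne'
    obtain ⟨a, m, hm, ham⟩ := Nat.exists_eq_pow_mul_and_not_dvd hn0 l hl.ne_one
    have hcop : Nat.Coprime m l := ((Nat.Prime.coprime_iff_not_dvd hl).2 hm).symm
    obtain ⟨k, -, hk⟩ := Nat.exists_mul_mod_eq_one_of_coprime hcop hl.one_lt
    refine ⟨x₂ ^ (m * k), hpow _, ?_, a, ?_⟩
    · rw [map_pow, hx₂c, ← pow_mod_orderOf, hcl, hk, pow_one]
    · have hkl : Nat.Coprime k (l ^ a) := by
        apply Nat.Coprime.pow_right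
        rw [Nat.coprime_comm, Nat.Prime.coprime_iff_not_dvd hl]
        intro hdvd
        have h1 : m * k % l = 0 := Nat.mod_eq_zero_of_dvd (hdvd.mul_left m)
        omega
      rw [pow_mul]
      have h1 : orderOf (x₂ ^ m) = l ^ a := by
        have hm0 : 0 < m := Nat.pos_of_ne_zero (by rintro rfl; simp at hm)
        rw [orderOf_pow' _ hm0.ne', ham, Nat.gcd_eq_right (dvd_mul_left _ _), Nat.mul_div_cancel _ hm0]
      rw [← h1] at hkl ⊢
      exact Nat.Coprime.orderOf_pow hkl.symm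
  -- powers of `x` which act trivially
  have hPnt : ∃ t ∈ P, orderOf t = 2 := by
    obtain ⟨t, ht, ht1⟩ := hPne P
    refine ⟨t, ht, ?_⟩
    have h1 : orderOf t ∣ 2 := orderOf_dvd_of_pow_eq_one (hexpP P t ht)
    rcases (Nat.dvd_prime Nat.prime_two).1 h1 with h | h
    · exfalso
      rw [orderOf_eq_one_iff] at h
      rw [h, map_one] at ht1
      exact ht1 rfl
    · exact h
  have hcomml : ∀ y ∈ P, Commute (x ^ l) y := by
    intro y hy
    have hfl : f (x ^ l) = 1 := by rw [map_pow, hxc, ← hcl, pow_orderOf_eq_one]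
    have hpow : ∀ n : ℕ, ∀ y ∈ P, x ^ n * y * (x ^ n)⁻¹ ∈ P := by
      intro n
      induction n with
      | zero => intro y hy; simpa using hy
      | succ n ih =>
        intro y hy
        have h1 := hxP _ (ih y hy)
        have h3 : x * (x ^ n * y * (x ^ n)⁻¹) * x⁻¹ = x ^ (n + 1) * y * (x ^ (n + 1))⁻¹ := by
          rw [pow_succ']; group
        rwa [h3] at h1
    have h1 : x ^ l * y * (x ^ l)⁻¹ * y⁻¹ = 1 := by
      apply hPinf
      · exact P.mul_mem (hpow l y hy) (P.inv_mem hy)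
      · rw [map_mul, map_mul, map_mul, map_inv, map_inv, hfl]
        group
    have h3 : x ^ l * y * (x ^ l)⁻¹ = y := by
      rw [mul_inv_eq_one] at h1
      exact h1
    show x ^ l * y = y * x ^ l
    rw [mul_inv_eq_iff_eq_mul] at h3
    exact h3
  have hxl1 : orderOf x = l := by
    obtain ⟨t, ht, ht2⟩ := hPnt
    have hk0 : k ≠ 0 := by
      rintro rfl
      rw [pow_zero, orderOf_eq_one_iff] at hxl
      rw [hxl, map_one] at hxc
      rw [← hxc, orderOf_one] at hcl
      exact hl.one_lt.ne hcl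
    by_contra hcon
    have hk1 : k ≠ 1 := by
      rintro rfl
      rw [pow_one] at hxl
      exact hcon hxl
    have hk2 : 2 ≤ k := by omega
    have ho : orderOf (x ^ l) = l ^ (k - 1) := by
      rw [orderOf_pow' _ hl.ne_zero, hxl]
      have h1 : l ^ k = l ^ (k - 1) * l := by
        rw [← pow_succ]; congr 1; omega
      rw [h1, Nat.gcd_eq_right (dvd_mul_left _ _), Nat.mul_div_cancel _ hl.pos]
    have hcop : (orderOf (x ^ l)).Coprime (orderOf t) := by
      rw [ho, ht2]
      exact Nat.Coprime.pow_left _ ((Nat.coprime_primes hl Nat.prime_two).2 hl2)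
    have h2l : Ord G (l * 2) := by
      refine (ord_mul (hcomml t ht) hcop).dvd ?_
      rw [ho, ht2]
      exact Nat.mul_dvd_mul_right (dvd_pow_self l (by omega)) 2
    have hll : Ord G (l * l) := by
      refine Ord.dvd ⟨x, rfl⟩ ?_
      rw [hxl, ← pow_two]
      exact pow_dvd_pow l hk2
    refine hG.false hl (hll.dvd (dvd_mul_left _ _)) hll h2l ?_ ?_ ?_ dvd_rfl (dvd_mul_left _ _)
      (dvd_mul_right _ _)
    · intro h
      have := hl.one_lt
      nlinarith
    · intro h
      exact hl2 (Nat.eq_of_mul_eq_mul_left hl.pos h)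
    · intro h
      have := hl.one_lt
      omega
  -- the order modulo `U`
  have hxU : orderOf (QuotientGroup.mk' U x) = l := by
    have h1 : orderOf (QuotientGroup.mk' U x) ∣ l := by
      rw [← hxl1]; exact orderOf_map_dvd _ _
    rcases (Nat.dvd_prime hl).1 h1 with h | h
    · exfalso
      rw [orderOf_eq_one_iff, ← MonoidHom.mem_ker, QuotientGroup.ker_mk'] at h
      have h3 : f x = 1 := hUk h
      rw [hxc] at h3
      rw [h3, orderOf_one] at hcl
      exact hl.one_lt.ne hcl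
    · exact h
  -- the norm lemma
  have hnorm := exists_norm_ne_one (V := U) (MulAut.conjNormal : G →* MulAut U) (P : Subgroup G) ?_ x hl.pos hxP ?_ ?_
  · obtain ⟨v, hv⟩ := hnorm
    have hls := ord_mul_of_norm hs hUe x hxU v hv
    refine hG.false hs hoS h2s hls ?_ ?_ ?_ dvd_rfl (dvd_mul_left _ _) (dvd_mul_left _ _)
    · have := hs.pos; omega
    · intro h
      exact hl2 (Nat.eq_of_mul_eq_mul_right hs.pos h).symm
    · intro h
      have := hl.one_lt
      have := hs.pos
      nlinarith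
  · intro v hv
    have h1 : v ^ s = 1 := Subtype.ext (hUe _ v.2)
    have h3 : (orderOf v) ∣ 1 := by
      have h5 : Nat.Coprime (Nat.card (P : Subgroup G)) s := by
        rw [P.card_eq_multiplicity]
        exact Nat.Coprime.pow_left _ ((Nat.coprime_primes Nat.prime_two hs).2 hs2.symm)
      rw [← h5]
      exact Nat.dvd_gcd (orderOf_dvd_of_pow_eq_one hv) (orderOf_dvd_of_pow_eq_one h1)
    exact orderOf_eq_one_iff.1 (Nat.dvd_one.1 h3)
  · intro i hi hil e he h
    -- `c ^ i` commutes with `f e`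
    apply hPinf e he
    have h1 : c ^ i * f e * (c ^ i)⁻¹ = f e := by
      have := congrArg f h
      rwa [map_mul, map_mul, map_inv, map_pow, hxc] at this
    have h3 : Commute (c ^ i) (f e) := by
      show c ^ i * f e = f e * c ^ i
      rw [mul_inv_eq_iff_eq_mul] at h1
      exact h1
    have hcop : Nat.Coprime i l := by
      rw [Nat.coprime_comm, Nat.Prime.coprime_iff_not_dvd hl]
      exact Nat.not_dvd_of_pos_of_lt hi hil
    obtain ⟨k, -, hk⟩ := Nat.exists_mul_mod_eq_one_of_coprime hcop hl.one_lt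
    have h5 : Commute c (f e) := by
      have h6 := h3.pow_left k
      rw [← pow_mul, ← pow_mod_orderOf, hcl, hk, pow_one] at h6
      exact h6
    apply hcf
    · have : f e ∈ (P : Subgroup G).map f := ⟨e, he, rfl⟩
      rw [hPS'] at this
      exact this
    · rw [mul_inv_eq_iff_eq_mul]
      exact h5
  · by_contra hcon
    push Not at hcon
    obtain ⟨t, ht, ht1⟩ := hPne P
    apply ht1
    apply hC
    rw [Subgroup.mem_centralizer_iff]
    intro u hu
    have h1 := congrArg Subtype.val (hcon t ht ⟨u, hu⟩)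
    rw [MulAut.conjNormal_apply] at h1
    simp only at h1
    rw [mul_inv_eq_iff_eq_mul] at h1
    exact h1.symm

end Cfsg.Agent.H577
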