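import Cfsg.Agent.ClassicalGeometry.AutPSL.Main
import Cfsg.Agent.ClassicalGeometry.PSLTorus
import Cfsg.Agent.SmallSimple.PSLTwoPart
import Cfsg.Agent.H577.Few

/-!
# Elements of `PSL(2, F)`
-/

set_option autoImplicit false

namespace Cfsg.Agent.H577.Psl2

open Matrix
open Cfsg.Agent.ClassicalGeometry.AutPSL.Root (pr pr_surjective)

abbrev SL2 (F : Type*) [Field F] := Matrix.SpecialLinearGroup (Fin 2) F
abbrev P2 (F : Type*) [Field F] := Matrix.ProjectiveSpecialLinearGroup (Fin 2) F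

variable {F : Type*} [Field F]

/-- the matrix with rows `a b`, `c d` -/
def m2 (a b c d : F) (h : a * d - b * c = 1) : SL2 F := ⟨!![a, b; c, d], by rw [det_fin_two_of, h]⟩

theorem m2_ext {a b c d a' b' c' d' : F} {h : a * d - b * c = 1} {h' : a' * d' - b' * c' = 1}
    (h1 : a = a') (h2 : b = b') (h3 : c = c') (h4 : d = d') : m2 a b c d h = m2 a' b' c' d' h' := by
  subst h1; subst h2; subst h3; subst h4; rfl

theorem m2_mul {a b c d a' b' c' d' : F} {h : a * d - b * c = 1} {h' : a' * d' - b' * c' = 1} :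
    m2 a b c d h * m2 a' b' c' d' h' =
      m2 (a * a' + b * c') (a * b' + b * d') (c * a' + d * c') (c * b' + d * d')
        (by linear_combination (a' * d' - b' * c') * h + h') := by
  apply Subtype.ext
  show !![a, b; c, d] * !![a', b'; c', d'] = _
  rw [mul_fin_two]
  rfl

theorem m2_inj {a b c d a' b' c' d' : F} {h : a * d - b * c = 1} {h' : a' * d' - b' * c' = 1}
    (he : m2 a b c d h = m2 a' b' c' d' h') : a = a' ∧ b = b' ∧ c = c' ∧ d = d' := by
  have h1 : !![a, b; c, d] = !![a', b'; c', d'] := congrArg Subtype.val he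
  refine ⟨?_, ?_, ?_, ?_⟩
  · simpa using congrFun (congrFun h1 0) 0
  · simpa using congrFun (congrFun h1 0) 1
  · simpa using congrFun (congrFun h1 1) 0
  · simpa using congrFun (congrFun h1 1) 1

theorem m2_one : (1 : SL2 F) = m2 1 0 0 1 (by ring) := by
  apply Subtype.ext
  show (1 : Matrix (Fin 2) (Fin 2) F) = !![1, 0; 0, 1]
  exact one_fin_two

theorem m2_neg {a b c d : F} {h : a * d - b * c = 1} :
    -(m2 a b c d h) = m2 (-a) (-b) (-c) (-d) (by linear_combination h) := by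
  apply Subtype.ext
  show -(!![a, b; c, d]) = !![-a, -b; -c, -d]
  ext i j
  fin_cases i <;> fin_cases j <;> rfl

theorem m2_inv {a b c d : F} {h : a * d - b * c = 1} :
    (m2 a b c d h)⁻¹ = m2 d (-b) (-c) a (by linear_combination h) := by
  rw [inv_eq_iff_mul_eq_one, m2_mul, m2_one]
  apply m2_ext
  · linear_combination h
  · ring
  · ring
  · linear_combination h

theorem exists_m2 (x : SL2 F) : ∃ (a b c d : F) (h : a * d - b * c = 1), x = m2 a b c d h := by
  have hd := x.2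
  rw [det_fin_two] at hd
  refine ⟨x.1 0 0, x.1 0 1, x.1 1 0, x.1 1 1, hd, ?_⟩
  apply Subtype.ext
  exact eta_fin_two x.1

theorem pr_eq_one_iff (x : SL2 F) : pr x = 1 ↔ x = 1 ∨ x = -1 :=
  ClassicalGeometry.PSLTorus.pr_eq_one_iff x

theorem pr_eq_iff (x y : SL2 F) : pr x = pr y ↔ x = y ∨ x = -y :=
  ClassicalGeometry.PSLTorus.pr_eq_iff x y

theorem pr_m2_eq_one {a b c d : F} {h : a * d - b * c = 1} :
    pr (m2 a b c d h) = 1 ↔ b = 0 ∧ c = 0 ∧ a = d := by
  rw [pr_eq_one_iff, m2_one, m2_neg]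
  constructor
  · rintro (h1 | h1)
    · obtain ⟨e1, e2, e3, e4⟩ := m2_inj h1
      exact ⟨e2, e3, by rw [e1, e4]⟩
    · obtain ⟨e1, e2, e3, e4⟩ := m2_inj h1
      exact ⟨by rw [e2]; ring, by rw [e3]; ring, by rw [e1, e4]⟩
  · rintro ⟨e1, e2, e3⟩
    subst e1; subst e2; subst e3
    have h1 : (a - 1) * (a + 1) = 0 := by linear_combination h
    rcases mul_eq_zero.1 h1 with h2 | h2
    · left
      have : a = 1 := by linear_combination h2
      apply m2_ext <;> simp [this]
    · right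
      have : a = -1 := by linear_combination h2
      apply m2_ext <;> simp [this]

/-- diagonal matrices -/
def dg : Fˣ →* SL2 F where
  toFun a := m2 (a : F) 0 0 ((a⁻¹ : Fˣ) : F) (by simp)
  map_one' := by rw [m2_one]; apply m2_ext <;> simp
  map_mul' a b := by rw [m2_mul]; apply m2_ext <;> simp [mul_comm]

theorem dg_apply (a : Fˣ) : dg a = m2 (a : F) 0 0 ((a⁻¹ : Fˣ) : F) (by simp) := rfl

/-- upper unitriangular matrices -/
def uu : Multiplicative F →* SL2 F where
  toFun x := m2 1 x.toAdd 0 1 (by simp)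
  map_one' := by rw [m2_one]; apply m2_ext <;> simp
  map_mul' a b := by rw [m2_mul]; apply m2_ext <;> simp [add_comm]

theorem uu_apply (x : F) : uu (Multiplicative.ofAdd x) = m2 1 x 0 1 (by simp) := rfl

theorem pr_dg_eq_one {a : Fˣ} : pr (dg a) = 1 ↔ a ^ 2 = 1 := by
  rw [dg_apply, pr_m2_eq_one]
  simp only [true_and]
  rw [Units.val_inj, eq_inv_iff_mul_eq_one, pow_two]

theorem pr_uu_eq_one {x : Multiplicative F} : pr (uu x) = 1 ↔ x = 1 := by
  rw [show uu x = m2 1 x.toAdd 0 1 (by simp) from rfl, pr_m2_eq_one]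
  simp

theorem dg_conj_uu (a : Fˣ) (x : F) :
    dg a * uu (Multiplicative.ofAdd x) * (dg a)⁻¹ = uu (Multiplicative.ofAdd ((a : F) ^ 2 * x)) := by
  rw [dg_apply, uu_apply, uu_apply, m2_inv, m2_mul, m2_mul]
  have h := a.mul_inv
  apply m2_ext
  · simp
  · linear_combination 0 * h
  · simp
  · simp

theorem orderOf_pr_dg (a : Fˣ) : orderOf (pr (dg a)) = orderOf (a ^ 2) := by
  rw [orderOf_eq_orderOf_iff]
  intro n
  rw [← map_pow, ← map_pow, pr_dg_eq_one, ← pow_mul, ← pow_mul, mul_comm]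

theorem ord_minus [Fintype F] : Ord (P2 F) ((Fintype.card F - 1) / Nat.gcd 2 (Fintype.card F - 1)) := by
  classical
  obtain ⟨g, hg⟩ := IsCyclic.exists_generator (α := Fˣ)
  have h1 : orderOf g = Fintype.card F - 1 := by
    rw [orderOf_eq_card_of_forall_mem_zpowers hg, Nat.card_eq_fintype_card, Fintype.card_units]
  refine ⟨pr (dg g), ?_⟩
  rw [orderOf_pr_dg, orderOf_pow, h1, Nat.gcd_comm]

theorem ord_plus [Fintype F] : Ord (P2 F) ((Fintype.card F + 1) / Nat.gcd 2 (Fintype.card F - 1)) := by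
  classical
  obtain ⟨C, -, -, -, hC, hc, -⟩ := ClassicalGeometry.PSLTorus.exists_psl_torus F
  obtain ⟨g, hg⟩ := hC.exists_generator
  refine ⟨(g : P2 F), ?_⟩
  rw [Subgroup.orderOf_coe, orderOf_eq_card_of_forall_mem_zpowers hg, hc]

end Cfsg.Agent.H577.Psl2
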