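import Cfsg.Agent.H577.PslOdd
import Mathlib.NumberTheory.LegendreSymbol.QuadraticChar.GaussSum

/-!
# Groups between `PSL(2, F)` and its automorphism group: tools
-/

set_option autoImplicit false
set_option linter.unusedSectionVars false

namespace Cfsg.Agent.H577

open Matrix Subgroup
open Cfsg.Agent.ClassicalGeometry.AutPSL.Root (pr pr_surjective)
open Cfsg.Agent.ClassicalGeometry.AutPSL.Auto (cj fld lift itr coe_cj coe_fld_apply lift_pr)
open Cfsg.Agent.ClassicalGeometry.AutPSL.Main (cj_eq_one_of_scalar injective_aux surj_two surj_three)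
open Psl2

section general

variable {ι F : Type*} [Fintype ι] [DecidableEq ι] [Field F]

/-- an element of `SL` as an element of `GL` -/
def sg (M : Matrix.SpecialLinearGroup ι F) : GL ι F where
  val := M.1
  inv := (M⁻¹).1
  val_inv := congrArg Subtype.val (mul_inv_cancel M)
  inv_val := congrArg Subtype.val (inv_mul_cancel M)

theorem cj_sg (M x : Matrix.SpecialLinearGroup ι F) : cj (sg M) x = M * x * M⁻¹ := rfl

theorem lift_cj_sg (M : Matrix.SpecialLinearGroup ι F) : lift (cj (sg M)) = MulAut.conj (pr M) := by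
  apply MulEquiv.ext
  intro x
  obtain ⟨y, rfl⟩ := pr_surjective x
  rfl

theorem lift_fld_pr (σ : F ≃+* F) (M : Matrix.SpecialLinearGroup ι F) :
    lift (fld σ) (pr M) = pr (fld σ M) := rfl

/-- `φ ∘ conj x = conj (φ x) ∘ φ` -/
theorem aut_mul_conj {T : Type*} [Group T] (φ : MulAut T) (x : T) :
    φ * MulAut.conj x = MulAut.conj (φ x) * φ := by
  apply MulEquiv.ext
  intro y
  show φ (x * y * x⁻¹) = φ x * φ y * (φ x)⁻¹
  rw [map_mul, map_mul, map_inv]

theorem cj_eq_of_smul {A B : GL ι F} {r : F} (h : (A : Matrix ι ι F) = r • (B : Matrix ι ι F)) :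
    cj A = cj B := by
  have h1 : cj (A * B⁻¹) = 1 := by
    apply cj_eq_one_of_scalar (r := r)
    rw [Units.val_mul, h, smul_mul_assoc, ← Units.val_mul, mul_inv_cancel, Units.val_one, smul_one_eq_diagonal]
    rfl
  rw [map_mul, map_inv, mul_inv_eq_one] at h1
  exact h1

theorem fld_mul_cj (σ : F ≃+* F) (A : GL ι F) :
    fld σ * cj A = cj (Matrix.GeneralLinearGroup.map (σ : F →+* F) A) * fld σ := by
  apply MulEquiv.ext
  intro y
  apply Subtype.ext
  show (((σ : F →+* F).mapMatrix ((A : Matrix ι ι F) * y.1 * ((A⁻¹ : GL ι F) : Matrix ι ι F)))) =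
    ((σ : F →+* F).mapMatrix (A : Matrix ι ι F)) * ((σ : F →+* F).mapMatrix y.1) *
      (((σ : F →+* F).mapMatrix ((A⁻¹ : GL ι F) : Matrix ι ι F)))
  rw [map_mul, map_mul]

end general

variable {F : Type*} [Field F]

/-- the element of `GL(2, F)` with rows `a b`, `c d` -/
noncomputable def g2 (a b c d : F) (h : a * d - b * c ≠ 0) : GL (Fin 2) F :=
  Matrix.GeneralLinearGroup.mkOfDetNeZero !![a, b; c, d] (by rw [det_fin_two_of]; exact h)

theorem g2_coe (a b c d : F) (h : a * d - b * c ≠ 0) :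
    ((g2 a b c d h : GL (Fin 2) F) : Matrix (Fin 2) (Fin 2) F) = !![a, b; c, d] := rfl

theorem g2_mul {a b c d a' b' c' d' : F} {h : a * d - b * c ≠ 0} {h' : a' * d' - b' * c' ≠ 0} :
    g2 a b c d h * g2 a' b' c' d' h' =
      g2 (a * a' + b * c') (a * b' + b * d') (c * a' + d * c') (c * b' + d * d') (by
        have := mul_ne_zero h h'
        intro h0
        apply this
        linear_combination h0) := by
  apply Units.ext
  rw [Units.val_mul, g2_coe, g2_coe, g2_coe, mul_fin_two]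

theorem map_g2 (σ : F ≃+* F) {a b c d : F} {h : a * d - b * c ≠ 0} :
    Matrix.GeneralLinearGroup.map (σ : F →+* F) (g2 a b c d h) = g2 (σ a) (σ b) (σ c) (σ d) (by
      rw [← map_mul, ← map_mul, ← map_sub]
      intro h0
      apply h
      rwa [map_eq_zero_iff σ σ.injective] at h0) := by
  apply Units.ext
  show ((σ : F →+* F).mapMatrix !![a, b; c, d]) = !![σ a, σ b; σ c, σ d]
  ext i j
  fin_cases i <;> fin_cases j <;> rfl

/-- changing the matrix without changing the class of the determinant modulo squares -/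
theorem mem_of_det {Y : Subgroup (MulAut (P2 F))} (hY : ∀ x : P2 F, MulAut.conj x ∈ Y) {A B : GL (Fin 2) F}
    {σ : F ≃+* F} (h : lift (cj A * fld σ) ∈ Y) (hs : ∃ s : F, (B : Matrix (Fin 2) (Fin 2) F).det =
      s ^ 2 * (A : Matrix (Fin 2) (Fin 2) F).det) : lift (cj B * fld σ) ∈ Y := by
  obtain ⟨s, hs⟩ := hs
  have hA : (A : Matrix (Fin 2) (Fin 2) F).det ≠ 0 := by
    intro h0
    have h1 : (A : Matrix (Fin 2) (Fin 2) F).det * ((A⁻¹ : GL (Fin 2) F) : Matrix (Fin 2) (Fin 2) F).det = 1 := by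
      rw [← det_mul, ← Units.val_mul, mul_inv_cancel, Units.val_one, det_one]
    rw [h0, zero_mul] at h1
    exact zero_ne_one h1
  have hB : (B : Matrix (Fin 2) (Fin 2) F).det ≠ 0 := by
    intro h0
    have h1 : (B : Matrix (Fin 2) (Fin 2) F).det * ((B⁻¹ : GL (Fin 2) F) : Matrix (Fin 2) (Fin 2) F).det = 1 := by
      rw [← det_mul, ← Units.val_mul, mul_inv_cancel, Units.val_one, det_one]
    rw [h0, zero_mul] at h1
    exact zero_ne_one h1
  have hs0 : s ≠ 0 := by
    rintro rfl
    apply hB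
    rw [hs]; ring
  have hAi : (A : Matrix (Fin 2) (Fin 2) F).det * ((A⁻¹ : GL (Fin 2) F) : Matrix (Fin 2) (Fin 2) F).det = 1 := by
    rw [← det_mul, ← Units.val_mul, mul_inv_cancel, Units.val_one, det_one]
  let M : SL2 F := ⟨s⁻¹ • ((B * A⁻¹ : GL (Fin 2) F) : Matrix (Fin 2) (Fin 2) F), by
    rw [det_smul, Units.val_mul, det_mul, hs, Fintype.card_fin, mul_assoc (s ^ 2), hAi, mul_one, inv_pow,
      inv_mul_cancel₀ (pow_ne_zero 2 hs0)]⟩
  have hM : cj B = cj (sg M) * cj A := by
    rw [← map_mul]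
    apply cj_eq_of_smul (r := s)
    show (B : Matrix (Fin 2) (Fin 2) F) = s • ((s⁻¹ • ((B * A⁻¹ : GL (Fin 2) F) : Matrix (Fin 2) (Fin 2) F)) *
      (A : Matrix (Fin 2) (Fin 2) F))
    rw [smul_mul_assoc, smul_smul, mul_inv_cancel₀ hs0, one_smul, ← Units.val_mul, inv_mul_cancel_right]
  rw [hM, mul_assoc, map_mul, lift_cj_sg]
  exact Y.mul_mem (hY _) h

/-- the field automorphism part, if the determinant is a square -/
theorem fld_mem_of_isSquare {Y : Subgroup (MulAut (P2 F))} (hY : ∀ x : P2 F, MulAut.conj x ∈ Y) {A : GL (Fin 2) F}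
    {σ : F ≃+* F} (h : lift (cj A * fld σ) ∈ Y) {s : F} (hs : (A : Matrix (Fin 2) (Fin 2) F).det = s ^ 2) :
    lift (fld σ) ∈ Y := by
  have hs0 : s ≠ 0 := by
    rintro rfl
    have h1 : (A : Matrix (Fin 2) (Fin 2) F).det * ((A⁻¹ : GL (Fin 2) F) : Matrix (Fin 2) (Fin 2) F).det = 1 := by
      rw [← det_mul, ← Units.val_mul, mul_inv_cancel, Units.val_one, det_one]
    rw [hs] at h1
    simp at h1
  have h1 := mem_of_det hY (B := 1) h ⟨s⁻¹, by
    rw [hs, inv_pow, inv_mul_cancel₀ (pow_ne_zero 2 hs0), Units.val_one, det_one]⟩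
  rwa [map_one, one_mul] at h1

theorem fld_injective {σ τ : F ≃+* F} (h : lift (fld σ : MulAut (SL2 F)) = lift (fld τ)) : σ = τ := by
  have h1 : lift (cj (1 : GL (Fin 2) F) * fld σ) = lift (fld τ) := by rw [map_one, one_mul]; exact h
  exact (injective_aux h1).2

/-- order of a field automorphism -/
theorem orderOf_fld (σ : F ≃+* F) : orderOf (lift (fld σ : MulAut (SL2 F))) = orderOf σ := by
  rw [orderOf_eq_orderOf_iff]
  intro n
  rw [← map_pow, ← map_pow]
  constructor
  · intro h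
    apply fld_injective
    rw [h, map_one, map_one]
  · intro h
    rw [h, map_one, map_one]

theorem cj_ne_one {C : GL (Fin 2) F} (h : ¬ ∃ r : F, scalar (Fin 2) r = (C : Matrix (Fin 2) (Fin 2) F)) :
    lift (cj C) ≠ 1 := by
  intro h1
  apply h
  have h2 : lift (cj C * fld (1 : F ≃+* F)) = lift (fld 1) := by rw [map_one, mul_one, h1, map_one]
  exact (injective_aux h2).1

end Cfsg.Agent.H577
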