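import Cfsg.Agent.H577.PslAut
import Cfsg.Agent.StdL2.FGal

/-!
# `Few` groups between `PSL(2, F)` and its automorphism group
-/

set_option autoImplicit false
set_option linter.unusedSectionVars false

namespace Cfsg.Agent.H577

open Matrix Subgroup
open Cfsg.Agent.ClassicalGeometry.AutPSL.Root (pr pr_surjective)
open Cfsg.Agent.ClassicalGeometry.AutPSL.Auto (cj fld lift itr coe_cj coe_fld_apply lift_pr)
open Cfsg.Agent.ClassicalGeometry.AutPSL.Main (cj_eq_one_of_scalar injective_aux surj_two surj_three)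
open Psl2

/-- The reduction from extensions to subgroups of the automorphism group. -/
theorem eq_top_of_aut {X P : Type*} [Group X] [Finite X] [Group P] (T : Subgroup X) [T.Normal]
    (hc : centralizer (T : Set X) = ⊥) (e : T ≃* P) (hX : Few X)
    (hmain : ∀ Y : Subgroup (MulAut P), (∀ x : P, MulAut.conj x ∈ Y) → Few Y →
      ∀ α ∈ Y, ∃ x : P, α = MulAut.conj x) : T = ⊤ := by
  let Φ : X →* MulAut P := (MulAut.congr e).toMonoidHom.comp MulAut.conjNormal
  have hΦ : ∀ (x : X) (t : T), Φ x (e t) = e (MulAut.conjNormal x t) := by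
    intro x t
    show e (MulAut.conjNormal x (e.symm (e t))) = _
    rw [e.symm_apply_apply]
  have hinj : Function.Injective Φ := by
    rw [injective_iff_map_eq_one]
    intro x hx
    have h1 : x ∈ centralizer (T : Set X) := by
      rw [mem_centralizer_iff]
      intro t ht
      have h2 := hΦ x ⟨t, ht⟩
      rw [hx] at h2
      have h3 := e.injective h2
      have h4 := congrArg Subtype.val h3
      rw [MulAut.conjNormal_apply] at h4
      have h5 : t = x * t * x⁻¹ := h4
      rw [eq_mul_inv_iff_mul_eq] at h5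
      exact h5
    rw [hc, Subgroup.mem_bot] at h1
    exact h1
  have hconj : ∀ t : T, Φ (t : X) = MulAut.conj (e t) := by
    intro t
    apply MulEquiv.ext
    intro y
    obtain ⟨s, rfl⟩ := e.surjective y
    rw [hΦ]
    show _ = e t * e s * (e t)⁻¹
    rw [← map_mul, ← map_inv, ← map_mul]
    congr 1
  have hY := hmain Φ.range (fun x => by
    obtain ⟨t, rfl⟩ := e.surjective x
    exact ⟨t, hconj t⟩) (by
    have := hX.of_injective (MonoidHom.ofInjective hinj).symm.toMonoidHom (MonoidHom.ofInjective hinj).symm.injective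
    exact this)
  rw [eq_top_iff]
  intro x _
  obtain ⟨y, hy⟩ := hY (Φ x) ⟨x, rfl⟩
  obtain ⟨t, rfl⟩ := e.surjective y
  rw [← hconj] at hy
  rw [hinj hy]
  exact t.2

section

variable {F : Type*} [Field F]

theorem conj_injective {T : Type*} [Group T] [hs : IsSimpleGroup T] (hn : ∃ a b : T, a * b ≠ b * a) :
    Function.Injective (MulAut.conj : T →* MulAut T) := by
  rw [injective_iff_map_eq_one]
  intro z hz
  exact center_eq_one hn (fun g => by
    have h1 : MulAut.conj z g = g := by rw [hz]; rfl
    rw [MulAut.conj_apply, mul_inv_eq_iff_eq_mul] at h1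
    rw [mul_inv_eq_iff_eq_mul, h1])

/-- orders of commuting products -/
theorem commute_fld {σ : F ≃+* F} {M : SL2 F} (h : fld σ M = M) :
    Commute (MulAut.conj (pr M)) (lift (fld σ)) := by
  have h1 := aut_mul_conj (lift (fld σ)) (pr M)
  rw [lift_fld_pr, h] at h1
  exact h1.symm

/-- the order three element -/
def m3 (F : Type*) [Field F] : SL2 F := m2 0 1 (-1) (-1) (by ring)

theorem fld_m2 (σ : F ≃+* F) {a b c d : F} {h : a * d - b * c = 1} :
    fld σ (m2 a b c d h) = m2 (σ a) (σ b) (σ c) (σ d) (by rw [← map_mul, ← map_mul, ← map_sub, h, map_one]) := by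
  apply Subtype.ext
  show ((σ : F →+* F).mapMatrix !![a, b; c, d]) = !![σ a, σ b; σ c, σ d]
  ext i j
  fin_cases i <;> fin_cases j <;> rfl

theorem fld_m3 (σ : F ≃+* F) : fld σ (m3 F) = m3 F := by
  rw [m3, fld_m2]
  apply m2_ext <;> simp

theorem orderOf_m3 : orderOf (pr (m3 F)) = 3 := by
  have h3 := Fact.mk Nat.prime_three
  apply orderOf_eq_prime
  · rw [← map_pow, pow_succ, pow_two, m3, m2_mul, m2_mul, pr_m2_eq_one]
    refine ⟨by ring, by ring, by ring⟩
  · rw [Ne, m3, pr_m2_eq_one]
    rintro ⟨h, -, -⟩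
    exact one_ne_zero h

/-- the order two element -/
def mw (F : Type*) [Field F] : SL2 F := m2 0 1 (-1) 0 (by ring)

theorem fld_mw (σ : F ≃+* F) : fld σ (mw F) = mw F := by
  rw [mw, fld_m2]
  apply m2_ext <;> simp

theorem orderOf_mw : orderOf (pr (mw F)) = 2 := by
  have h3 := Fact.mk Nat.prime_two
  apply orderOf_eq_prime
  · rw [← map_pow, pow_two, mw, m2_mul, pr_m2_eq_one]
    refine ⟨by ring, by ring, by ring⟩
  · rw [Ne, mw, pr_m2_eq_one]
    rintro ⟨h, -, -⟩
    exact one_ne_zero h

theorem ord_of_pr {Y : Subgroup (MulAut (P2 F))} (hY : ∀ x : P2 F, MulAut.conj x ∈ Y)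
    (hi : Function.Injective (MulAut.conj : P2 F →* MulAut (P2 F))) {n : ℕ} (h : Ord (P2 F) n) : Ord Y n := by
  obtain ⟨x, rfl⟩ := h
  refine ⟨⟨MulAut.conj x, hY x⟩, ?_⟩
  rw [← Subgroup.orderOf_coe]
  exact orderOf_injective _ hi x

theorem ord_of_fixed {Y : Subgroup (MulAut (P2 F))} (hY : ∀ x : P2 F, MulAut.conj x ∈ Y)
    (hi : Function.Injective (MulAut.conj : P2 F →* MulAut (P2 F))) {σ : F ≃+* F} (hσ : lift (fld σ) ∈ Y)
    {M : SL2 F} (hM : fld σ M = M) {m r : ℕ} (hm : orderOf (pr M) = m) (hr : orderOf σ = r) (hc : m.Coprime r) :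
    Ord Y (m * r) := by
  have h1 : orderOf (MulAut.conj (pr M)) = m := by
    rw [← hm]
    exact orderOf_injective _ hi _
  have h2 : orderOf (lift (fld σ : MulAut (SL2 F))) = r := by rw [orderOf_fld, hr]
  refine ⟨⟨MulAut.conj (pr M) * lift (fld σ), Y.mul_mem (hY _) hσ⟩, ?_⟩
  rw [← Subgroup.orderOf_coe]
  show orderOf (MulAut.conj (pr M) * lift (fld σ)) = _
  rw [(commute_fld hM).orderOf_mul_eq_mul_orderOf_of_coprime (by rw [h1, h2]; exact hc), h1, h2]

theorem ord_of_fld {Y : Subgroup (MulAut (P2 F))} {σ : F ≃+* F} (hσ : lift (fld σ) ∈ Y) {r : ℕ}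
    (hr : orderOf σ = r) : Ord Y r := by
  refine ⟨⟨lift (fld σ), hσ⟩, ?_⟩
  rw [← Subgroup.orderOf_coe]
  show orderOf (lift (fld σ)) = _
  rw [orderOf_fld, hr]

/-- powers of `σ` of prime order -/
theorem exists_prime_fld [Finite F] {Y : Subgroup (MulAut (P2 F))} {σ : F ≃+* F} (hσ : lift (fld σ) ∈ Y)
    (h1 : σ ≠ 1) : ∃ (r : ℕ) (τ : F ≃+* F), r.Prime ∧ orderOf τ = r ∧ lift (fld τ) ∈ Y ∧
      Nat.card F = Nat.card {x : F // τ x = x} ^ r := by
  have h2 : orderOf σ ≠ 1 := fun h => h1 (orderOf_eq_one_iff.1 h)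
  have hfin : Finite (F ≃+* F) := Finite.of_injective (fun σ : F ≃+* F => (σ : F → F)) DFunLike.coe_injective
  have h0 : orderOf σ ≠ 0 := (orderOf_pos σ).ne'
  obtain ⟨r, hr, hrd⟩ := Nat.exists_prime_and_dvd h2
  have h3 : orderOf (σ ^ (orderOf σ / r)) = r := orderOf_pow_orderOf_div h0 hrd
  refine ⟨r, σ ^ (orderOf σ / r), hr, h3, ?_, ?_⟩
  · rw [map_pow, map_pow]
    exact Y.pow_mem hσ _
  · have := StdL2.FGal.card_fixed (σ ^ (orderOf σ / r))
    rwa [h3] at this

/-- the case of prime order different from 2 and 3 -/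
theorem false_of_fld {Y : Subgroup (MulAut (P2 F))} (hY : ∀ x : P2 F, MulAut.conj x ∈ Y)
    (hi : Function.Injective (MulAut.conj : P2 F →* MulAut (P2 F))) (hF : Few Y) {τ : F ≃+* F}
    (hτ : lift (fld τ) ∈ Y) {r : ℕ} (hr : r.Prime) (hr2 : r ≠ 2) (hr3 : r ≠ 3) (ho : orderOf τ = r) : False := by
  have h1 := ord_of_fld hτ ho
  have h2 := ord_of_fixed hY hi hτ (fld_mw τ) orderOf_mw ho ((Nat.coprime_primes Nat.prime_two hr).2 hr2.symm)
  have h3 := ord_of_fixed hY hi hτ (fld_m3 τ) orderOf_m3 ho ((Nat.coprime_primes Nat.prime_three hr).2 hr3.symm)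
  have := hr.pos
  exact hF.false hr h1 h2 h3 (by omega) (by omega) (by omega) dvd_rfl (Dvd.intro_left _ rfl) (Dvd.intro_left _ rfl)

end

section even

variable {F : Type*} [Field F] [Fintype F]

/-- square determinant: the automorphism is inner times field -/
theorem conj_of_det_sq {A : GL (Fin 2) F} {s : F} (hs : (A : Matrix (Fin 2) (Fin 2) F).det = s ^ 2) :
    ∃ x : P2 F, lift (cj A) = MulAut.conj x := by
  have hs0 : s ≠ 0 := by
    rintro rfl
    have h1 : (A : Matrix (Fin 2) (Fin 2) F).det * ((A⁻¹ : GL (Fin 2) F) : Matrix (Fin 2) (Fin 2) F).det = 1 := by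
      rw [← det_mul, ← Units.val_mul, mul_inv_cancel, Units.val_one, det_one]
    rw [hs] at h1
    simp at h1
  have h1 : lift (cj A * fld 1) ∈ (MulAut.conj : P2 F →* MulAut (P2 F)).range := by
    refine mem_of_det (A := 1) (fun x => MonoidHom.mem_range.2 ⟨x, rfl⟩) ?_
      ⟨s, by rw [Units.val_one, det_one, mul_one, hs]⟩
    rw [map_one, map_one, one_mul, map_one]
    exact one_mem _
  rw [map_one, mul_one] at h1
  obtain ⟨x, hx⟩ := h1
  exact ⟨x, hx.symm⟩

/-- **`q` even.** -/
theorem aut_even (hev : Even (Fintype.card F)) (h4 : 4 ≤ Fintype.card F) (Y : Subgroup (MulAut (P2 F)))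
    (hY : ∀ x : P2 F, MulAut.conj x ∈ Y) (hF : Few Y) : ∀ α ∈ Y, ∃ x : P2 F, α = MulAut.conj x := by
  classical
  intro α hα
  obtain ⟨p, hchar, n, hp, hn⟩ := FiniteField.card' (K := F)
  have hp2 : p = 2 := by
    rw [hn] at hev
    exact (Nat.Prime.even_iff hp).1 ((Nat.even_pow.1 hev).1)
  subst hp2
  have hf := Fact.mk Nat.prime_two
  have hs := TwoFusion.SLTwoFacts.isSimpleGroup_psl (F := F) (by omega)
  have hi := conj_injective (exists_noncomm (F := F) h4)
  obtain ⟨A, σ, rfl⟩ := surj_two 2 α
  obtain ⟨s, hs⟩ := FiniteField.isSquare_of_char_two (F := F) (ringChar.eq F 2) ((A : Matrix (Fin 2) (Fin 2) F).det)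
  rw [← pow_two] at hs
  have hσ := fld_mem_of_isSquare hY hα hs
  by_cases h1 : σ = 1
  · subst h1
    rw [map_one, mul_one]
    exact conj_of_det_sq hs
  · exfalso
    obtain ⟨r, τ, hr, hτ, hτY, hcard⟩ := exists_prime_fld hσ h1
    by_cases hr2 : r = 2
    · subst hr2
      -- order four
      obtain ⟨a, ha⟩ : ∃ a : F, τ a ≠ a := by
        by_contra hcon
        push Not at hcon
        have : τ = 1 := RingEquiv.ext hcon
        rw [this, orderOf_one] at hτ
        exact absurd hτ (by norm_num)
      have h4' : Ord Y 4 := by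
        refine ⟨⟨MulAut.conj (pr (uu (Multiplicative.ofAdd a))) * lift (fld τ), Y.mul_mem (hY _) hτY⟩, ?_⟩
        rw [← Subgroup.orderOf_coe]
        show orderOf (MulAut.conj (pr (uu (Multiplicative.ofAdd a))) * lift (fld τ)) = 2 ^ (1 + 1)
        have hτ2 : lift (fld τ) * lift (fld τ) = (1 : MulAut (P2 F)) := by
          have h5 : τ ^ 2 = 1 := by
            have := pow_orderOf_eq_one τ
            rwa [hτ] at this
          rw [← map_mul, ← map_mul, ← pow_two, h5, map_one, map_one]
        have hsq : (MulAut.conj (pr (uu (Multiplicative.ofAdd a))) * lift (fld τ)) ^ 2 =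
            MulAut.conj (pr (uu (Multiplicative.ofAdd (a + τ a)))) := by
          have h5 := aut_mul_conj (lift (fld τ)) (pr (uu (Multiplicative.ofAdd a)))
          have h6 : lift (fld τ) (pr (uu (Multiplicative.ofAdd a))) = pr (uu (Multiplicative.ofAdd (τ a))) := by
            rw [lift_fld_pr, uu_apply, uu_apply, fld_m2]
            congr 1
            apply m2_ext <;> simp
          rw [h6] at h5
          rw [pow_two, mul_assoc, ← mul_assoc (lift (fld τ)), h5, mul_assoc (MulAut.conj _) (lift (fld τ)), hτ2,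
            mul_one, ← map_mul, ← map_mul, ← map_mul, ofAdd_add]
        apply orderOf_eq_prime_pow
        · rw [pow_one, hsq]
          intro h
          have h7 := hi (h.trans (map_one _).symm)
          rw [pr_uu_eq_one] at h7
          have h8 : a + τ a = 0 := h7
          apply ha
          have h9 : (2 : F) = 0 := CharTwo.two_eq_zero
          linear_combination h8 - a * h9
        · rw [pow_succ, pow_one, pow_mul, hsq, ← map_pow, ← map_pow, ← map_pow]
          have h7 : (Multiplicative.ofAdd (a + τ a)) ^ 2 = 1 := by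
            rw [pow_two, ← ofAdd_add]
            have h9 : (2 : F) = 0 := CharTwo.two_eq_zero
            have h10 : a + τ a + (a + τ a) = 0 := by linear_combination (a + τ a) * h9
            rw [h10]; rfl
          rw [h7, map_one, map_one, map_one]
      have h2 := ord_of_pr hY hi ⟨_, orderOf_mw⟩
      have h6 := ord_of_fixed hY hi hτY (fld_m3 τ) orderOf_m3 hτ (by norm_num)
      exact hF.false Nat.prime_two h2 h4' h6 (by norm_num) (by norm_num) (by norm_num) (by norm_num)
        (by norm_num) (by norm_num)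
    · by_cases hr3 : r = 3
      · subst hr3
        have h3 := ord_of_pr hY hi ⟨_, orderOf_m3⟩
        have h6 := ord_of_fixed hY hi hτY (fld_mw τ) orderOf_mw hτ (by norm_num)
        have h9 : Ord Y 9 := by
          have hg : Nat.gcd 2 (Fintype.card F - 1) = 1 := by
            obtain ⟨m, hm⟩ := hev
            rw [Nat.Coprime.gcd_eq_one]
            rw [Nat.coprime_two_left]
            exact ⟨m - 1, by omega⟩
          set k := Nat.card {x : F // τ x = x} with hk
          rw [Nat.card_eq_fintype_card] at hcard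
          have h3k : k % 3 ≠ 0 := by
            intro h
            have : 3 ∣ Fintype.card F := by
              rw [hcard]
              exact dvd_pow (Nat.dvd_of_mod_eq_zero h) (by norm_num)
            rw [hn] at this
            have := Nat.prime_three.dvd_of_dvd_pow this
            omega
          have h9 : Fintype.card F % 9 = 1 ∨ Fintype.card F % 9 = 8 := by
            rw [hcard, Nat.pow_mod]
            have : k % 9 < 9 := Nat.mod_lt _ (by norm_num)
            have h' : k % 9 % 3 ≠ 0 := by omega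
            interval_cases k % 9 <;> simp_all
          rcases h9 with h9 | h9
          · have := ord_minus (F := F)
            rw [hg, Nat.div_one] at this
            exact ord_of_pr hY hi (this.dvd (by omega))
          · have := ord_plus (F := F)
            rw [hg, Nat.div_one] at this
            exact ord_of_pr hY hi (this.dvd (by omega))
        exact hF.false Nat.prime_three h3 h6 h9 (by norm_num) (by norm_num) (by norm_num) (by norm_num)
          (by norm_num) (by norm_num)
      · exact false_of_fld hY hi hF hτY hr hr2 hr3 hτ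

end even

end Cfsg.Agent.H577
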