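import Cfsg.Agent.H577.PslTop
import Cfsg.Agent.Lib.PSL2Torus

/-!
# `PSL(2, q)`, `q ≡ 3, 5 mod 8`: the normalizer of a Sylow 2-subgroup
-/

set_option autoImplicit false
set_option linter.unusedSectionVars false

namespace Cfsg.Agent.H577

open Matrix Subgroup
open Cfsg.Agent.ClassicalGeometry.AutPSL.Root (pr pr_surjective)
open Psl2

/-- A four-group permuted by an element of order three. -/
theorem altV_of {T : Type*} [Group T] [Finite T] (I J W : T) (hI : I * I = 1) (hJ : J * J = 1)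
    (hIJ : J * I = I * J) (hI1 : I ≠ 1) (hJ1 : J ≠ 1) (hne : I ≠ J) (hWI : W * I * W⁻¹ = J)
    (hWJ : W * J * W⁻¹ = I * J) (hW : W ^ 3 = 1) (h8 : ¬ 8 ∣ Nat.card T) : AltV T := by
  classical
  have hf := Fact.mk Nat.prime_two
  have hf3 := Fact.mk Nat.prime_three
  have e1 : ∀ x, I * (I * x) = x := fun x => by rw [← mul_assoc, hI, one_mul]
  have e2 : ∀ x, J * (J * x) = x := fun x => by rw [← mul_assoc, hJ, one_mul]
  have e3 : ∀ x, J * (I * x) = I * (J * x) := fun x => by rw [← mul_assoc, hIJ, mul_assoc]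
  have hIJ1 : I * J ≠ 1 := by
    intro h
    apply hne
    calc I = I * (J * J) := by rw [hJ, mul_one]
      _ = J := by rw [← mul_assoc, h, one_mul]
  let S : Subgroup T :=
    { carrier := {x | x = 1 ∨ x = I ∨ x = J ∨ x = I * J}
      one_mem' := Or.inl rfl
      mul_mem' := by
        rintro x y (rfl | rfl | rfl | rfl) (rfl | rfl | rfl | rfl) <;>
          simp [hI, hJ, hIJ, e1, e3, mul_assoc]
      inv_mem' := by
        have i1 : I⁻¹ = I := inv_eq_of_mul_eq_one_left hI
        have i2 : J⁻¹ = J := inv_eq_of_mul_eq_one_left hJ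
        rintro x (rfl | rfl | rfl | rfl) <;> simp [i1, i2, hIJ] }
  have hmem : ∀ x, x ∈ S ↔ (x = 1 ∨ x = I ∨ x = J ∨ x = I * J) := fun x => Iff.rfl
  have hcS : Nat.card S = 4 := by
    have h1 : (S : Set T) = (({1, I, J, I * J} : Finset T) : Set T) := by
      ext x
      simp [hmem]
    have h2 : Nat.card S = (S : Set T).ncard := rfl
    have n1 : I ≠ I * J := fun h => hJ1 (by
      have : I * 1 = I * J := by rw [mul_one]; exact h
      exact (mul_left_cancel this).symm)
    have n2 : J ≠ I * J := fun h => hI1 (by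
      have : 1 * J = I * J := by rw [one_mul]; exact h
      exact (mul_right_cancel this).symm)
    rw [h2, h1, Set.ncard_coe_finset]
    rw [Finset.card_insert_of_notMem, Finset.card_insert_of_notMem, Finset.card_insert_of_notMem,
      Finset.card_singleton]
    · simpa using n2
    · simp only [Finset.mem_insert, Finset.mem_singleton, not_or]
      exact ⟨hne, n1⟩
    · simp only [Finset.mem_insert, Finset.mem_singleton, not_or]
      exact ⟨hI1.symm, hJ1.symm, hIJ1.symm⟩
  have hSp : IsPGroup 2 S := IsPGroup.of_card (n := 2) (by rw [hcS]; norm_num)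
  have hind : ¬ 2 ∣ S.index := by
    intro h
    apply h8
    rw [← S.card_mul_index, hcS]
    obtain ⟨m, hm⟩ := h
    exact ⟨m, by rw [hm]; ring⟩
  have hW1 : W ≠ 1 := by
    rintro rfl
    apply hne
    simpa using hWI
  have hWIJ : W * (I * J) * W⁻¹ = I := by
    calc W * (I * J) * W⁻¹ = (W * I * W⁻¹) * (W * J * W⁻¹) := by group
      _ = J * (I * J) := by rw [hWI, hWJ]
      _ = I := by rw [e3, hJ, mul_one]
  refine ⟨hSp.toSylow hind, 3, W, Nat.prime_three, by norm_num, orderOf_eq_prime hW hW1, ?_, ?_⟩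
  · intro e he
    have he' : e = 1 ∨ e = I ∨ e = J ∨ e = I * J := he
    show W * e * W⁻¹ = 1 ∨ W * e * W⁻¹ = I ∨ W * e * W⁻¹ = J ∨ W * e * W⁻¹ = I * J
    rcases he' with rfl | rfl | rfl | rfl
    · left; simp
    · right; right; left; exact hWI
    · right; right; right; exact hWJ
    · right; left; exact hWIJ
  · intro e he h
    have he' : e = 1 ∨ e = I ∨ e = J ∨ e = I * J := he
    rcases he' with h1 | h1 | h1 | h1
    · exact h1
    · exfalso
      rw [h1, hWI] at h
      exact hne h.symm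
    · exfalso
      rw [h1, hWJ] at h
      apply hI1
      have : I * J = 1 * J := by rw [one_mul]; exact h
      exact mul_right_cancel this
    · exfalso
      rw [h1, hWIJ] at h
      apply hJ1
      have : I * 1 = I * J := by rw [mul_one]; exact h
      exact (mul_left_cancel this).symm

variable {F : Type*} [Field F] [Fintype F]

theorem two_ne_zero_of_odd (h : Odd (Fintype.card F)) : (2 : F) ≠ 0 :=
  (ClassicalGeometry.PSLTorus.two_ne_zero_iff_odd F).2 h

theorem altV_odd (h8 : Fintype.card F % 8 = 3 ∨ Fintype.card F % 8 = 5) : AltV (P2 F) := by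
  have hodd : Odd (Fintype.card F) := by
    rw [Nat.odd_iff]; omega
  have h2 := two_ne_zero_of_odd hodd
  obtain ⟨a, b, hab⟩ := Lib.PSL2Torus.exists_sum_sq h2 (-1 : F)
  obtain ⟨h, hh⟩ : ∃ h : F, 2 * h = 1 := ⟨2⁻¹, mul_inv_cancel₀ h2⟩
  have hcard := SmallSimple.PSLTwoPart.card_psl_two_odd hodd
  obtain ⟨i, hi⟩ : ∃ i : SL2 F, i = m2 0 1 (-1) 0 (by ring) := ⟨_, rfl⟩
  obtain ⟨j, hj⟩ : ∃ j : SL2 F, j = m2 a b b (-a) (by linear_combination -hab) := ⟨_, rfl⟩
  obtain ⟨k, hk⟩ : ∃ k : SL2 F, k = m2 b (-a) (-a) (-b) (by linear_combination -hab) := ⟨_, rfl⟩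
  obtain ⟨w, hw⟩ : ∃ w : SL2 F, w = m2 (-h * (1 + a + b)) (-h * (1 + b - a)) (-h * (b - a - 1))
      (-h * (1 - a - b)) (by linear_combination (2 * h + 1) * hh - 2 * h ^ 2 * hab) := ⟨_, rfl⟩
  have r1 : i * i = -1 := by
    rw [hi, m2_mul, m2_one, m2_neg]
    apply m2_ext <;> ring
  have r2 : j * j = -1 := by
    rw [hj, m2_mul, m2_one, m2_neg]
    apply m2_ext
    · linear_combination hab
    · ring
    · ring
    · linear_combination hab
  have r0 : i * j = k := by
    rw [hi, hj, hk, m2_mul]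
    apply m2_ext <;> ring
  have r3 : j * i = -k := by
    rw [hi, hj, hk, m2_mul, m2_neg]
    apply m2_ext <;> ring
  have r4 : w * i = j * w := by
    rw [hi, hj, hw, m2_mul, m2_mul]
    apply m2_ext
    · linear_combination h * hab
    · linear_combination -h * hab
    · linear_combination h * hab
    · linear_combination h * hab
  have r5 : w * j = k * w := by
    rw [hk, hj, hw, m2_mul, m2_mul]
    apply m2_ext <;> ring
  have r6 : w * w = w⁻¹ := by
    rw [hw, m2_mul, m2_inv]
    apply m2_ext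
    · linear_combination 2 * h ^ 2 * hab - h * (1 - a - b) * hh
    · linear_combination h * (1 - a + b) * hh
    · linear_combination -h * (1 - b + a) * hh
    · linear_combination 2 * h ^ 2 * hab - h * (1 + a + b) * hh
  have hm1 : pr (-1 : SL2 F) = 1 := by
    rw [pr_eq_one_iff]; right; rfl
  have hneg : ∀ x : SL2 F, pr (-x) = pr x := fun x => by
    rw [pr_eq_iff]; right; rfl
  refine altV_of (pr i) (pr j) (pr w) ?_ ?_ ?_ ?_ ?_ ?_ ?_ ?_ ?_ ?_
  · rw [← map_mul, r1, hm1]
  · rw [← map_mul, r2, hm1]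
  · rw [← map_mul, ← map_mul, r3, r0, hneg]
  · rw [hi, Ne, pr_m2_eq_one]
    rintro ⟨h1, -, -⟩
    exact one_ne_zero h1
  · rw [hj, Ne, pr_m2_eq_one]
    rintro ⟨h1, -, h3⟩
    have h4 : (2 : F) * a = 0 := by linear_combination h3
    rcases mul_eq_zero.1 h4 with h5 | h5
    · exact h2 h5
    · rw [h1, h5] at hab
      apply one_ne_zero (α := F)
      linear_combination hab
  · rw [hi, hj, Ne, pr_eq_iff, m2_neg]
    rintro (h1 | h1)
    · obtain ⟨e1, e2, e3, e4⟩ := m2_inj h1
      apply h2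
      linear_combination e2 - e3
    · obtain ⟨e1, e2, e3, e4⟩ := m2_inj h1
      apply h2
      linear_combination e2 - e3
  · rw [mul_inv_eq_iff_eq_mul, ← map_mul, ← map_mul, r4]
  · rw [mul_inv_eq_iff_eq_mul, ← map_mul, ← map_mul, ← map_mul, r0, r5]
  · rw [← map_pow, pow_succ, pow_two, r6, inv_mul_cancel, map_one]
  · rintro ⟨m, hm⟩
    rw [hm] at hcard
    have h1 : Fintype.card F * (Fintype.card F ^ 2 - 1) % 16 = 0 := by rw [← hcard]; omega
    obtain ⟨n, hn⟩ : ∃ n, Fintype.card F = 8 * n + 3 ∨ Fintype.card F = 8 * n + 5 := by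
      rcases h8 with h | h
      · exact ⟨Fintype.card F / 8, Or.inl (by omega)⟩
      · exact ⟨Fintype.card F / 8, Or.inr (by omega)⟩
    rcases hn with hn | hn
    · have e : Fintype.card F * (Fintype.card F ^ 2 - 1) = 16 * (32 * n ^ 3 + 36 * n ^ 2 + 13 * n + 1) + 8 := by
        rw [hn]
        have : (8 * n + 3) ^ 2 - 1 = 64 * n ^ 2 + 48 * n + 8 := by
          rw [Nat.sub_eq_iff_eq_add (Nat.one_le_pow _ _ (by omega))]; ring
        rw [this]; ring
      omega
    · have e : Fintype.card F * (Fintype.card F ^ 2 - 1) = 16 * (32 * n ^ 3 + 60 * n ^ 2 + 37 * n + 7) + 8 := by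
        rw [hn]
        have : (8 * n + 5) ^ 2 - 1 = 64 * n ^ 2 + 80 * n + 24 := by
          rw [Nat.sub_eq_iff_eq_add (Nat.one_le_pow _ _ (by omega))]; ring
        rw [this]; ring
      omega

/-- an element of order `2 r` -/
theorem exists_two_mul (h8 : Fintype.card F % 8 = 3 ∨ Fintype.card F % 8 = 5) (h5 : 5 < Fintype.card F) :
    ∃ r : ℕ, r.Prime ∧ r ≠ 2 ∧ (r ∣ Fintype.card F + 1 ∨ r ∣ Fintype.card F - 1) ∧ Ord (P2 F) (2 * r) := by
  have hg : Nat.gcd 2 (Fintype.card F - 1) = 2 := by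
    apply Nat.gcd_eq_left
    omega
  rcases h8 with h | h
  · have h1 := ord_plus (F := F)
    rw [hg] at h1
    obtain ⟨r, hr, hrd⟩ := Nat.exists_prime_and_dvd (n := (Fintype.card F + 1) / 4) (by omega)
    have hr2 : r ≠ 2 := by
      rintro rfl
      omega
    obtain ⟨m, hm⟩ := hrd
    refine ⟨r, hr, hr2, Or.inl ⟨4 * m, ?_⟩, h1.dvd ?_⟩
    · have : r * (4 * m) = 4 * (r * m) := by ring
      rw [this, ← hm]; omega
    · exact ⟨m, by rw [mul_assoc, ← hm]; omega⟩
  · have h1 := ord_minus (F := F)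
    rw [hg] at h1
    obtain ⟨r, hr, hrd⟩ := Nat.exists_prime_and_dvd (n := (Fintype.card F - 1) / 4) (by omega)
    have hr2 : r ≠ 2 := by
      rintro rfl
      omega
    obtain ⟨m, hm⟩ := hrd
    refine ⟨r, hr, hr2, Or.inr ⟨4 * m, ?_⟩, h1.dvd ?_⟩
    · have : r * (4 * m) = 4 * (r * m) := by ring
      rw [this, ← hm]; omega
    · exact ⟨m, by rw [mul_assoc, ← hm]; omega⟩

theorem notEven_odd (h8 : Fintype.card F % 8 = 3 ∨ Fintype.card F % 8 = 5) (h5 : 5 < Fintype.card F) :
    NotEven (P2 F) := by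
  obtain ⟨r, h1, h2, -, h3⟩ := exists_two_mul h8 h5
  exact Or.inl ⟨r, h1, h2, h3⟩

/-- a Frobenius subgroup with kernel `upp F` -/
theorem notEven_seven_nine {l : ℕ} (hl : l = 3 ∨ l = 4) (hF : Fintype.card F = 2 * l + 1) :
    NotEven (P2 F) := by
  classical
  right
  obtain ⟨g, hg⟩ := IsCyclic.exists_generator (α := Fˣ)
  have h1 : orderOf g = 2 * l := by
    rw [orderOf_eq_card_of_forall_mem_zpowers hg, Nat.card_eq_fintype_card, Fintype.card_units, hF]
    rfl
  refine ⟨upp F, pr (dg g), l, hl, ?_, ?_, ?_, ?_, ?_⟩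
  · rw [orderOf_pr_dg, orderOf_pow, h1, Nat.gcd_mul_right_left, Nat.mul_div_cancel_left _ (by norm_num)]
  · intro h
    have h2 := card_upp (F := F)
    rw [h, Subgroup.card_bot] at h2
    omega
  · rw [card_upp, hF]
    exact ⟨l, rfl⟩
  · intro e he
    exact conj_mem_upp g he
  · intro i hi0 hil e he h
    rw [← map_pow, ← map_pow] at h
    refine eq_one_of_conj (g ^ i) ?_ he h
    rw [← pow_mul]
    intro h2
    have h3 := Nat.le_of_dvd (by omega) (orderOf_dvd_of_pow_eq_one h2)
    omega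

end Cfsg.Agent.H577
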